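import Mathlib.RingTheory.MvPolynomial.Homogeneous
import Mathlib.Algebra.Order.Antidiag.FinsuppEquiv
import Mathlib.LinearAlgebra.Dimension.Constructions

/-! The dimension of the space of forms. -/

universe u

open MvPolynomial

namespace Groth.Agent.Curves16

theorem finrank_forms (k : Type u) [Field k] (d n : ℕ) :
    Module.finrank k (homogeneousSubmodule (Fin d) k n) = (d + n - 1).choose n := by
  classical
  let S : Set (Fin d →₀ ℕ) := {e | e.degree = n}
  let e : {a // a ∈ (Finset.univ : Finset (Fin d)).finsuppAntidiag n} ≃ S :=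
    Equiv.subtypeEquivRight fun a => by
      simp [S, Finset.mem_finsuppAntidiag, Finsupp.degree_eq_sum]
  haveI : Fintype S := Fintype.ofEquiv _ e
  let φ : homogeneousSubmodule (Fin d) k n ≃ₗ[k] (S →₀ k) :=
    (LinearEquiv.ofEq _ _ (homogeneousSubmodule_eq_finsupp_supported (σ := Fin d) (R := k) n)).trans
      (AddMonoidAlgebra.supportedEquivFinsupp S)
  rw [φ.finrank_eq, Module.finrank_finsupp_self, ← Fintype.card_congr e, Fintype.card_coe,
    Finset.card_finsuppAntidiag_nat_eq_choose, Finset.card_univ, Fintype.card_fin]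

end Groth.Agent.Curves16
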