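import Groth.Agent.Lib.CurvePoint
import Groth.Agent.CurveCohLib.Skyscraper
import Groth.Agent.CurveCohLib.Euler
import Groth.Agent.CurveCohLib.GlobGen

/-! `H¹` of the ideal of a rational point. -/

noncomputable section

set_option linter.style.haveILetI false
set_option linter.unusedSectionVars false
set_option backward.isDefEq.respectTransparency false
set_option backward.isDefEq.respectTransparency.types false

universe u

open CategoryTheory CategoryTheory.Limits AlgebraicGeometry TopologicalSpace Opposite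
open Groth.Agent.PnCoh.Finite (mapLin deltaLin)

namespace Groth.Agent.Curves16

open Groth.Agent

/-- The sequence of a closed point. -/
theorem shortExact_pt' {X : Scheme.{u}} (p : X) (hp : IsClosed ({p} : Set X)) :
    (ShortComplex.mk (ClSub.idealModι (CurvePoint.ptIdeal p hp)) (ClSub.toSubscheme (CurvePoint.ptIdeal p hp))
      (kernel.condition _)).ShortExact := by
  haveI := CurvePoint.epi_toSubscheme (CurvePoint.ptIdeal p hp)
  exact CurveSlope.shortExact_kernel_of_epi _

variable {X : Scheme.{u}} (k : Type u) [Field k] [IsAlgClosed k] [X.Over (Spec (CommRingCat.of k))]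
  [IsProper (X ↘ Spec (CommRingCat.of k))] (p : X) (hp : IsClosed ({p} : Set X))

/-- Constants surject onto the sections of a closed point. -/
theorem surjective_h0_toPoint :
    Function.Surjective (mapLin k (ClSub.toSubscheme (CurvePoint.ptIdeal p hp)) 0) := by
  haveI := CurveCohLib.isNoetherian_of_proper (k := k) (X := X)
  let Q := ClSub.quotMod (CurvePoint.ptIdeal p hp)
  have hQ : Coh.IsCoh Q := ParShLib.isCoh_quotMod _
  have hsupp : CohB1.support Q ⊆ ({p} : Finset X) := by
    simpa using CurvePoint.support_quot_subset p hp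
  letI := fun x : X => CurveCohLib.stalkModuleK k Q x
  obtain ⟨eQ, heQ⟩ := CurveCohLib.exists_h0Equiv (k := k) hQ (fun x hx => by
    obtain rfl : x = p := by simpa using hsupp hx
    exact hp) {p} hsupp
  let t₁ : Coh.HH X (Coh.structureModule X) 0 :=
    (Sheaf.H.equiv₀ (Coh.toAb (Coh.structureModule X)) isTerminalTop).symm (1 : Γ(X, ⊤))
  intro y
  haveI : Epi (ClSub.toSubscheme (CurvePoint.ptIdeal p hp)) := CurvePoint.epi_toSubscheme _
  let π := ((DerSch.stalkFunctor X p).map (ClSub.toSubscheme (CurvePoint.ptIdeal p hp))).hom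
  obtain ⟨z, hz⟩ := (ModuleCat.epi_iff_surjective
    ((DerSch.stalkFunctor X p).map (ClSub.toSubscheme (CurvePoint.ptIdeal p hp)))).1 inferInstance
    (eQ y ⟨p, Finset.mem_singleton_self p⟩)
  obtain ⟨a, rfl⟩ := CurveCohLib.GlobGen.exists_smul_one p z
  obtain ⟨c, hc⟩ := CurveSection.exists_stalkMap_sub_mem k hp a
  refine ⟨c • t₁, eQ.injective (funext fun x => ?_)⟩
  obtain ⟨x, hx⟩ := x
  obtain rfl : x = p := Finset.mem_singleton.1 hx
  rw [map_smul, map_smul, Pi.smul_apply, heQ]
  refine Eq.trans ?_ hz
  have h0 := CurvePoint.smul_quot_eq_zero x hp hc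
    (π ((Coh.structureModule X).presheaf.germ ⊤ x trivial (1 : Γ(X, ⊤))))
  rw [sub_smul, sub_eq_zero] at h0
  refine Eq.trans ?_ ((map_smul π a _).trans rfl).symm
  refine Eq.trans ?_ h0.symm
  refine congrArg (fun w : (DerSch.stalkFunctor X x).obj Q => Curv2.stalkMap k X x c • w) ?_
  refine Eq.trans ?_ (DerSch.stalkFunctor_map_germ x (ClSub.toSubscheme (CurvePoint.ptIdeal x hp)) ⊤ trivial
    (1 : Γ(X, ⊤))).symm
  refine congrArg (Q.presheaf.germ ⊤ x trivial) ?_
  refine (Sheaf.H.equiv₀_naturality isTerminalTop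
    ((QCoh.toAbFunctor X).map (ClSub.toSubscheme (CurvePoint.ptIdeal x hp))) t₁).symm.trans ?_
  exact congrArg ((ClSub.toSubscheme (CurvePoint.ptIdeal x hp)).app ⊤) (AddEquiv.apply_symm_apply _ _)

/-- The ideal of a point has no more `H¹` than the structure sheaf. -/
theorem injective_h1_ptMod :
    Function.Injective (mapLin k (ClSub.idealModι (CurvePoint.ptIdeal p hp)) 1) := by
  have hS := shortExact_pt' p hp
  rw [← LinearMap.ker_eq_bot, CurveCohLib.ker_mapLin_f_succ k hS 0, LinearMap.range_eq_bot]
  refine LinearMap.ker_eq_top.1 ?_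
  rw [CurveCohLib.ker_deltaLin k hS 0]
  exact LinearMap.range_eq_top.2 (surjective_h0_toPoint k p hp)

include k in
theorem subsingleton_h1_ptMod (h : Subsingleton (Coh.HH X (Coh.structureModule X) 1)) :
    Subsingleton (Coh.HH X (CurvePoint.ptMod p hp) 1) :=
  (injective_h1_ptMod k p hp).subsingleton

end Groth.Agent.Curves16
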