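import Groth.Agent.Lib.CurvePoint
import Groth.Agent.Lib.CurveTensor
import Groth.Agent.CurveCohLib.SubBundle
import Groth.Agent.CurveCohLib.GlobGen
import Groth.Agent.Curves16.PtH1
import Groth.Agent.SmoothReg.Scheme
import Groth.Agent.ConsPropLib.FibreLocFreeRank
import Groth.Agent.Lib.CurveDualPrep
import Groth.Agent.S10831

/-! A closed point of a curve has invertible ideal exactly when it is smooth. -/

noncomputable section

set_option linter.style.haveILetI false
set_option linter.unusedSectionVars false
set_option backward.isDefEq.respectTransparency false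
set_option backward.isDefEq.respectTransparency.types false

universe u

open CategoryTheory CategoryTheory.Limits AlgebraicGeometry TopologicalSpace Opposite

attribute [local instance] Curv2.resAlgebra

namespace Groth.Agent.Curves16

open Groth.Agent

variable {X : Scheme.{u}}

/-- The stalk of the ideal of a closed point is the maximal ideal. -/
theorem stalk_ptMod_equiv (P : X) (hP : IsClosed ({P} : Set X)) :
    Nonempty ((CurvePoint.ptMod P hP).presheaf.stalk P ≃ₗ[X.presheaf.stalk P]
      IsLocalRing.maximalIdeal (X.presheaf.stalk P)) := by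
  have hS := (shortExact_pt' P hP).map_of_exact (DerSch.stalkFunctor X P)
  let R := X.presheaf.stalk P
  let i := ((DerSch.stalkFunctor X P).map (ClSub.idealModι (CurvePoint.ptIdeal P hP))).hom
  let π := ((DerSch.stalkFunctor X P).map (ClSub.toSubscheme (CurvePoint.ptIdeal P hP))).hom
  let one : (DerSch.stalkFunctor X P).obj (Coh.structureModule X) :=
    (Coh.structureModule X).presheaf.germ ⊤ P trivial (1 : Γ(X, ⊤))
  obtain ⟨b₀⟩ := CurveTensor.exists_basis_stalk
    (InvEnd.isFinLocFreeOfRank_one (CurveDeg.isInvertible_structureModule (X := X))) P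
  let t : R →ₗ[R] (DerSch.stalkFunctor X P).obj (Coh.structureModule X) := LinearMap.toSpanSingleton R _ one
  have ht : Function.Bijective t := by
    have hs : Function.Surjective t := fun z => by
      obtain ⟨a, ha⟩ := CurveCohLib.GlobGen.exists_smul_one P z
      exact ⟨a, ha.symm⟩
    let T := (b₀.equivFun.trans (LinearEquiv.funUnique (Fin 1) R R)).toLinearMap.comp t
    have hT : Function.Surjective T :=
      (b₀.equivFun.trans (LinearEquiv.funUnique (Fin 1) R R)).surjective.comp hs
    exact ⟨fun a b hab => OrzechProperty.injective_of_surjective_endomorphism T hT (congrArg (b₀.equivFun.trans (LinearEquiv.funUnique (Fin 1) R R)) hab), hs⟩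
  let T := LinearEquiv.ofBijective t ht
  have hker : LinearMap.ker (π.comp t) = IsLocalRing.maximalIdeal R := by
    refine (IsLocalRing.maximalIdeal.isMaximal R).eq_of_le (fun htop => ?_) (fun a ha => ?_) |>.symm
    · refine CurvePoint.not_subsingleton_stalk P hP (subsingleton_of_forall_eq 0 fun q => ?_)
      obtain ⟨y, rfl⟩ := (ModuleCat.epi_iff_surjective _).1 hS.epi_g q
      obtain ⟨a, rfl⟩ := ht.2 y
      exact LinearMap.mem_ker.1 (htop.ge (Submodule.mem_top : a ∈ (⊤ : Submodule R R)))
    · rw [LinearMap.mem_ker, LinearMap.comp_apply]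
      change π (a • one) = 0
      rw [map_smul]
      exact CurvePoint.smul_quot_eq_zero P hP ha (π one)
  have hi : Function.Injective i := (ModuleCat.mono_iff_injective _).1 hS.mono_f
  have hrange : LinearMap.range (T.symm.toLinearMap.comp i) = IsLocalRing.maximalIdeal R := by
    rw [← hker]
    ext a
    rw [LinearMap.mem_ker, LinearMap.mem_range]
    constructor
    · rintro ⟨z, rfl⟩
      change π (T (T.symm (i z))) = 0
      rw [LinearEquiv.apply_symm_apply]
      exact ShortComplex.moduleCat_zero_apply ((ShortComplex.mk (ClSub.idealModι (CurvePoint.ptIdeal P hP)) (ClSub.toSubscheme (CurvePoint.ptIdeal P hP)) (kernel.condition _)).map (DerSch.stalkFunctor X P)) z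
    · intro ha
      obtain ⟨z, hz⟩ := (ShortComplex.moduleCat_exact_iff _).1 hS.exact (t a) ha
      exact ⟨z, T.injective ((T.apply_symm_apply _).trans hz)⟩
  exact ⟨(LinearEquiv.ofInjective (T.symm.toLinearMap.comp i) (T.symm.injective.comp hi)).trans
    (LinearEquiv.ofEq _ _ hrange)⟩

/-- Away from the point, the ideal is the structure sheaf. -/
theorem stalk_ptMod_free_of_ne (P : X) (hP : IsClosed ({P} : Set X)) {x : X} (hx : x ≠ P) :
    Nonempty (Module.Basis (Fin 1) (X.presheaf.stalk x) ((CurvePoint.ptMod P hP).presheaf.stalk x)) := by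
  have hS := (shortExact_pt' P hP).map_of_exact (DerSch.stalkFunctor X x)
  haveI := CurvePoint.subsingleton_stalk_of_ne P hP hx
  have hi : Function.Bijective
      ((DerSch.stalkFunctor X x).map (ClSub.idealModι (CurvePoint.ptIdeal P hP))).hom :=
    ⟨(ModuleCat.mono_iff_injective _).1 hS.mono_f, fun y => (ShortComplex.moduleCat_exact_iff _).1 hS.exact y
      (Subsingleton.elim (α := (ClSub.quotMod (CurvePoint.ptIdeal P hP)).presheaf.stalk x) _ _)⟩
  obtain ⟨b⟩ := CurveTensor.exists_basis_stalk
    (InvEnd.isFinLocFreeOfRank_one (CurveDeg.isInvertible_structureModule (X := X))) x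
  exact ⟨b.map (LinearEquiv.ofBijective _ hi).symm⟩

/-- A closed point of a scheme of pure dimension one has stalk of positive dimension. -/
theorem not_isField_stalk (hequi : ∀ Z ∈ irreducibleComponents (X : Type u), topologicalKrullDim Z = 1)
    (P : X) (hP : IsClosed ({P} : Set X)) : ¬ IsField (X.presheaf.stalk P) := fun hF => by
  let Z := irreducibleComponent P
  obtain ⟨η, hη⟩ := QuasiSober.sober (isIrreducible_irreducibleComponent (x := P))
    (isClosed_irreducibleComponent (x := P))
  have hsp : η ⤳ P := hη.specializes mem_irreducibleComponent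
  obtain ⟨q, hq⟩ : η ∈ Set.range (X.fromSpecStalk P) := by
    rw [Scheme.range_fromSpecStalk]; exact hsp
  letI := hF.toField
  haveI : Subsingleton (Spec (X.presheaf.stalk P)) :=
    inferInstanceAs (Subsingleton (PrimeSpectrum (X.presheaf.stalk P)))
  have hηP : η = P := by
    rw [← hq, Subsingleton.elim q (IsLocalRing.closedPoint _), Scheme.fromSpecStalk_closedPoint]
  have hZ : irreducibleComponent P = ({P} : Set X) := by
    rw [← hη.def, hηP, hP.closure_eq]
  have h := hequi _ (irreducibleComponent_mem_irreducibleComponents P)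
  rw [hZ] at h
  haveI : Subsingleton ↥({P} : Set X) := Set.subsingleton_singleton.coe_sort
  haveI : Subsingleton (IrreducibleCloseds ↥({P} : Set X)) := ⟨fun A B =>
    IrreducibleCloseds.ext ((Subsingleton.eq_univ_of_nonempty A.isIrreducible'.nonempty).trans
      (Subsingleton.eq_univ_of_nonempty B.isIrreducible'.nonempty).symm)⟩
  have : topologicalKrullDim ↥({P} : Set X) ≤ 0 := Order.krullDim_nonpos_of_subsingleton
  rw [h] at this
  exact absurd this (by norm_num)

theorem dim_le_one_of_components (hequi : ∀ Z ∈ irreducibleComponents (X : Type u), topologicalKrullDim Z = 1)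
    (x : X) : ringKrullDim (X.presheaf.stalk x) ≤ 1 :=
  (CurveCohLib.ringKrullDim_stalk_le_topologicalKrullDim x).trans
    ((S10831.result (X : Type u)).le.trans (iSup₂_le fun Z hZ => (hequi Z hZ).le))

variable (k : Type u) [Field k] [IsAlgClosed k] [X.Over (Spec (CommRingCat.of k))]
  [IsProper (X ↘ Spec (CommRingCat.of k))]

/-- The ideal of a closed point is invertible exactly at smooth points. -/
theorem isInvertible_ptMod_iff (hequi : ∀ Z ∈ irreducibleComponents (X : Type u), topologicalKrullDim Z = 1)
    (P : X) (hP : IsClosed ({P} : Set X)) :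
    PicF.IsInvertible (CurvePoint.ptMod P hP) ↔
      ∃ U : X.Opens, P ∈ U ∧ Smooth (U.ι ≫ (X ↘ Spec (CommRingCat.of k))) := by
  haveI := CurveCohLib.isNoetherian_of_proper (k := k) (X := X)
  obtain ⟨e⟩ := stalk_ptMod_equiv P hP
  let R := X.presheaf.stalk P
  have hnf := not_isField_stalk hequi P hP
  constructor
  · intro hI
    obtain ⟨b⟩ := CurveTensor.exists_basis_stalk (InvEnd.isFinLocFreeOfRank_one hI) P
    let b' := b.map e
    have hspan : IsLocalRing.maximalIdeal R = Ideal.span {((b' 0 : IsLocalRing.maximalIdeal R) : R)} := by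
      refine le_antisymm (fun a ha => ?_) (Ideal.span_le.2 (Set.singleton_subset_iff.2 (b' 0).2))
      rw [Ideal.mem_span_singleton']
      refine ⟨b'.repr ⟨a, ha⟩ 0, ?_⟩
      have := congrArg Subtype.val (b'.sum_repr ⟨a, ha⟩)
      rwa [Fin.sum_univ_one, Submodule.coe_smul, smul_eq_mul] at this
    have hreg : IsRegularLocalRing R := by
      refine IsRegularLocalRing.of_spanFinrank_maximalIdeal_le R ?_
      refine le_trans (b := (1 : WithBot ℕ∞)) ?_ ?_
      · rw [hspan]
        exact_mod_cast (Submodule.spanFinrank_span_le_ncard_of_finite (Set.finite_singleton _)).trans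
          (Set.ncard_singleton _).le
      · have hnz : ((b' 0 : IsLocalRing.maximalIdeal R) : R) ∈ nonZeroDivisors R := by
          refine mem_nonZeroDivisors_iff_right.2 fun a ha => ?_
          have h0 : a • b' 0 = 0 := Subtype.ext ha
          have := congrArg (fun z => b'.repr z 0) h0
          simpa using this
        refine le_trans ?_ (ringKrullDim_quotient_succ_le_of_nonZeroDivisor hnz)
        haveI : Nontrivial (R ⧸ Ideal.span {((b' 0 : IsLocalRing.maximalIdeal R) : R)}) := by
          rw [← hspan]
          exact Ideal.Quotient.nontrivial_iff.2 (IsLocalRing.maximalIdeal.isMaximal R).ne_top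
        simpa [add_comm] using add_le_add_right (ringKrullDim_nonneg_of_nontrivial
          (R := R ⧸ Ideal.span {((b' 0 : IsLocalRing.maximalIdeal R) : R)})) (1 : WithBot ℕ∞)
    haveI : Algebra.IsSeparable k (X.residueField P) := ⟨fun y => by
      obtain ⟨c, rfl⟩ := CurveSection.surjective_resMap k hP y
      exact isSeparable_algebraMap c⟩
    refine ⟨(X ↘ Spec (CommRingCat.of k)).smoothLocus,
      SmoothReg.mem_smoothLocus_of_isSeparable _ P (fun c => rfl) hreg, ?_⟩
    rw [← Scheme.Hom.smoothLocus_eq_top_iff, ← Scheme.Hom.preimage_smoothLocus_eq, Scheme.Opens.ι_preimage_self]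
  · rintro ⟨U, hPU, hsm⟩
    have hmem : P ∈ (X ↘ Spec (CommRingCat.of k)).smoothLocus := by
      haveI := hsm
      have : (⟨P, hPU⟩ : U.toScheme) ∈ (U.ι ≫ X ↘ Spec (CommRingCat.of k)).smoothLocus := by
        rw [Scheme.Hom.smoothLocus_eq_top]; trivial
      rwa [← Scheme.Hom.preimage_smoothLocus_eq] at this
    haveI := SmoothReg.isRegularLocalRing_stalk_of_mem_smoothLocus _ hmem
    haveI : IsPrincipalIdealRing R := DimFormula.isPrincipalIdealRing_of_regular_dim_le_one
      (dim_le_one_of_components hequi P)
    haveI : IsDomain R := RegLoc6.isDomain_of_isRegularLocalRing R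
    obtain ⟨w, hw⟩ := IsPrincipalIdealRing.principal (IsLocalRing.maximalIdeal R)
    have hw0 : w ≠ 0 := fun h => hnf ((IsLocalRing.isField_iff_maximalIdeal_eq).2 (by
      rw [hw, h]; exact Submodule.span_zero_singleton _))
    let eR : R ≃ₗ[R] IsLocalRing.maximalIdeal R :=
      (LinearEquiv.toSpanNonzeroSingleton R R w hw0).trans (LinearEquiv.ofEq _ _ hw.symm)
    have hbasis : ∀ x, Nonempty (Module.Basis (Fin 1) (X.presheaf.stalk x)
        ((CurvePoint.ptMod P hP).presheaf.stalk x)) := fun x => by
      by_cases hx : x = P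
      · subst hx
        exact ⟨(Module.Basis.singleton (Fin 1) R).map (eR.trans e.symm)⟩
      · exact stalk_ptMod_free_of_ne P hP hx
    have hcoh : Coh.IsCoh (CurvePoint.ptMod P hP) :=
      QCoh.isCoh_kernel QCoh.isCoh_structureModule' (ParShLib.isCoh_quotMod _) _
    have hfl : FlatMod.IsFinLocFree (CurvePoint.ptMod P hP) :=
      QCoh.isFlat_and_isFP_iff.1 ⟨fun x => by
        obtain ⟨b⟩ := hbasis x
        haveI := Module.Free.of_basis b
        exact Module.Flat.of_free, QCoh.isCoh_iff_isFP.1 hcoh⟩
    refine CurveDuality.isInvertible_of_rank_one (ConsPropLib.isFinLocFreeOfRank_iff.2 ⟨hfl, fun x => ?_⟩)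
    obtain ⟨b⟩ := hbasis x
    rw [Module.finrank_eq_card_basis b, Fintype.card_fin]

end Groth.Agent.Curves16
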