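import Groth.Agent.FFun.GoodM
import Groth.Agent.S0002
import Groth.Agent.Snapper.DimVanish
import Groth.Agent.ProperComp7.Main
import Mathlib.RingTheory.Nakayama

/-!
# Vanishing of cohomology above the fibre dimension over an affine base
-/

noncomputable section

set_option linter.style.haveILetI false
set_option backward.isDefEq.respectTransparency false
set_option backward.isDefEq.respectTransparency.types false

universe u

open CategoryTheory CategoryTheory.Limits AlgebraicGeometry TopologicalSpace Opposite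

namespace Groth.Agent.Curves16

open Groth.Agent

variable {A : Type u} [CommRing A] {X : Scheme.{u}} [X.Over (Spec (CommRingCat.of A))]

theorem mem_basicOpen_toGlobal' (a : A) (y : X) :
    y ∈ X.basicOpen (Coh.toGlobal (X ↘ Spec (CommRingCat.of A)) a) ↔
      (X ↘ Spec (CommRingCat.of A)) y ∈ PrimeSpectrum.basicOpen a := by
  have h : (X ↘ Spec (CommRingCat.of A)) ⁻¹ᵁ
      (Spec (CommRingCat.of A)).basicOpen ((Scheme.ΓSpecIso (CommRingCat.of A)).inv a) =
        X.basicOpen (Coh.toGlobal (X ↘ Spec (CommRingCat.of A)) a) := Scheme.preimage_basicOpen _ _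
  rw [← h, basicOpen_eq_of_affine]
  rfl

/-- A module killed by an ideal of the base is supported over the zero locus of the ideal. -/
theorem support_subset_of_killed {T : X.Modules} {J : Ideal A} (h : J ≤ FFun.killIdeal T) :
    CohB1.support T ⊆ (X ↘ Spec (CommRingCat.of A)) ⁻¹' PrimeSpectrum.zeroLocus (J : Set A) := by
  intro x hx a ha
  by_contra hna
  refine hx (subsingleton_of_forall_eq 0 fun z => ?_)
  obtain ⟨U, hxU, s, rfl⟩ := TopCat.Presheaf.exists_germ_eq T.presheaf z
  let b : Γ(X, ⊤) := Coh.toGlobal (X ↘ Spec (CommRingCat.of A)) a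
  have hxb : x ∈ X.basicOpen b := (mem_basicOpen_toGlobal' a x).2 hna
  have hu : IsUnit (X.presheaf.germ ⊤ x trivial b) := (Scheme.mem_basicOpen X b x trivial).1 hxb
  have h0 : (show Γ(X, U) from Coh.resTop X (op U) b) • s = 0 := by
    rw [← FFun.smulMod_app T a U s, FFun.mem_killIdeal.1 (h ha)]
    rfl
  refine hu.smul_eq_zero.1 ?_
  rw [← X.presheaf.germ_res_apply (homOfLE (le_top : U ≤ ⊤)) x hxU b]
  refine ((QCoh.germ_smul' T hxU _ s).symm.trans ?_)
  exact (congrArg (T.presheaf.germ U x hxU) h0).trans (map_zero _)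

variable [IsNoetherianRing A] [IsProper (X ↘ Spec (CommRingCat.of A))]

/-- No cohomology in degrees above a bound for the fibre dimensions. -/
theorem subsingleton_HH_of_fibres_le {d : ℕ}
    (hfib : ∀ y, topologicalKrullDim ↥((X ↘ Spec (CommRingCat.of A)).fiber y) ≤ d)
    {M : X.Modules} (hM : Coh.IsCoh M) {p : ℕ} (hp : d < p) : Subsingleton (Coh.HH X M p) := by
  haveI : CompactSpace X := QuasiCompact.compactSpace_of_compactSpace (X ↘ Spec (CommRingCat.of A))
  haveI : IsLocallyNoetherian X := LocallyOfFiniteType.isLocallyNoetherian (X ↘ Spec (CommRingCat.of A))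
  haveI : IsNoetherian X := {}
  haveI : X.IsSeparated := ⟨by
    rw [← terminal.comp_from (X ↘ Spec (CommRingCat.of A))]
    infer_instance⟩
  haveI := S0002.result A X M hM p
  let H := Coh.HH X M p
  suffices hann : Module.annihilator A H = ⊤ by
    refine subsingleton_of_forall_eq 0 fun z => ?_
    rw [← one_smul A z]
    exact Module.mem_annihilator.1 (hann ▸ Submodule.mem_top) z
  by_contra hne
  obtain ⟨m, hm, hle⟩ := Ideal.exists_le_maximal _ hne
  let y : Spec (CommRingCat.of A) := ⟨m, hm.isPrime⟩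
  have hzero : ∀ n, Subsingleton (Formal.HHmodPow m M p n) := fun n => by
    have hT : Coh.IsCoh (Formal.modPow m (n + 1) M) := FFun.isCoh_modJ (m ^ (n + 1)) hM
    let C : Closeds X :=
      ⟨(X ↘ Spec (CommRingCat.of A)) ⁻¹' PrimeSpectrum.zeroLocus ((m ^ (n + 1) : Ideal A) : Set A),
        (PrimeSpectrum.isClosed_zeroLocus _).preimage (X ↘ Spec (CommRingCat.of A)).continuous⟩
    have hC : (C : Set X) = (X ↘ Spec (CommRingCat.of A)) ⁻¹' {y} := by
      show (X ↘ Spec (CommRingCat.of A)) ⁻¹' PrimeSpectrum.zeroLocus ((m ^ (n + 1) : Ideal A) : Set A) = _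
      rw [PrimeSpectrum.zeroLocus_pow m n.succ_ne_zero]
      refine congrArg _ (Set.ext fun q => ?_)
      refine ⟨fun hq => Set.mem_singleton_iff.2 ?_, fun hq => ?_⟩
      · exact PrimeSpectrum.ext (hm.eq_of_le q.isPrime.ne_top hq).symm
      · rw [Set.mem_singleton_iff.1 hq]; exact fun a ha => ha
    refine Snapper.subsingleton_HH_of_dim_lt (d + 1) C ?_ _ hT.1
      (support_subset_of_killed (FFun.le_killIdeal_modJ _ M)) p hp
    rw [hC, ← IsHomeomorph.topologicalKrullDim_eq _
      ((X ↘ Spec (CommRingCat.of A)).fiberHomeo y).isHomeomorph]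
    exact lt_of_le_of_lt (hfib y) (by exact_mod_cast Nat.lt_succ_self d)
  haveI : Subsingleton (Formal.HHlim m M p) := ⟨fun a b => Subtype.ext (funext fun n => (hzero n).elim _ _)⟩
  haveI : Subsingleton (AdicCompletion m H) :=
    (FFun.compΦ_bijective_of_goodM (p := p) (FFun.goodM_of_finite hM (fun q => S0002.result A X M hM q) m)).1.subsingleton
  have htop : (⊤ : Submodule A H) ≤ m • ⊤ := fun z _ => by
    have h0 : AdicCompletion.eval m H 1 (AdicCompletion.of m H z) = 0 := by
      rw [Subsingleton.elim (AdicCompletion.of m H z) 0, map_zero]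
    have h1 := (Submodule.Quotient.mk_eq_zero (m ^ 1 • (⊤ : Submodule A H))).1 h0
    rwa [pow_one] at h1
  obtain ⟨r, hr, hrz⟩ := Submodule.exists_sub_one_mem_and_smul_eq_zero_of_fg_of_le_smul m ⊤ Module.Finite.fg_top htop
  have hrm : r ∈ m := hle (Module.mem_annihilator.2 fun z => hrz z Submodule.mem_top)
  exact hm.ne_top ((Ideal.eq_top_iff_one _).2 (by simpa using Ideal.sub_mem _ hrm hr))

end Groth.Agent.Curves16
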