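import Groth.Agent.Curves16.NefMain
import Groth.Agent.Curves16.RelVan
import Groth.Agent.AmpleVan.ThickPush
import Groth.Agent.QCoh.AffineCohom
import Groth.Agent.QCoh.DevissageSum
import Groth.Agent.FFun.Basic

/-!
# Relatively nef invertible modules on proper schemes with fibres of dimension at most one
-/

noncomputable section

set_option linter.style.haveILetI false
set_option linter.unusedSectionVars false
set_option backward.isDefEq.respectTransparency false
set_option backward.isDefEq.respectTransparency.types false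

universe u

open CategoryTheory CategoryTheory.Limits AlgebraicGeometry TopologicalSpace Opposite
open Groth.Agent.PnCoh.Finite (mapLin)

namespace Groth.Agent.Curves16

open Groth.Agent

variable {X : Scheme.{u}}

theorem app_top_eq_zero {L M : X.Modules} (φ : L ⟶ M) (s : Γ(L, ⊤)) (h : InvX.ofSect s ≫ φ = 0) :
    φ.app ⊤ s = 0 := by
  rw [← InvX.one_ofSect s]
  exact congrArg InvX.one h

/-- A coherent module generated at closed points is globally generated. -/
theorem gg_of_closed_points [IsNoetherian X] {L : X.Modules} (hL : Coh.IsCoh L)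
    (h : ∀ x : X, IsClosed ({x} : Set X) →
      Submodule.span (X.presheaf.stalk x)
        (Set.range fun s : Γ(L, ⊤) => (show (DerSch.stalkFunctor X x).obj L from L.presheaf.germ ⊤ x trivial s)) = ⊤) :
    Curv2.IsGloballyGenerated L := by
  let p : (∐ fun _ : Γ(L, ⊤) => Coh.structureModule X) ⟶ L := Sigma.desc fun s => InvX.ofSect s
  show ∃ (ι : Type u) (p : (SheafOfModules.free ι : X.Modules) ⟶ L), Epi p
  have hfree : Coh.IsQCoh (∐ fun _ : Γ(L, ⊤) => Coh.structureModule X) :=
    QCoh.isQCoh_colimit (Discrete.functor fun _ : Γ(L, ⊤) => Coh.structureModule X)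
      fun _ => QCoh.isQCoh_structureModule
  let C := cokernel p
  have hC : Coh.IsCoh C := QCoh.isCoh_cokernel hfree hL p
  have hπ : ∀ s, (cokernel.π p).app ⊤ s = 0 := fun s => by
    have hs : InvX.ofSect s = Sigma.ι (fun _ : Γ(L, ⊤) => Coh.structureModule X) s ≫ p :=
      (Sigma.ι_desc (fun s => InvX.ofSect s) s).symm
    have h0 : InvX.ofSect s ≫ cokernel.π p = 0 :=
      (congrArg (· ≫ cokernel.π p) hs).trans ((Category.assoc _ _ _).trans
        ((congrArg (_ ≫ ·) (cokernel.condition p)).trans comp_zero))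
    exact app_top_eq_zero (cokernel.π p) s h0
  have hclosed : ∀ x : X, IsClosed ({x} : Set X) → Subsingleton (C.presheaf.stalk x) := fun x hx => by
    refine subsingleton_of_forall_eq 0 fun c => ?_
    obtain ⟨m, rfl⟩ := (ModuleCat.epi_iff_surjective ((DerSch.stalkFunctor X x).map (cokernel.π p))).1 inferInstance c
    have hm : m ∈ LinearMap.ker (ParShLib.stkMap (cokernel.π p) x) := by
      refine (h x hx).ge.trans (Submodule.span_le.2 ?_) Submodule.mem_top
      rintro _ ⟨s, rfl⟩
      refine LinearMap.mem_ker.2 ((ParShLib.stkMap_germ (cokernel.π p) (U := ⊤) trivial s).trans ?_)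
      rw [hπ]
      exact map_zero _
    exact LinearMap.mem_ker.1 hm
  have hsupp : CohB1.support C = ∅ := by
    by_contra hne
    obtain ⟨x, hxS, hx⟩ := (QCoh.isClosed_support_of_isFT hC.1 hC.2).exists_closed_singleton
      (Set.nonempty_iff_ne_empty.2 hne)
    exact hxS (hclosed x hx)
  refine ⟨Γ(L, ⊤), p, Preadditive.epi_of_isZero_cokernel _ ?_⟩
  rw [IsZero.iff_id_eq_zero]
  refine Scheme.Modules.hom_ext _ _ fun U => ?_
  ext c
  refine TopCat.Presheaf.section_ext ⟨C.presheaf, C.isSheaf⟩ _ _ _ fun x hx => ?_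
  haveI : Subsingleton (C.presheaf.stalk x) := not_not.1 fun hns => hsupp.le (show x ∈ CohB1.support C from hns)
  exact Subsingleton.elim _ _

section Exact

variable (A : Type u) [CommRing A] [X.Over (Spec (CommRingCat.of A))] {S : ShortComplex X.Modules}

theorem surjective_h1_g (hS : S.ShortExact) (h : Subsingleton (Coh.HH X S.X₁ 2)) :
    Function.Surjective (mapLin A S.g 1) := by
  rw [← LinearMap.range_eq_top, ← CurveCohLib.ker_deltaLin A hS 1, LinearMap.ker_eq_top]
  exact LinearMap.ext fun y => Subsingleton.elim _ _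

theorem mapLinA_zero {M N : X.Modules} (n : ℕ) (x : Coh.HH X M n) :
    mapLin A (0 : M ⟶ N) n x = 0 := by
  show Sheaf.H.map ((QCoh.toAbFunctor X).map (0 : M ⟶ N)) n x = 0
  have h : Sheaf.H.map ((QCoh.toAbFunctor X).map (0 : M ⟶ N)) n x =
      Sheaf.H.map ((QCoh.toAbFunctor X).map (0 : M ⟶ N)) n x +
        Sheaf.H.map ((QCoh.toAbFunctor X).map (0 : M ⟶ N)) n x := by
    conv_lhs => rw [← add_zero (0 : M ⟶ N), Functor.map_add, Sheaf.H.map_add_apply]
  exact left_eq_add.1 h

theorem mapLinA_sum {M N : X.Modules} {ι : Type*} (s : Finset ι) (f : ι → (M ⟶ N)) (n : ℕ)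
    (x : Coh.HH X M n) : mapLin A (∑ i ∈ s, f i) n x = ∑ i ∈ s, mapLin A (f i) n x := by
  classical
  induction s using Finset.induction with
  | empty => simp [mapLinA_zero]
  | insert a s ha ih =>
    rw [Finset.sum_insert ha, Finset.sum_insert ha, ← ih]
    show Sheaf.H.map ((QCoh.toAbFunctor X).map (f a + ∑ i ∈ s, f i)) n x = _
    rw [Functor.map_add, Sheaf.H.map_add_apply]
    rfl

/-- Multiplication by an element of the base vanishing at a point lands in the maximal ideal. -/
theorem stkMap_smulMod_mem {L : X.Modules} (a : A) (x : X)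
    (ha : a ∈ ((X ↘ Spec (CommRingCat.of A)) x).asIdeal)
    (z : (DerSch.stalkFunctor X x).obj L) :
    ParShLib.stkMap (Formal.smulMod A L a) x z ∈ (IsLocalRing.maximalIdeal (X.presheaf.stalk x) •
      (⊤ : Submodule (X.presheaf.stalk x) ((DerSch.stalkFunctor X x).obj L))) := by
  obtain ⟨U, hxU, s, rfl⟩ := L.presheaf.exists_germ_eq z
  rw [ParShLib.stkMap_germ, FFun.smulMod_app]
  rw [QCoh.germ_smul' L hxU _ s]
  refine Submodule.smul_mem_smul ?_ Submodule.mem_top
  rw [show X.presheaf.germ U x hxU (Coh.resTop X (op U) (Coh.toGlobal (X ↘ Spec (CommRingCat.of A)) a)) =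
    X.presheaf.germ ⊤ x trivial (Coh.toGlobal (X ↘ Spec (CommRingCat.of A)) a) from
    X.presheaf.germ_res_apply (homOfLE le_top) x hxU _]
  refine (IsLocalRing.mem_maximalIdeal _).2 fun hu => ?_
  exact (mem_basicOpen_toGlobal' a x).1 ((X.mem_basicOpen (U := ⊤) _ x trivial).2 hu) ha

end Exact

variable {A : Type u} [CommRing A] [IsNoetherianRing A] [X.Over (Spec (CommRingCat.of A))]
  [IsProper (X ↘ Spec (CommRingCat.of A))]

/-- The relative nef condition. -/
def RelNef (f : X ⟶ Spec (CommRingCat.of A)) (L : X.Modules) : Prop :=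
  ∀ (K : Type u) [Field K] (i : A →+* K) (J : X.IdealSheafData)
    (t : J.subscheme ⟶ Spec (CommRingCat.of K)),
    AlgebraicGeometry.IsIntegral J.subscheme → topologicalKrullDim ↥J.subscheme = 1 →
    t ≫ Spec.map (CommRingCat.ofHom i) = J.subschemeι ≫ f →
    0 ≤ @Curv2.deg K _ J.subscheme ⟨t⟩ ((Scheme.Modules.pullback J.subschemeι).obj L) 1

/-- A nef invertible module on the fibre over a maximal ideal. -/
theorem exists_generated_quotient
    (h1 : Subsingleton (Coh.HH X (Coh.structureModule X) 1))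
    (hfib : ∀ y, topologicalKrullDim ↥((X ↘ Spec (CommRingCat.of A)).fiber y) ≤ 1)
    {L : X.Modules} (hL : PicF.IsInvertible L) (hnef : RelNef (X ↘ Spec (CommRingCat.of A)) L)
    (m : Ideal A) [hm : m.IsMaximal] :
    ∃ (P : X.Modules) (η : L ⟶ P) (h : Formal.smulFamily m L ≫ η = 0), IsIso (cokernel.desc _ _ h) ∧
      Coh.IsCoh P ∧ Curv2.IsGloballyGenerated P ∧ Subsingleton (Coh.HH X P 1) := by
  haveI : CompactSpace X := QuasiCompact.compactSpace_of_compactSpace (X ↘ Spec (CommRingCat.of A))
  haveI : IsLocallyNoetherian X := LocallyOfFiniteType.isLocallyNoetherian (X ↘ Spec (CommRingCat.of A))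
  haveI : IsNoetherian X := {}
  haveI : X.IsSeparated := ⟨by
    rw [← terminal.comp_from (X ↘ Spec (CommRingCat.of A))]
    infer_instance⟩
  letI : Field (A ⧸ m) := Ideal.Quotient.field m
  let π := X ↘ Spec (CommRingCat.of A)
  let j := Spec.map (CommRingCat.ofHom (Ideal.Quotient.mk m))
  haveI : IsClosedImmersion j := IsClosedImmersion.spec_of_surjective _ Ideal.Quotient.mk_surjective
  let Z := pullback π j
  let i : Z ⟶ X := pullback.fst π j
  let q : Z ⟶ Spec (CommRingCat.of (A ⧸ m)) := pullback.snd π j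
  have sq : IsPullback i q π j := IsPullback.of_hasPullback π j
  haveI : IsClosedImmersion i := MorphismProperty.pullback_fst π j ‹_›
  haveI : IsProper q := MorphismProperty.pullback_snd π j ‹_›
  letI : Z.Over (Spec (CommRingCat.of (A ⧸ m))) := ⟨q⟩
  haveI : IsProper (Z ↘ Spec (CommRingCat.of (A ⧸ m))) := ‹IsProper q›
  haveI : CompactSpace Z := i.isClosedEmbedding.compactSpace
  let y : Spec (CommRingCat.of A) := ⟨m, hm.isPrime⟩
  have hrange : ∀ z, π (i z) = y := fun z => by
    rw [← Scheme.Hom.comp_apply, sq.w, Scheme.Hom.comp_apply]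
    have hbot : q z = (⟨⊥, Ideal.isPrime_bot⟩ : PrimeSpectrum (A ⧸ m)) :=
      @Subsingleton.elim _ (inferInstanceAs (Subsingleton (PrimeSpectrum (A ⧸ m)))) _ _
    rw [hbot]
    refine PrimeSpectrum.ext ?_
    show Ideal.comap (Ideal.Quotient.mk m) ⊥ = m
    rw [← RingHom.ker_eq_comap_bot, Ideal.mk_ker]
  have hdim : topologicalKrullDim Z ≤ 1 := by
    refine (Topology.IsInducing.topologicalKrullDim_le (f := Set.codRestrict i (π ⁻¹' {y}) hrange) ?_).trans ?_
    · exact i.isClosedEmbedding.isInducing.codRestrict hrange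
    · rw [← IsHomeomorph.topologicalKrullDim_eq _ (π.fiberHomeo y).isHomeomorph]
      exact hfib y
  have h2 : ∀ {M : X.Modules}, Coh.IsCoh M → Subsingleton (Coh.HH X M 2) := fun hM =>
    subsingleton_HH_of_fibres_le (d := 1) hfib hM (by omega)
  obtain ⟨hO0, hOiso⟩ := AmpleVan.unit_desc_iso sq (QCoh.isQCoh_structureModule (X := X))
  let v := (Scheme.Modules.pullbackPushforwardAdjunction i).unit.app (Coh.structureModule X)
  haveI : Epi v := by
    have : Epi (cokernel.π _ ≫ cokernel.desc _ _ hO0) := inferInstance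
    rwa [cokernel.π_desc] at this
  have hOc : Coh.IsCoh ((Scheme.Modules.pushforward i).obj ((Scheme.Modules.pullback i).obj (Coh.structureModule X))) :=
    QCoh.isCoh_pushforward_finite i (CurveDeg.isCoh_of_isInvertible
      (PicClLib.isInvertible_pullback i CurveDeg.isInvertible_structureModule))
  have hZ1 : Subsingleton (Coh.HH Z (Coh.structureModule Z) 1) := by
    have hv : (ShortComplex.mk (kernel.ι v) v (kernel.condition v)).ShortExact :=
      { exact := ShortComplex.exact_kernel _, mono_f := inferInstance, epi_g := inferInstance }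
    have h := PnCoh.Finite.subsingleton_HH_X₃ hv 1 h1
      (h2 (QCoh.isCoh_kernel QCoh.isCoh_structureModule' hOc v))
    obtain ⟨e⟩ := QCoh.HH_push_of_isAffineHom i (M := (Scheme.Modules.pullback i).obj (Coh.structureModule X))
      (QCoh.isQCoh_pullback i QCoh.isQCoh_structureModule) 1
    haveI := e.toEquiv.subsingleton_congr.2 h
    exact (CurveCohLib.hhEquiv (k := A ⧸ m) (CurveBC.unitIso i) 1).toEquiv.symm.subsingleton
  have hM : PicF.IsInvertible ((Scheme.Modules.pullback i).obj L) := PicClLib.isInvertible_pullback i hL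
  have hMnef : ∀ J : Z.IdealSheafData, IsIntegral J.subscheme → topologicalKrullDim J.subscheme = 1 →
      0 ≤ @Curv2.deg (A ⧸ m) _ J.subscheme ⟨J.subschemeι ≫ (Z ↘ (Spec (CommRingCat.of (A ⧸ m))))⟩
        ((Scheme.Modules.pullback J.subschemeι).obj ((Scheme.Modules.pullback i).obj L)) 1 := by
    intro J0 hJi hJd
    let J := (J0.subschemeι ≫ i).ker
    obtain ⟨e, he⟩ := SurfInt.exists_iso_subscheme (J0.subschemeι ≫ i)
    haveI : Nonempty J.subscheme := ⟨e.hom (hJi.nonempty.some)⟩
    haveI hJ' : IsIntegral J.subscheme := IsIntegral.of_isIso e.hom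
    letI : J.subscheme.Over (Spec (CommRingCat.of (A ⧸ m))) := ⟨e.inv ≫ J0.subschemeι ≫ q⟩
    letI : J0.subscheme.Over (Spec (CommRingCat.of (A ⧸ m))) := ⟨J0.subschemeι ≫ q⟩
    have hd : topologicalKrullDim ↥J.subscheme = 1 :=
      (IsHomeomorph.topologicalKrullDim_eq _ (Scheme.homeoOfIso e).isHomeomorph).symm.trans hJd
    have hcomp : (e.inv ≫ J0.subschemeι ≫ q) ≫ j = J.subschemeι ≫ π := by
      rw [Category.assoc, Category.assoc, ← sq.w, ← Category.assoc J0.subschemeι, Iso.inv_comp_eq]
      exact (congrArg (· ≫ π) he).symm.trans (Category.assoc _ _ _)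
    have hdeg := hnef (A ⧸ m) (Ideal.Quotient.mk m) J (e.inv ≫ J0.subschemeι ≫ q) hJ' hd hcomp
    haveI : IsLocallyNoetherian J.subscheme := LocallyOfFiniteType.isLocallyNoetherian J.subschemeι
    haveI : CompactSpace J.subscheme := J.subschemeι.isClosedEmbedding.compactSpace
    have hpb : IsPullback e.hom (J0.subscheme ↘ Spec (CommRingCat.of (A ⧸ m)))
        (J.subscheme ↘ Spec (CommRingCat.of (A ⧸ m)))
        (Spec.map (CommRingCat.ofHom (algebraMap (A ⧸ m) (A ⧸ m)))) := by
      haveI : IsIso (Spec.map (CommRingCat.ofHom (algebraMap (A ⧸ m) (A ⧸ m)))) := by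
        rw [Algebra.algebraMap_self, CommRingCat.ofHom_id, Spec.map_id]; infer_instance
      refine IsPullback.of_horiz_isIso ⟨?_⟩
      show e.hom ≫ e.inv ≫ J0.subschemeι ≫ q = (J0.subschemeι ≫ q) ≫ _
      rw [Algebra.algebraMap_self, CommRingCat.ofHom_id, Spec.map_id, Category.comp_id, Iso.hom_inv_id_assoc]
    refine le_of_le_of_eq hdeg ?_
    rw [← CurveBC.deg_eq (A ⧸ m) (A ⧸ m) e.hom hpb _
      (CurveDeg.isCoh_of_isInvertible (PicClLib.isInvertible_pullback J.subschemeι hL)).1 1]
    unfold Curv2.deg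
    refine congrArg (· - _) (CurveCohLib.euler_congr (k := A ⧸ m) ((Scheme.Modules.pullbackComp e.hom J.subschemeι).app L ≪≫
      eqToIso (congrArg (fun g => (Scheme.Modules.pullback g).obj L) he) ≪≫
      ((Scheme.Modules.pullbackComp J0.subschemeι i).app L).symm))
  have hMg := gg_of_nef (A ⧸ m) hdim hZ1 hM hMnef
  have hM1 := subsingleton_h1_of_nef (A ⧸ m) hdim hZ1 hM hMnef
  have hLc := CurveDeg.isCoh_of_isInvertible hL
  have hMc := CurveDeg.isCoh_of_isInvertible hM
  obtain ⟨h0, hiso⟩ := AmpleVan.unit_desc_iso sq hLc.1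
  refine ⟨_, _, h0, hiso, QCoh.isCoh_pushforward_finite i hMc, ?_, ?_⟩
  · exact gg_push i (v ≫ (Scheme.Modules.pushforward i).map (CurveBC.unitIso i).hom) hMc hMg
  · obtain ⟨e⟩ := QCoh.HH_push_of_isAffineHom i hMc.1 1
    exact e.toEquiv.subsingleton_congr.1 hM1

/-- Relatively nef invertible modules are generated and have no `H¹`. -/
theorem gg_and_h1_of_relNef (h1 : Subsingleton (Coh.HH X (Coh.structureModule X) 1))
    (hfib : ∀ y, topologicalKrullDim ↥((X ↘ Spec (CommRingCat.of A)).fiber y) ≤ 1)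
    {L : X.Modules} (hL : PicF.IsInvertible L) (hnef : RelNef (X ↘ Spec (CommRingCat.of A)) L) :
    Curv2.IsGloballyGenerated L ∧ Subsingleton (Coh.HH X L 1) := by
  classical
  haveI : CompactSpace X := QuasiCompact.compactSpace_of_compactSpace (X ↘ Spec (CommRingCat.of A))
  haveI : IsLocallyNoetherian X := LocallyOfFiniteType.isLocallyNoetherian (X ↘ Spec (CommRingCat.of A))
  haveI : IsNoetherian X := {}
  haveI : X.IsSeparated := ⟨by
    rw [← terminal.comp_from (X ↘ Spec (CommRingCat.of A))]
    infer_instance⟩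
  have hLc := CurveDeg.isCoh_of_isInvertible hL
  have h2 : ∀ {M : X.Modules}, Coh.IsCoh M → Subsingleton (Coh.HH X M 2) := fun hM =>
    subsingleton_HH_of_fibres_le (d := 1) hfib hM (by omega)
  have key : ∀ (m : Ideal A) [m.IsMaximal], ∃ (ι : Type u) (_ : Fintype ι) (a : ι → A)
      (C : X.Modules) (π : L ⟶ C), (∀ b, a b ∈ m) ∧ Epi π ∧ Curv2.IsGloballyGenerated C ∧
      Subsingleton (Coh.HH X C 1) ∧
      ∃ (w : biproduct.desc (fun b => Formal.smulMod A L (a b)) ≫ π = 0),
        (ShortComplex.mk _ π w).Exact ∧ Coh.IsCoh C := by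
    intro m _
    obtain ⟨P, η, h0, hiso, hPc, hPg, hP1⟩ := exists_generated_quotient h1 hfib hL hnef m
    obtain ⟨S, hS⟩ := (IsNoetherian.noetherian m : m.FG)
    let g : (⨁ fun _ : ULift.{u} (↥S) => L) ⟶ L := biproduct.desc fun b => Formal.smulMod A L b.down.1
    let C := cokernel g
    have hk : m ≤ FFun.killIdeal C := by
      rw [← hS, Submodule.span_le]
      intro a ha
      refine FFun.mem_killIdeal.2 ?_
      rw [← cancel_epi (cokernel.π g), ← FFun.smulMod_naturality, comp_zero,
        ← biproduct.ι_desc (f := fun _ : ULift.{u} (↥S) => L) (fun b => Formal.smulMod A L b.down.1) ⟨⟨a, ha⟩⟩,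
        Category.assoc, cokernel.condition, comp_zero]
    let t : P ⟶ C := inv (cokernel.desc _ _ h0) ≫ FFun.descJ (cokernel.π g) hk
    have ht : η ≫ t = cokernel.π g := by
      conv_lhs => rw [← cokernel.π_desc _ _ h0]
      rw [Category.assoc, IsIso.hom_inv_id_assoc]
      exact FFun.π_descJ _ _
    haveI : Epi t := by
      haveI : Epi (η ≫ t) := by rw [ht]; infer_instance
      exact epi_of_epi η t
    have hCc : Coh.IsCoh C := QCoh.isCoh_cokernel (QCoh.isCoh_biproduct _ fun _ => hLc).1 hLc g
    refine ⟨ULift.{u} (↥S), inferInstance, fun b => b.down.1, C, cokernel.π g,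
      fun b => hS ▸ Submodule.subset_span b.down.2, inferInstance, gg_of_epi t hPg, ?_,
      cokernel.condition g, ShortComplex.exact_cokernel g, hCc⟩
    have hS' : (ShortComplex.mk (kernel.ι t) t (kernel.condition t)).ShortExact :=
      { exact := ShortComplex.exact_kernel _, mono_f := inferInstance, epi_g := inferInstance }
    exact PnCoh.Finite.subsingleton_HH_X₃ hS' 1 hP1 (h2 (QCoh.isCoh_kernel hPc hCc t))
  haveI := S0002.result A X L hLc 1
  have hL1 : Subsingleton (Coh.HH X L 1) := by
    by_contra hne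
    have hann : Module.annihilator A (Coh.HH X L 1) ≠ ⊤ := fun h => hne (subsingleton_of_forall_eq 0 fun z => by
      rw [← one_smul A z]; exact Module.mem_annihilator.1 (h ▸ Submodule.mem_top) z)
    obtain ⟨m, hm, hle⟩ := Ideal.exists_le_maximal _ hann
    obtain ⟨ι, hι, a, C, π, ha, hπ, -, hC1, w, hex, hCc⟩ := key m
    let T : ι → X.Modules := fun _ => L
    let g : ⨁ T ⟶ L := biproduct.desc fun b => Formal.smulMod A L (a b)
    let K := kernel π
    have hK : (ShortComplex.mk (kernel.ι π) π (kernel.condition π)).ShortExact :=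
      { exact := ShortComplex.exact_kernel _, mono_f := inferInstance, epi_g := hπ }
    let l : ⨁ T ⟶ K := kernel.lift π g w
    haveI : Epi l := hex.epi_kernelLift
    have hKc : Coh.IsCoh K := QCoh.isCoh_kernel hLc hCc π
    have hl : (ShortComplex.mk (kernel.ι l) l (kernel.condition l)).ShortExact :=
      { exact := ShortComplex.exact_kernel _, mono_f := inferInstance, epi_g := inferInstance }
    have htop : (⊤ : Submodule A (Coh.HH X L 1)) ≤ m • ⊤ := fun z _ => by
      have hz : z ∈ LinearMap.ker (mapLin A π 1) := LinearMap.mem_ker.2 (Subsingleton.elim _ _)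
      rw [CurveCohLib.ker_mapLin_g A hK 1] at hz
      obtain ⟨u, rfl⟩ := hz
      obtain ⟨v, rfl⟩ := surjective_h1_g A hl (h2 (QCoh.isCoh_kernel (QCoh.isCoh_biproduct T fun _ => hLc) hKc l)) u
      have hg : g = ∑ b, biproduct.π T b ≫ Formal.smulMod A L (a b) := by
        refine biproduct.hom_ext' _ _ fun b => ?_
        rw [biproduct.ι_desc, Preadditive.comp_sum, Finset.sum_eq_single b (fun c _ hc => by
          rw [← Category.assoc, biproduct.ι_π_ne _ hc.symm, zero_comp]) (fun hb => absurd (Finset.mem_univ b) hb),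
          biproduct.ι_π_self_assoc]
      refine (congrArg (· ∈ m • (⊤ : Submodule A (Coh.HH X L 1))) ((mapLin_map_map A _ _ 1 v).trans
        ((FFun.mapLin_congr ((kernel.lift_ι π g w).trans hg) 1 v).trans (mapLinA_sum A _ _ 1 v)))).mpr ?_
      refine Submodule.sum_mem _ fun b _ => ?_
      rw [← mapLin_map_map, FFun.mapLin_smulMod]
      exact Submodule.smul_mem_smul (ha b) Submodule.mem_top
    obtain ⟨r, hr, hrz⟩ := Submodule.exists_sub_one_mem_and_smul_eq_zero_of_fg_of_le_smul m ⊤ Module.Finite.fg_top htop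
    have hrm : r ∈ m := hle (Module.mem_annihilator.2 fun z => hrz z Submodule.mem_top)
    exact hm.ne_top ((Ideal.eq_top_iff_one _).2 (by simpa using Ideal.sub_mem _ hrm hr))
  refine ⟨gg_of_closed_points hLc fun x hx => ?_, hL1⟩
  let f := X ↘ Spec (CommRingCat.of A)
  have hfx : IsClosed ({f x} : Set (Spec (CommRingCat.of A))) := by
    have := f.isClosedMap _ hx
    rwa [Set.image_singleton] at this
  haveI hmx : (f x).asIdeal.IsMaximal := (PrimeSpectrum.isClosed_singleton_iff_isMaximal _).1 hfx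
  obtain ⟨ι, hι, a, C, π, ha, hπ, hCg, -, w, hex, hCc⟩ := key (f x).asIdeal
  let T : ι → X.Modules := fun _ => L
  let g : ⨁ T ⟶ L := biproduct.desc fun b => Formal.smulMod A L (a b)
  have hK : (ShortComplex.mk (kernel.ι π) π (kernel.condition π)).ShortExact :=
    { exact := ShortComplex.exact_kernel _, mono_f := inferInstance, epi_g := hπ }
  let l : ⨁ T ⟶ kernel π := kernel.lift π g w
  haveI : Epi l := hex.epi_kernelLift
  have hKc : Coh.IsCoh (kernel π) := QCoh.isCoh_kernel hLc hCc π
  have hK1 : Subsingleton (Coh.HH X (kernel π) 1) := by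
    have hl : (ShortComplex.mk (kernel.ι l) l (kernel.condition l)).ShortExact :=
      { exact := ShortComplex.exact_kernel _, mono_f := inferInstance, epi_g := inferInstance }
    refine PnCoh.Finite.subsingleton_HH_X₃ hl 1 ?_ (h2 (QCoh.isCoh_kernel (QCoh.isCoh_biproduct T fun _ => hLc) hKc l))
    refine PnCoh.Finite.subsingleton_HH_of_decomposition T (biproduct.π T) (biproduct.ι T) ?_ 1 fun _ => hL1
    refine biproduct.hom_ext _ _ fun b => ?_
    rw [Preadditive.sum_comp, Category.id_comp, Finset.sum_eq_single b (fun c _ hc => by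
      rw [Category.assoc, biproduct.ι_π_ne _ hc, comp_zero]) (fun hb => absurd (Finset.mem_univ b) hb),
      Category.assoc, biproduct.ι_π_self, Category.comp_id]
  have hlift := surjective_app_top A hK hK1
  let F := DerSch.stalkFunctor X x
  let N : Submodule (X.presheaf.stalk x) (F.obj L) := Submodule.span (X.presheaf.stalk x)
    (Set.range fun s : Γ(L, ⊤) => (show F.obj L from L.presheaf.germ ⊤ x trivial s))
  have hker : LinearMap.ker (ParShLib.stkMap π x) ≤
      IsLocalRing.maximalIdeal (X.presheaf.stalk x) • (⊤ : Submodule (X.presheaf.stalk x) (F.obj L)) := by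
    intro z hz
    have hexF := (hK.map_of_exact F).exact
    rw [ShortComplex.moduleCat_exact_iff] at hexF
    obtain ⟨u, rfl⟩ := hexF z (LinearMap.mem_ker.1 hz)
    obtain ⟨v, rfl⟩ := (ModuleCat.epi_iff_surjective (F.map l)).1 inferInstance u
    show ParShLib.stkMap (kernel.ι π) x (ParShLib.stkMap l x v) ∈ _
    show ((F.map l ≫ F.map (kernel.ι π)).hom v) ∈ _
    rw [← F.map_comp, kernel.lift_ι, show g = ∑ b, biproduct.π T b ≫ Formal.smulMod A L (a b) from
      biproduct.hom_ext' _ _ fun b => by
        rw [biproduct.ι_desc, Preadditive.comp_sum, Finset.sum_eq_single b (fun c _ hc => by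
          rw [← Category.assoc, biproduct.ι_π_ne _ hc.symm, zero_comp]) (fun hb => absurd (Finset.mem_univ b) hb),
          biproduct.ι_π_self_assoc]]
    rw [F.map_sum, ModuleCat.hom_sum, LinearMap.sum_apply]
    refine Submodule.sum_mem _ fun b _ => ?_
    rw [F.map_comp]
    exact stkMap_smulMod_mem A (a b) x (ha b) _
  haveI : Module.Finite (X.presheaf.stalk x) (F.obj L) := QCoh.finite_stalk_of_isFT hLc.1 hLc.2 x
  refine eq_top_iff.2 (Submodule.le_of_le_smul_of_le_jacobson_bot (N := N) Module.Finite.fg_top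
    (IsLocalRing.maximalIdeal_le_jacobson _) fun z _ => ?_)
  obtain ⟨ιC, sC, hsC⟩ := exists_generatedBy hCg
  have hz : ParShLib.stkMap π x z ∈ Submodule.map (ParShLib.stkMap π x) N := by
    refine (hsC x).ge.trans (Submodule.span_le.2 ?_) Submodule.mem_top
    rintro _ ⟨b, rfl⟩
    obtain ⟨s, hs⟩ := hlift (sC b)
    refine ⟨L.presheaf.germ ⊤ x trivial s, Submodule.subset_span ⟨s, rfl⟩, ?_⟩
    exact (ParShLib.stkMap_germ π (U := ⊤) trivial s).trans (congrArg (C.presheaf.germ ⊤ x trivial) hs)
  obtain ⟨n, hn, hnz⟩ := hz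
  let z' : F.obj L := z
  let n' : F.obj L := n
  show z' ∈ _
  rw [show z' = n' + (z' - n') by abel]
  refine Submodule.add_mem_sup hn (hker (LinearMap.mem_ker.2 ?_))
  rw [map_sub]; exact sub_eq_zero.2 hnz.symm

end Groth.Agent.Curves16
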