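import Groth.Agent.InvX.Tensor
import Groth.Agent.InvX.GenEpi
import Groth.Agent.Curves16.RelNef
import Groth.Prelude.Def_SecTwist

/-!
# Multiplication of sections by a generated invertible module
-/

noncomputable section

set_option linter.style.haveILetI false
set_option linter.unusedSectionVars false
set_option backward.isDefEq.respectTransparency false
set_option backward.isDefEq.respectTransparency.types false

universe u

open CategoryTheory CategoryTheory.Limits AlgebraicGeometry TopologicalSpace Opposite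
open Groth.Agent.PnCoh.Finite (mapLin)

namespace Groth.Agent.Curves16

open Groth.Agent Groth.Agent.InvX

variable {X : Scheme.{u}}

theorem tmul_add_left {M N : X.Modules} {U : X.Opens} (a a' : Γ(M, U)) (b : Γ(N, U)) :
    InvX.tmul (a + a') b = InvX.tmul a b + InvX.tmul a' b :=
  (congrArg _ (KFlatLib.tm_add_left a a' b)).trans (map_add _ _ _)

/-- Multiplication by a global section, `a ↦ a ⊗ t`. -/
def mulR (M : X.Modules) {A : X.Modules} (t : Γ(A, ⊤)) : M ⟶ CohB1.tensorMod M A where
  val := PresheafOfModules.homMk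
    { app := fun V => AddCommGrpCat.ofHom (AddMonoidHom.mk'
        (fun a : Γ(M, V.unop) => InvX.tmul a (AModX.res A (le_top : V.unop ≤ ⊤) t)) fun a a' => tmul_add_left a a' _)
      naturality := fun V W i => by
        ext a
        show InvX.tmul (AModX.res M i.unop.le a) _ = AModX.res (CohB1.tensorMod M A) i.unop.le (InvX.tmul a _)
        rw [InvX.res_tmul, AModX.res_res] }
    fun V r a => InvX.tmul_smul_left r a _

theorem mulR_app (M : X.Modules) {A : X.Modules} (t : Γ(A, ⊤)) (V : X.Opens) (a : Γ(M, V)) :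
    (mulR M t).app V a = InvX.tmul a (AModX.res A (le_top : V ≤ ⊤) t) := rfl

/-- Multiplications by two sections of an invertible module commute. -/
theorem mulR_comm (N : X.Modules) {A : X.Modules} (hA : PicF.IsInvertible A) (s t : Γ(A, ⊤)) :
    mulR N s ≫ mulR (CohB1.tensorMod N A) t = mulR N t ≫ mulR (CohB1.tensorMod N A) s := by
  refine QCoh.hom_ext_app fun V a => AModX.eq_of_locally _ _ fun p hp => ?_
  obtain ⟨U, hpU, e, he⟩ := exists_frame hA p
  refine ⟨V ⊓ U, inf_le_left, ⟨hp, hpU⟩, ?_⟩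
  rw [← AModX.app_res, ← AModX.app_res]
  let a' := AModX.res N (inf_le_left : V ⊓ U ≤ V) a
  obtain ⟨f, hf⟩ := he.exists_coord (inf_le_right : V ⊓ U ≤ U) (AModX.res A (le_top : V ⊓ U ≤ ⊤) s)
  obtain ⟨g, hg⟩ := he.exists_coord (inf_le_right : V ⊓ U ≤ U) (AModX.res A (le_top : V ⊓ U ≤ ⊤) t)
  show InvX.tmul (InvX.tmul a' (AModX.res A le_top s)) (AModX.res A le_top t) =
    InvX.tmul (InvX.tmul a' (AModX.res A le_top t)) (AModX.res A le_top s)
  simp only [hf, hg, InvX.tmul_smul_right, InvX.tmul_smul_left]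
  exact smul_comm g f _

/-- A morphism surjective on sections locally is an epimorphism. -/
theorem epi_of_locally {M N : X.Modules} (φ : M ⟶ N)
    (h : ∀ (V : X.Opens) (z : Γ(N, V)), ∀ p ∈ V, ∃ (W : X.Opens) (i : W ≤ V), p ∈ W ∧
      ∃ w : Γ(M, W), φ.app W w = AModX.res N i z) : Epi φ :=
  ⟨fun {T} α β hab => QCoh.hom_ext_app fun V z => AModX.eq_of_locally _ _ fun p hp => by
    obtain ⟨W, i, hpW, w, hw⟩ := h V z p hp
    refine ⟨W, i, hpW, ?_⟩
    rw [← AModX.app_res, ← AModX.app_res, ← hw]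
    exact congr(($hab).app W w)⟩

theorem app_sum {M N : X.Modules} {ι : Type*} (s : Finset ι) (f : ι → (M ⟶ N)) (U : X.Opens) (x : Γ(M, U)) :
    (∑ i ∈ s, f i).app U x = ∑ i ∈ s, (f i).app U x := by
  classical
  induction s using Finset.induction with
  | empty => simp
  | insert a s ha ih => rw [Finset.sum_insert ha, Finset.sum_insert ha, ← ih]; rfl

section Koszul

variable (N : X.Modules) {A : X.Modules} {r : Type u} [Fintype r] (s : r → Γ(A, ⊤))

/-- The sum of the multiplications. -/
def mulSum : (⨁ fun _ : r => N) ⟶ CohB1.tensorMod N A := biproduct.desc fun i => mulR N (s i)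

/-- The Koszul relations. -/
def koszul : (⨁ fun _ : r × r => N) ⟶ ⨁ fun _ : r => CohB1.tensorMod N A :=
  biproduct.desc fun q => mulR N (s q.2) ≫ biproduct.ι (fun _ : r => CohB1.tensorMod N A) q.1 -
    mulR N (s q.1) ≫ biproduct.ι (fun _ : r => CohB1.tensorMod N A) q.2

variable {N}

theorem koszul_mulSum (hA : PicF.IsInvertible A) : koszul N s ≫ mulSum (CohB1.tensorMod N A) s = 0 := by
  classical
  refine biproduct.hom_ext' _ _ fun q => ?_
  rw [comp_zero, koszul, mulSum, biproduct.ι_desc_assoc, Preadditive.sub_comp, Category.assoc, Category.assoc,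
    biproduct.ι_desc, biproduct.ι_desc, mulR_comm N hA, sub_self]

theorem mulSum_ι (i : r) (V : X.Opens) (a : Γ(N, V)) :
    (mulSum N s).app V ((biproduct.ι (fun _ : r => N) i).app V a) =
      InvX.tmul a (AModX.res A (le_top : V ≤ ⊤) (s i)) :=
  congr(($(biproduct.ι_desc (f := fun _ : r => N) (fun i => mulR N (s i)) i)).app V a)

theorem sum_ι_π (V : X.Opens) (z : Γ((⨁ fun _ : r => N), V)) :
    ∑ i, (biproduct.ι (fun _ : r => N) i).app V ((biproduct.π (fun _ : r => N) i).app V z) = z := by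
  have h : 𝟙 (⨁ fun _ : r => N) = ∑ i, biproduct.π (fun _ : r => N) i ≫ biproduct.ι (fun _ : r => N) i := by
    classical
    refine biproduct.hom_ext _ _ fun b => ?_
    rw [Preadditive.sum_comp, Category.id_comp, Finset.sum_eq_single b (fun c _ hc => by
      rw [Category.assoc, biproduct.ι_π_ne _ hc, comp_zero]) (fun hb => absurd (Finset.mem_univ b) hb),
      Category.assoc, biproduct.ι_π_self, Category.comp_id]
  exact ((congr(($h).app V z)).trans (app_sum _ _ V z)).symm

theorem mulSum_app (V : X.Opens) (z : Γ((⨁ fun _ : r => N), V)) :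
    (mulSum N s).app V z =
      ∑ i, InvX.tmul ((biproduct.π (fun _ : r => N) i).app V z) (AModX.res A (le_top : V ≤ ⊤) (s i)) := by
  conv_lhs => rw [← sum_ι_π V z]
  rw [map_sum]
  exact Finset.sum_congr rfl fun i _ => mulSum_ι s i V _

variable (hN : PicF.IsInvertible N) (hA : PicF.IsInvertible A) (hs : ProjUP.GeneratedBy A s)

include hN hA hs in
theorem exists_frames (p : X) :
    ∃ (l : r) (W : X.Opens) (_ : p ∈ W) (d : Γ(N, W)), IsFrame d ∧ IsFrame (AModX.res A (le_top : W ≤ ⊤) (s l)) := by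
  obtain ⟨l, U, hpU, he⟩ := exists_frame_of_generated hA s p (hs p)
  obtain ⟨U', hpU', d, hd⟩ := exists_frame hN p
  refine ⟨l, U ⊓ U', ⟨hpU, hpU'⟩, _, hd.res inf_le_right, ?_⟩
  have := he.res (inf_le_left : U ⊓ U' ≤ U)
  rwa [AModX.res_res] at this

include hN hA hs in
theorem epi_mulSum : Epi (mulSum N s) := by
  refine epi_of_locally _ fun V z p hp => ?_
  obtain ⟨l, W, hpW, d, hd, he⟩ := exists_frames s hN hA hs p
  refine ⟨V ⊓ W, inf_le_left, ⟨hp, hpW⟩, ?_⟩
  obtain ⟨c, hc⟩ := (InvX.isFrame_tmul hd he).exists_coord inf_le_right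
    (AModX.res (CohB1.tensorMod N A) (inf_le_left : V ⊓ W ≤ V) z)
  refine ⟨(biproduct.ι (fun _ : r => N) l).app _ (c • AModX.res N inf_le_right d), ?_⟩
  rw [mulSum_ι, InvX.tmul_smul_left, hc, InvX.res_tmul, AModX.res_res]

set_option maxHeartbeats 1600000 in
include hN hA hs in
theorem epi_koszul_lift :
    Epi (kernel.lift (mulSum (CohB1.tensorMod N A) s) (koszul N s) (koszul_mulSum s hA)) := by
  classical
  let P := CohB1.tensorMod N A
  let ι := kernel.ι (mulSum P s)
  have hinj : ∀ (V : X.Opens), Function.Injective (ι.app V) := fun V => QCoh.app_injective ι V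
  refine epi_of_locally _ fun V u p hp => ?_
  obtain ⟨l, W₀, hpW, d₀, hd₀, he₀⟩ := exists_frames s hN hA hs p
  refine ⟨V ⊓ W₀, inf_le_left, ⟨hp, hpW⟩, ?_⟩
  let W := V ⊓ W₀
  let d := AModX.res N (inf_le_right : W ≤ W₀) d₀
  let e := AModX.res A (le_top : W ≤ ⊤) (s l)
  have hd : IsFrame d := hd₀.res _
  have he : IsFrame e := by
    have := he₀.res (inf_le_right : W ≤ W₀)
    rwa [AModX.res_res] at this
  let z := ι.app W (AModX.res (kernel (mulSum P s)) (inf_le_left : W ≤ V) u)
  have hz : (mulSum P s).app W z = 0 :=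
    congr(($(kernel.condition (mulSum P s))).app W (AModX.res (kernel (mulSum P s)) (inf_le_left : W ≤ V) u))
  have hde : IsFrame (InvX.tmul d e) := InvX.isFrame_tmul hd he
  have hc' : ∀ i, ∃ c : Γ(X, W), (biproduct.π (fun _ : r => P) i).app W z = c • InvX.tmul d e := fun i => by
    obtain ⟨c, hc⟩ := hde.exists_coord le_rfl ((biproduct.π (fun _ : r => P) i).app W z)
    rw [AModX.res_self] at hc
    exact ⟨c, hc⟩
  choose c hc using hc'
  have hf' : ∀ i, ∃ f : Γ(X, W), AModX.res A (le_top : W ≤ ⊤) (s i) = f • e := fun i => by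
    obtain ⟨f, hf⟩ := he.exists_coord le_rfl (AModX.res A (le_top : W ≤ ⊤) (s i))
    rw [AModX.res_self] at hf
    exact ⟨f, hf⟩
  choose f hf using hf'
  have hsum : ∑ i, c i * f i = 0 := by
    refine (InvX.isFrame_tmul hde he).coord_unique le_rfl ?_
    rw [AModX.res_self, zero_smul, Finset.sum_smul, ← hz, mulSum_app]
    refine Finset.sum_congr rfl fun i _ => ?_
    rw [hc, hf, InvX.tmul_smul_left, InvX.tmul_smul_right, mul_smul]
  refine ⟨∑ i, (biproduct.ι (fun _ : r × r => N) (i, l)).app W (c i • d), ?_⟩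
  refine hinj W ?_
  show (kernel.lift _ _ _ ≫ ι).app W _ = z
  rw [kernel.lift_ι]
  refine (map_sum ((koszul N s).app W).hom _ _).trans ?_
  have hk : ∀ i, (koszul N s).app W ((biproduct.ι (fun _ : r × r => N) (i, l)).app W (c i • d)) =
      (biproduct.ι (fun _ : r => P) i).app W (c i • InvX.tmul d e) -
        (biproduct.ι (fun _ : r => P) l).app W ((c i * f i) • InvX.tmul d e) := fun i => by
    refine (congr(($(biproduct.ι_desc (f := fun _ : r × r => N) (fun q : r × r =>
      mulR N (s q.2) ≫ biproduct.ι (fun _ : r => P) q.1 - mulR N (s q.1) ≫ biproduct.ι (fun _ : r => P) q.2)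
        (i, l))).app W (c i • d))).trans ?_
    show (biproduct.ι (fun _ : r => P) i).app W (InvX.tmul (c i • d) e) -
      (biproduct.ι (fun _ : r => P) l).app W (InvX.tmul (c i • d) (AModX.res A le_top (s i))) = _
    rw [hf, InvX.tmul_smul_right, InvX.tmul_smul_left, ← mul_smul, mul_comm (f i)]
  refine (Finset.sum_congr rfl fun i _ => hk i).trans ?_
  rw [Finset.sum_sub_distrib, ← map_sum ((biproduct.ι (fun _ : r => P) l).app W).hom, ← Finset.sum_smul, hsum,
    zero_smul, map_zero, sub_zero]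
  conv_rhs => rw [← sum_ι_π W z]
  exact Finset.sum_congr rfl fun i _ => by rw [hc]

end Koszul

/-- Every section of `O ⊗ L` is `1 ⊗ b`. -/
theorem exists_one_tmul {L : X.Modules} (hL : PicF.IsInvertible L)
    (z : Γ(CohB1.tensorMod (Coh.structureModule X) L, ⊤)) :
    ∃ B : Γ(L, ⊤), InvX.tmul (show Γ(Coh.structureModule X, ⊤) from (1 : Γ(X, ⊤))) B = z := by
  let O := Coh.structureModule X
  let o : ∀ U : X.Opens, Γ(O, U) := fun U => (1 : Γ(X, U))
  have ho : ∀ (U V : X.Opens) (h : V ≤ U), AModX.res O h (o U) = o V := fun U V h => map_one (AModX.resR h)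
  have hloc : ∀ p : X, ∃ (W : X.Opens) (_ : p ∈ W) (b : Γ(L, W)),
      AModX.res (CohB1.tensorMod O L) (le_top : W ≤ ⊤) z = InvX.tmul (o W) b := fun p => by
    obtain ⟨W, hW, e, he⟩ := exists_frame hL p
    obtain ⟨c, hc⟩ := (InvX.isFrame_tmul (InvX.isFrame_one W) he).exists_coord le_rfl
      (AModX.res (CohB1.tensorMod O L) (le_top : W ≤ ⊤) z)
    exact ⟨W, hW, c • e, by rw [InvX.tmul_smul_right, hc, AModX.res_self]⟩
  choose W hW b hb using hloc
  have huniq : ∀ (V : X.Opens) (a a' : Γ(L, V)), InvX.tmul (o V) a = InvX.tmul (o V) a' → a = a' :=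
    fun V a a' h => AModX.eq_of_locally _ _ fun p hp => by
      obtain ⟨W', hW', e, he⟩ := exists_frame hL p
      refine ⟨V ⊓ W', inf_le_left, ⟨hp, hW'⟩, ?_⟩
      have h' := congrArg (AModX.res (CohB1.tensorMod O L) (inf_le_left : V ⊓ W' ≤ V)) h
      rw [InvX.res_tmul, InvX.res_tmul, ho] at h'
      obtain ⟨c, hc⟩ := he.exists_coord inf_le_right (AModX.res L (inf_le_left : V ⊓ W' ≤ V) a)
      obtain ⟨c', hc'⟩ := he.exists_coord inf_le_right (AModX.res L (inf_le_left : V ⊓ W' ≤ V) a')
      rw [hc, hc', InvX.tmul_smul_right, InvX.tmul_smul_right] at h'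
      have heq : c = c' := (InvX.isFrame_tmul (InvX.isFrame_one (V ⊓ W')) (he.res inf_le_right)).coord_unique le_rfl
        (by rw [AModX.res_self]; exact h')
      rw [hc, hc', heq]
  obtain ⟨B, hB, -⟩ := AModX.existsUnique_glue (M := L) (V := ⊤) W (fun _ => le_top)
    (fun p _ => ⟨p, hW p⟩) b fun p q => by
      refine huniq _ _ _ ?_
      have h1 := congrArg (AModX.res (CohB1.tensorMod O L) (inf_le_left : W p ⊓ W q ≤ W p)) (hb p)
      have h2 := congrArg (AModX.res (CohB1.tensorMod O L) (inf_le_right : W p ⊓ W q ≤ W q)) (hb q)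
      rw [AModX.res_res, InvX.res_tmul, ho] at h1 h2
      exact h1.symm.trans h2
  refine ⟨B, ?_⟩
  show InvX.tmul (o ⊤) B = z
  refine AModX.eq_of_locally _ _ fun p hp => ⟨W p, le_top, hW p, ?_⟩
  rw [InvX.res_tmul, ho, hB, hb]



variable [IsNoetherian X]

theorem subsingleton_HH_biproduct {r : Type u} [Fintype r] (T : r → X.Modules) (n : ℕ)
    (h : ∀ i, Subsingleton (Coh.HH X (T i) n)) : Subsingleton (Coh.HH X (⨁ T) n) := by
  classical
  refine PnCoh.Finite.subsingleton_HH_of_decomposition T (biproduct.π T) (biproduct.ι T) ?_ n h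
  refine biproduct.hom_ext _ _ fun b => ?_
  rw [Preadditive.sum_comp, Category.id_comp, Finset.sum_eq_single b (fun c _ hc => by
    rw [Category.assoc, biproduct.ι_π_ne _ hc, comp_zero]) (fun hb => absurd (Finset.mem_univ b) hb),
    Category.assoc, biproduct.ι_π_self, Category.comp_id]

theorem exists_finite_generatedBy {A : X.Modules} (hA : Coh.IsCoh A) (hgg : Curv2.IsGloballyGenerated A) :
    ∃ (r : Type u) (_ : Fintype r) (s : r → Γ(A, ⊤)), ProjUP.GeneratedBy A s := by
  obtain ⟨ι, s₀, hs₀⟩ := exists_generatedBy hgg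
  obtain ⟨m, j, hj⟩ := AmpleVan.exists_fin_generatedBy hA s₀ hs₀
  refine ⟨ULift.{u} (Fin m), inferInstance, fun i => s₀ (j i.down), fun x => ?_⟩
  refine le_antisymm le_top ((hj x).ge.trans (Submodule.span_mono ?_))
  rintro _ ⟨i, rfl⟩
  exact ⟨⟨i⟩, rfl⟩

section Main

variable (k : Type u) [CommRing k] [X.Over (Spec (CommRingCat.of k))]
variable (h2 : ∀ {M : X.Modules}, Coh.IsCoh M → Subsingleton (Coh.HH X M 2))
  {N A : X.Modules} (hN : PicF.IsInvertible N) (hA : PicF.IsInvertible A) (hgg : Curv2.IsGloballyGenerated A)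

include h2 hN hA hgg in
/-- Twisting by a generated module preserves vanishing of `H¹`. -/
theorem subsingleton_h1_tensorMod (h1 : Subsingleton (Coh.HH X N 1)) :
    Subsingleton (Coh.HH X (CohB1.tensorMod N A) 1) := by
  obtain ⟨r, hr, s, hs⟩ := exists_finite_generatedBy (CurveDeg.isCoh_of_isInvertible hA) hgg
  haveI := epi_mulSum s hN hA hs
  have hS : (ShortComplex.mk (kernel.ι (mulSum N s)) (mulSum N s) (kernel.condition _)).ShortExact :=
    { exact := ShortComplex.exact_kernel _, mono_f := inferInstance, epi_g := inferInstance }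
  exact PnCoh.Finite.subsingleton_HH_X₃ hS 1 (subsingleton_HH_biproduct _ 1 fun _ => h1)
    (h2 (QCoh.isCoh_kernel (QCoh.isCoh_biproduct _ fun _ => CurveDeg.isCoh_of_isInvertible hN)
      (CurveDeg.isCoh_of_isInvertible (InvX.isInvertible_tensorMod hN hA)) _))

include k h2 hN hA hgg in
/-- Castelnuovo's argument: multiplication by global sections is surjective one step above the vanishing. -/
theorem exists_sum_tmul_eq (h1 : Subsingleton (Coh.HH X N 1))
    (z : Γ(CohB1.tensorMod (CohB1.tensorMod N A) A, ⊤)) :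
    ∃ (r : Type u) (_ : Fintype r) (a : r → Γ(CohB1.tensorMod N A, ⊤)) (b : r → Γ(A, ⊤)),
      z = ∑ i, InvX.tmul (a i) (b i) := by
  classical
  obtain ⟨r, hr, s, hs⟩ := exists_finite_generatedBy (CurveDeg.isCoh_of_isInvertible hA) hgg
  let P := CohB1.tensorMod N A
  have hP := InvX.isInvertible_tensorMod hN hA
  haveI := epi_mulSum s hP hA hs
  haveI := epi_koszul_lift s hN hA hs
  let g := mulSum P s
  let l := kernel.lift g (koszul N s) (koszul_mulSum s hA)
  have hKc : Coh.IsCoh (kernel g) := QCoh.isCoh_kernel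
    (QCoh.isCoh_biproduct _ fun _ => CurveDeg.isCoh_of_isInvertible hP)
    (CurveDeg.isCoh_of_isInvertible (InvX.isInvertible_tensorMod hP hA)) _
  have hl : (ShortComplex.mk (kernel.ι l) l (kernel.condition l)).ShortExact :=
    { exact := ShortComplex.exact_kernel _, mono_f := inferInstance, epi_g := inferInstance }
  have hK1 : Subsingleton (Coh.HH X (kernel g) 1) :=
    PnCoh.Finite.subsingleton_HH_X₃ hl 1 (subsingleton_HH_biproduct _ 1 fun _ => h1)
      (h2 (QCoh.isCoh_kernel (QCoh.isCoh_biproduct _ fun _ => CurveDeg.isCoh_of_isInvertible hN) hKc l))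
  have hS : (ShortComplex.mk (kernel.ι g) g (kernel.condition g)).ShortExact :=
    { exact := ShortComplex.exact_kernel _, mono_f := inferInstance, epi_g := inferInstance }
  obtain ⟨u, hu⟩ := surjective_app_top k hS hK1 z
  refine ⟨r, hr, fun i => (biproduct.π (fun _ : r => P) i).app ⊤ u, s, ?_⟩
  rw [← hu, show g.app ⊤ u = _ from mulSum_app s ⊤ u]
  exact Finset.sum_congr rfl fun i _ => congrArg _ (AModX.res_self _)

include k h2 in
/-- The section module of `L^(n+1)` is spanned by products, for a generated `L` past the vanishing. -/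
theorem span_tmul_eq_top {L : X.Modules} (hL : PicF.IsInvertible L) (hgg : Curv2.IsGloballyGenerated L)
    (m : ℕ) (hm : Subsingleton (Coh.HH X (CohB1.tensorPow L m) 1)) (n : ℕ) (hn : m + 1 ≤ n) :
    Submodule.span (X.ringCatSheaf.obj.obj (Opposite.op ⊤))
      (Set.range (fun p : (CohB1.tensorPow L n).val.obj (Opposite.op ⊤) × L.val.obj (Opposite.op ⊤) =>
        SecTwist.tmul (CohB1.tensorPow L n) L ⊤ p.1 p.2)) = ⊤ := by
  have hinv : ∀ j, PicF.IsInvertible (CohB1.tensorPow L j) := fun j => by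
    induction j with
    | zero => exact InvX.isInvertible_structureModule
    | succ j ih => exact InvX.isInvertible_tensorMod ih hL
  have hvan : ∀ j, m ≤ j → Subsingleton (Coh.HH X (CohB1.tensorPow L j) 1) := fun j hj => by
    induction j, hj using Nat.le_induction with
    | base => exact hm
    | succ j _ ih => exact subsingleton_h1_tensorMod h2 (hinv j) hL hgg ih
  obtain ⟨j, rfl⟩ : ∃ j, n = j + 1 := ⟨n - 1, by omega⟩
  refine eq_top_iff.2 fun z _ => ?_
  obtain ⟨r, hr, a, b, hab⟩ := exists_sum_tmul_eq k h2 (hinv j) hL hgg (hvan j (by omega)) z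
  have hsum : z = ∑ i, SecTwist.tmul (CohB1.tensorPow L (j + 1)) L ⊤ (a i) (b i) := hab
  rw [hsum]
  exact Submodule.sum_mem _ fun i _ => Submodule.subset_span ⟨(a i, b i), rfl⟩

include k in
/-- The first step, from `1 ⊗ b`. -/
theorem span_tmul_eq_top_zero {L : X.Modules} (hL : PicF.IsInvertible L) :
    Submodule.span (X.ringCatSheaf.obj.obj (Opposite.op ⊤))
      (Set.range (fun p : (CohB1.tensorPow L 0).val.obj (Opposite.op ⊤) × L.val.obj (Opposite.op ⊤) =>
        SecTwist.tmul (CohB1.tensorPow L 0) L ⊤ p.1 p.2)) = ⊤ := by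
  refine eq_top_iff.2 fun z _ => Submodule.subset_span ?_
  obtain ⟨B, hB⟩ := exists_one_tmul hL z
  exact ⟨(_, B), hB⟩

end Main

end Groth.Agent.Curves16
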