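import Groth.Agent.Lib.AmpleEmbed
import Groth.Agent.AbTors.Deg
import Groth.Agent.Curves16.MulSurj
import Groth.Agent.AmpleX.Extend
import Mathlib.AlgebraicGeometry.ZariskisMainTheorem

/-!
# A normally generated ample module is very ample
-/

noncomputable section

set_option linter.style.haveILetI false
set_option linter.unusedSectionVars false
set_option backward.isDefEq.respectTransparency false
set_option backward.isDefEq.respectTransparency.types false
set_option maxHeartbeats 800000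

universe u

open CategoryTheory CategoryTheory.Limits AlgebraicGeometry TopologicalSpace Opposite HomogeneousLocalization

namespace Groth.Agent.Curves16

open Groth.Agent Groth.Agent.InvX Groth.Agent.H23

variable {X : Scheme.{u}}

/-- A scheme proper over an affine one with ample structure sheaf is affine. -/
theorem isAffine_of_isProper_of_isAmple {D : Scheme.{u}} [IsAffine D] (g : X ⟶ D) [IsProper g]
    (h : CohB1.IsAmple (Coh.structureModule X)) : IsAffine X := by
  haveI := AmpleX.isQuasiAffine_of_isAmple h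
  haveI : IsProper (X.toSpecΓ ≫ Spec.map g.appTop) := by
    rw [← Scheme.toSpecΓ_naturality]
    infer_instance
  haveI : IsProper X.toSpecΓ := IsProper.of_comp X.toSpecΓ (Spec.map g.appTop)
  haveI : IsFinite X.toSpecΓ := (IsFinite.iff_isProper_and_locallyQuasiFinite X.toSpecΓ).2 ⟨inferInstance, inferInstance⟩
  exact isAffine_of_isAffineHom X.toSpecΓ

variable {R : Type u} [CommRing R]

/-- The scalar on an open. -/
def cst (f : X ⟶ Spec (CommRingCat.of R)) (U : X.Opens) : R →+* Γ(X, U) :=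
  (f.appLE ⊤ U le_top).hom.comp (Scheme.ΓSpecIso (CommRingCat.of R)).inv.hom

theorem cst_eq (f : X ⟶ Spec (CommRingCat.of R)) (U : X.Opens) (c : R) :
    cst f U c = AModX.resR (le_top : U ≤ ⊤) (Coh.toGlobal f c) := rfl

/-- The scalar as a global function. -/
abbrev glb (f : X ⟶ Spec (CommRingCat.of R)) : R →+* Γ(X, ⊤) := Coh.toGlobal f

theorem res_finset_sum {M : X.Modules} {ι : Type*} (t : Finset ι) (a : ι → Γ(M, ⊤)) {U : X.Opens} :
    AModX.res M (le_top : U ≤ ⊤) (∑ i ∈ t, a i) = ∑ i ∈ t, AModX.res M (le_top : U ≤ ⊤) (a i) :=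
  map_sum (AModX.res M (le_top : U ≤ ⊤)) _ _

/-- Coordinates of global sections of powers lie in the ring of the ratios. -/
theorem exists_coord_mem (f : X ⟶ Spec (CommRingCat.of R)) {L : X.Modules} (hL : PicF.IsInvertible L)
    {ι : Type*} [Fintype ι] (s : ι → Γ(L, ⊤))
    (hspan : ∀ z : Γ(L, ⊤), ∃ c : ι → R, z = ∑ l, glb f (c l) • s l)
    (hmul : ∀ (N : ℕ) (z : Γ(CohB1.tensorPow L (N + 2), ⊤)), ∃ (r : Type u) (_ : Fintype r)
      (a : r → Γ(CohB1.tensorPow L (N + 1), ⊤)) (b : r → Γ(L, ⊤)), z = ∑ j, InvX.tmul (a j) (b j))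
    {U : X.Opens} (e : Γ(L, U)) (S : Subring Γ(X, U)) (hS : Set.range (cst f U) ⊆ S) (β : ι → Γ(X, U))
    (hβ : ∀ l, AModX.res L (le_top : U ≤ ⊤) (s l) = β l • e) (hβS : ∀ l, β l ∈ S) :
    ∀ (N : ℕ) (z : Γ(CohB1.tensorPow L (N + 1), ⊤)), ∃ c ∈ S,
      AModX.res _ (le_top : U ≤ ⊤) z = c • AmpleX.powElt e (N + 1) := by
  have hone : ∀ z : Γ(L, ⊤), ∃ c ∈ S, AModX.res L (le_top : U ≤ ⊤) z = c • e := fun z => by
    obtain ⟨c, hc⟩ := hspan z
    refine ⟨∑ l, cst f U (c l) * β l, S.sum_mem fun l _ => S.mul_mem (hS ⟨_, rfl⟩) (hβS l), ?_⟩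
    rw [hc, res_finset_sum, Finset.sum_smul]
    refine Finset.sum_congr rfl fun l _ => ?_
    rw [AModX.res_smul, hβ, ← mul_smul]
    rfl
  intro N
  induction N with
  | zero =>
    intro z
    obtain ⟨B, rfl⟩ := exists_one_tmul hL z
    obtain ⟨c, hc, hB⟩ := hone B
    refine ⟨c, hc, ?_⟩
    refine (InvX.res_tmul _ _ _).trans ?_
    rw [hB, InvX.tmul_smul_right]
    exact congrArg (c • ·) (congrArg (fun q => InvX.tmul q e) (map_one (AModX.resR (le_top : U ≤ ⊤))))
  | succ N ih =>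
    intro z
    obtain ⟨r, hr, a, b, hz⟩ := hmul N z
    choose c hcS hc using fun j => ih (a j)
    choose d hdS hd using fun j => hone (b j)
    refine ⟨∑ j, c j * d j, S.sum_mem fun j _ => S.mul_mem (hcS j) (hdS j), ?_⟩
    rw [hz]
    refine (res_finset_sum _ _).trans ?_
    rw [Finset.sum_smul]
    refine Finset.sum_congr rfl fun j _ => ?_
    refine (InvX.res_tmul _ _ _).trans ?_
    rw [hc, hd, InvX.tmul_smul_left, InvX.tmul_smul_right, ← mul_smul]
    rfl

/-- An ample module with generating sections whose products span all powers is very ample. -/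
theorem exists_embedding (f : X ⟶ Spec (CommRingCat.of R)) [IsProper f] {L : X.Modules} (hA : CohB1.IsAmple L)
    {n : ℕ} (s : Fin (n + 1) → Γ(L, ⊤)) (hs : ProjUP.GeneratedBy L s)
    (hspan : ∀ z : Γ(L, ⊤), ∃ c : Fin (n + 1) → R, z = ∑ l, glb f (c l) • s l)
    (hmul : ∀ (N : ℕ) (z : Γ(CohB1.tensorPow L (N + 2), ⊤)), ∃ (r : Type u) (_ : Fintype r)
      (a : r → Γ(CohB1.tensorPow L (N + 1), ⊤)) (b : r → Γ(L, ⊤)), z = ∑ j, InvX.tmul (a j) (b j)) :
    ∃ (r : X ⟶ CohB1.ProjSpace n R), IsClosedImmersion r ∧ r ≫ CohB1.ProjSpace.toSpec n R = f ∧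
      Nonempty ((Scheme.Modules.pullback r).obj (Twist.twistProjSpace n R 1) ≅ L) := by
  classical
  have hL := hA.1
  haveI : CompactSpace X := hA.2.1
  haveI : X.IsSeparated := ⟨by
    rw [← Limits.terminal.comp_from f]
    infer_instance⟩
  obtain ⟨r, hr, τ, hτ⟩ := S3572.result n f L hL s hs
  refine ⟨r, ?_, hr, ⟨τ⟩⟩
  haveI hp : IsProper (CohB1.ProjSpace.toSpec n R) := PnCoh.Chow.isProper_toSpec n R
  haveI : IsProper r := by
    haveI : IsProper (r ≫ CohB1.ProjSpace.toSpec n R) := hr ▸ ‹IsProper f›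
    exact IsProper.of_comp r (CohB1.ProjSpace.toSpec n R)
  let D : Fin (n + 1) → (CohB1.ProjSpace n R).Opens := fun i =>
    Proj.basicOpen (CohB1.polyGrading n R) (MvPolynomial.X i)
  let U : Fin (n + 1) → X.Opens := fun i => TrivBasic.locus (s i)
  have hpre : ∀ i, r ⁻¹ᵁ D i = U i := fun i => AmpleEmbed.preimage_chart r τ i (hτ i)
  have hDaff : ∀ i, IsAffineOpen (D i) := fun i => Proj.isAffineOpen_basicOpen _ _ (ProjPt.X_mem _) one_pos
  have hfr : ∀ i, IsFrame (AModX.res L (le_top : U i ≤ ⊤) (s i)) := fun i =>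
    TrivBasic.isFrame_res_of_le_locus (le_refl (U i))
  have hUaff : ∀ i, IsAffineOpen (U i) := fun i => by
    rw [← hpre i]
    haveI : IsAffine (D i : Scheme) := hDaff i
    haveI : IsProper (r ∣_ D i) := IsZariskiLocalAtTarget.restrict ‹IsProper r› _
    have hU : r ⁻¹ᵁ D i = CohB1.genLocus L (InvX.ofSect (s i)) := hpre i
    haveI : IsAffineHom (r ⁻¹ᵁ D i).ι := by
      rw [hU]
      exact InvX.isAffineHom_genLocus_ι hL _
    haveI : CompactSpace (r ⁻¹ᵁ D i).toScheme := QuasiCompact.compactSpace_of_compactSpace (r ⁻¹ᵁ D i).ι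
    refine isAffine_of_isProper_of_isAmple (r ∣_ D i) ?_
    have h1 : IsFrame (AModX.res L (le_top : r ⁻¹ᵁ D i ≤ ⊤) (s i)) :=
      TrivBasic.isFrame_res_of_le_locus (hpre i).le
    obtain ⟨e⟩ := InvX.nonempty_iso_of_isFrame h1
    exact AmpleX.isAmple_of_iso (((Scheme.Modules.restrictFunctorIsoPullback _).app L).symm ≪≫ e)
      (AbTors.isAmple_pullback_of_isAffineHom (r ⁻¹ᵁ D i).ι hA)
  have hloc : ∀ i, IsClosedImmersion (r ∣_ D i) := fun i => by
    haveI : IsAffine (D i : Scheme) := hDaff i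
    haveI : IsAffine (r ⁻¹ᵁ D i : Scheme) := by rw [hpre]; exact hUaff i
    refine IsClosedImmersion.of_surjective_of_isAffine _ ?_
    have hsurj : Function.Surjective (r.appLE (D i) (U i) (hpre i).ge) := by
      let S : Subring Γ(X, U i) := (r.appLE (D i) (U i) (hpre i).ge).hom.range
      have hS : Set.range (cst f (U i)) ⊆ S := by
        rintro _ ⟨c, rfl⟩
        refine ⟨(CohB1.ProjSpace.toSpec n R).appLE ⊤ (D i) le_top ((Scheme.ΓSpecIso (CommRingCat.of R)).inv c), ?_⟩
        rw [← CommRingCat.comp_apply, Scheme.Hom.appLE_comp_appLE]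
        simp only [hr]
        rfl
      choose β hβ using fun l => (hfr i).exists_coord le_rfl (AModX.res L (le_top : U i ≤ ⊤) (s l))
      simp only [AModX.res_self] at hβ
      have hβS : ∀ l, β l ∈ S := fun l =>
        ⟨(Proj.awayToSection (CohB1.polyGrading n R) (MvPolynomial.X i)).hom
          (Away.mk (CohB1.polyGrading n R) (ProjPt.X_mem _) 1 (MvPolynomial.X l)
            (by rw [one_smul]; exact ProjPt.X_mem _)),
          AmpleEmbed.ratioOf_eq r τ i l (hτ i) (hτ l) (hpre i).ge (β l) (hβ l)⟩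
      intro b
      let σ : Coh.structureModule X ⟶ L := InvX.ofSect (s i)
      obtain ⟨n₀, hn₀⟩ := AmpleX.exists_extend (AmpleX.isQCoh_one X) hL σ
        (show Γ(Coh.structureModule X, CohB1.genLocus L σ) from (b : Γ(X, U i)))
      obtain ⟨T, hT⟩ := hn₀ (n₀ + 1) (Nat.le_succ _)
      rw [InvX.one_ofSect] at hT
      obtain ⟨B, rfl⟩ := exists_one_tmul (InvX.isInvertible_tensorPow hL (n₀ + 1)) T
      obtain ⟨c, hc, hB⟩ := exists_coord_mem f hL s hspan hmul _ S hS β hβ hβS n₀ B
      have hb : b = c := by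
        let P := AmpleX.powElt (AModX.res L (le_top : U i ≤ ⊤) (s i)) (n₀ + 1)
        let o : Γ(Coh.structureModule X, U i) := (1 : Γ(X, U i))
        have ho : AModX.res (Coh.structureModule X) (le_top : U i ≤ ⊤)
            (show Γ(Coh.structureModule X, ⊤) from (1 : Γ(X, ⊤))) = o := map_one (AModX.resR (le_top : U i ≤ ⊤))
        have h2 : InvX.tmul o (c • P) = InvX.tmul (show Γ(Coh.structureModule X, U i) from b) P := by
          rw [← ho, ← hB, ← InvX.res_tmul]
          exact hT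
        have hF : IsFrame (InvX.tmul o P) :=
          InvX.isFrame_tmul (InvX.isFrame_one (U i)) (AmpleX.isFrame_powElt (hfr i) (n₀ + 1))
        refine hF.coord_unique le_rfl ?_
        rw [AModX.res_self, ← InvX.tmul_smul_right c o P, h2, ← InvX.tmul_smul_left]
        exact congrArg (fun q => InvX.tmul q P) (mul_one b)
      obtain ⟨y, hy⟩ := hc
      exact ⟨y, hy.trans hb.symm⟩
    intro z
    rw [morphismRestrict_appTop]
    obtain ⟨y, hy⟩ := hsurj (X.presheaf.map (eqToHom (hpre i).symm).op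
      ((r ⁻¹ᵁ D i).topIso.hom z))
    refine ⟨(D i).topIso.inv y, (ConcreteCategory.bijective_of_isIso (r ⁻¹ᵁ D i).topIso.hom).1 ?_⟩
    apply (ConcreteCategory.bijective_of_isIso (X.presheaf.map (eqToHom (hpre i).symm).op)).1
    rw [← hy]
    simp only [← CommRingCat.comp_apply]
    congr 2
    simp only [Scheme.Hom.appLE, Scheme.Opens.topIso, Category.assoc]
    simp [← Functor.map_comp]
    rw [r.naturality_assoc, ← Functor.map_comp]
    rfl
  let E : (CohB1.ProjSpace n R).Opens := ⟨(Set.range r)ᶜ, r.isClosedMap.isClosed_range.isOpen_compl⟩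
  have hE : IsClosedImmersion (r ∣_ E) := by
    haveI : IsEmpty (r ⁻¹ᵁ E : Scheme) := ⟨fun x => x.2 ⟨x.1, rfl⟩⟩
    infer_instance
  refine IsZariskiLocalAtTarget.of_iSup_eq_top (P := @IsClosedImmersion) (fun o : Option (Fin (n + 1)) => o.elim E D) ?_ ?_
  · refine top_le_iff.1 fun y _ => ?_
    by_cases hy : y ∈ Set.range r
    · obtain ⟨x, rfl⟩ := hy
      obtain ⟨i, W, hxW, hW⟩ := InvX.exists_frame_of_generated hL s x (hs x)
      refine Opens.mem_iSup.2 ⟨some i, show x ∈ r ⁻¹ᵁ D i from (hpre i).ge ?_⟩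
      exact (TrivBasic.mem_locus_iff.2 ⟨W, hxW, hW⟩ : _)
    · exact Opens.mem_iSup.2 ⟨none, hy⟩
  · rintro (_ | i)
    · exact hE
    · exact hloc i

end Groth.Agent.Curves16
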