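import Groth.Agent.Curves16.EmbedGen
import Groth.Agent.S0002

/-!
# Very ampleness from vanishing
-/

noncomputable section

set_option linter.style.haveILetI false
set_option linter.unusedSectionVars false
set_option backward.isDefEq.respectTransparency false
set_option backward.isDefEq.respectTransparency.types false

universe u

open CategoryTheory CategoryTheory.Limits AlgebraicGeometry TopologicalSpace Opposite

namespace Groth.Agent.Curves16

open Groth.Agent

variable {X : Scheme.{u}} (R : Type u) [CommRing R] [IsNoetherianRing R] [X.Over (Spec (CommRingCat.of R))]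
  [IsProper (X ↘ Spec (CommRingCat.of R))]

theorem h0_smul (M : X.Modules) (a : R) (t : Coh.HH X M 0) :
    (Sheaf.H.equiv₀ (Coh.toAb M) isTerminalTop (a • t) : Γ(M, ⊤)) =
      glb (X ↘ Spec (CommRingCat.of R)) a • (show Γ(M, ⊤) from Sheaf.H.equiv₀ (Coh.toAb M) isTerminalTop t) := by
  refine ((Sheaf.H.equiv₀_naturality isTerminalTop
    (Coh.smulAb M (Coh.toGlobal (X ↘ Spec (CommRingCat.of R)) a)) t).symm).trans ?_
  exact congrArg (fun c : Γ(X, ⊤) => c • (show Γ(M, ⊤) from Sheaf.H.equiv₀ (Coh.toAb M) isTerminalTop t))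
    (AModX.resR_self (Coh.toGlobal (X ↘ Spec (CommRingCat.of R)) a))

/-- Finitely many sections spanning all sections over the base. -/
theorem exists_spanning {L : X.Modules} (hL : Coh.IsCoh L) :
    ∃ (n : ℕ) (s : Fin (n + 1) → Γ(L, ⊤)),
      ∀ z : Γ(L, ⊤), ∃ c : Fin (n + 1) → R, z = ∑ l, glb (X ↘ Spec (CommRingCat.of R)) (c l) • s l := by
  haveI := S0002.result R X L hL 0
  obtain ⟨n, s, hs⟩ := Module.Finite.exists_fin (R := R) (M := Coh.HH X L 0)
  let e := Sheaf.H.equiv₀ (Coh.toAb L) isTerminalTop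
  let v : Fin (n + 1) → Coh.HH X L 0 := Fin.cons 0 s
  refine ⟨n, fun l => e (v l), fun z => ?_⟩
  have hv : Submodule.span R (Set.range v) = ⊤ := eq_top_iff.2 (hs.ge.trans (Submodule.span_mono (by
    rintro _ ⟨i, rfl⟩
    exact ⟨i.succ, Fin.cons_succ _ _ _⟩)))
  obtain ⟨c, hc⟩ := (Submodule.mem_span_range_iff_exists_fun R).1 (hv.ge (Submodule.mem_top (x := e.symm z)))
  refine ⟨c, ((congrArg e hc).trans (e.apply_symm_apply z)).symm.trans ((map_sum e _ _).trans ?_)⟩
  exact Finset.sum_congr rfl fun l _ => h0_smul R L (c l) (v l)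

/-- Sections spanning all sections generate a generated module. -/
theorem generatedBy_of_spanning {L : X.Modules} (hgg : Curv2.IsGloballyGenerated L) {n : ℕ}
    (s : Fin (n + 1) → Γ(L, ⊤))
    (hspan : ∀ z : Γ(L, ⊤), ∃ c : Fin (n + 1) → R, z = ∑ l, glb (X ↘ Spec (CommRingCat.of R)) (c l) • s l) :
    ProjUP.GeneratedBy L s := fun x => by
  obtain ⟨ι, t, ht⟩ := exists_generatedBy hgg
  refine le_antisymm le_top ((ht x).ge.trans (Submodule.span_le.2 ?_))
  rintro _ ⟨i, rfl⟩
  obtain ⟨c, hc⟩ := hspan (t i)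
  show L.presheaf.germ ⊤ x trivial (t i) ∈ _
  rw [hc, map_sum]
  refine Submodule.sum_mem _ fun l _ => ?_
  rw [QCoh.germ_smul']
  exact Submodule.smul_mem _ _ (Submodule.subset_span ⟨l, rfl⟩)

/-- Generated ample modules with trivial `H¹` of the structure sheaf are very ample. -/
theorem exists_embedding_of_h1 [IsNoetherian X]
    (h2 : ∀ {M : X.Modules}, Coh.IsCoh M → Subsingleton (Coh.HH X M 2))
    (h1 : Subsingleton (Coh.HH X (Coh.structureModule X) 1))
    {L : X.Modules} (hA : CohB1.IsAmple L) (hgg : Curv2.IsGloballyGenerated L) :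
    ∃ (n : ℕ) (r : X ⟶ CohB1.ProjSpace n R), IsClosedImmersion r ∧
      r ≫ CohB1.ProjSpace.toSpec n R = X ↘ Spec (CommRingCat.of R) ∧
      Nonempty ((Scheme.Modules.pullback r).obj (Twist.twistProjSpace n R 1) ≅ L) := by
  have hLc := CurveDeg.isCoh_of_isInvertible hA.1
  obtain ⟨n, s, hspan⟩ := exists_spanning R hLc
  have hs : ProjUP.GeneratedBy L s := generatedBy_of_spanning R hgg s hspan
  have hvan : ∀ j, Subsingleton (Coh.HH X (CohB1.tensorPow L j) 1) := fun j => by
    induction j with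
    | zero => exact h1
    | succ j ih => exact subsingleton_h1_tensorMod h2 (InvX.isInvertible_tensorPow hA.1 j) hA.1 hgg ih
  obtain ⟨r, h⟩ := exists_embedding (X ↘ Spec (CommRingCat.of R)) hA s hs hspan fun N z =>
    exists_sum_tmul_eq R h2 (InvX.isInvertible_tensorPow hA.1 N) hA.1 hgg (hvan N) z
  exact ⟨n, r, h⟩

end Groth.Agent.Curves16
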