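import Groth.Agent.Curves16.EmbedH1
import Groth.Prelude.Def_LCI2
import Groth.Agent.Lib.AmpleEmbed
import Groth.Agent.AbTors.Deg
import Groth.Agent.Curves16.MulSurj
import Groth.Agent.AmpleX.Extend
import Mathlib.AlgebraicGeometry.ZariskisMainTheorem

/-!
# Embeddings in projective space over a base
-/

noncomputable section

set_option linter.style.haveILetI false
set_option linter.unusedSectionVars false
set_option backward.isDefEq.respectTransparency false
set_option backward.isDefEq.respectTransparency.types false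
set_option maxHeartbeats 800000

universe u

open CategoryTheory CategoryTheory.Limits AlgebraicGeometry TopologicalSpace Opposite HomogeneousLocalization

namespace Groth.Agent.Curves16

open Groth.Agent Groth.Agent.InvX Groth.Agent.H23

variable {X : Scheme.{u}} {R : Type u} [CommRing R]

/-- An ample module with generating sections whose products span all powers is relatively very ample. -/
theorem exists_embedding_over (f : X ⟶ Spec (CommRingCat.of R)) [IsProper f] {L : X.Modules} (hA : CohB1.IsAmple L)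
    {n : ℕ} (s : Fin (n + 1) → Γ(L, ⊤)) (hs : ProjUP.GeneratedBy L s)
    (hspan : ∀ z : Γ(L, ⊤), ∃ c : Fin (n + 1) → R, z = ∑ l, glb f (c l) • s l)
    (hmul : ∀ (N : ℕ) (z : Γ(CohB1.tensorPow L (N + 2), ⊤)), ∃ (r : Type u) (_ : Fintype r)
      (a : r → Γ(CohB1.tensorPow L (N + 1), ⊤)) (b : r → Γ(L, ⊤)), z = ∑ j, InvX.tmul (a j) (b j)) :
    ∃ (i : X ⟶ CohB1.ProjSpaceOver n (Spec (CommRingCat.of R))), IsClosedImmersion i ∧
      i ≫ pullback.snd (CohB1.ProjSpace.toSpec n (ULift.{u} ℤ)) (specULiftZIsTerminal.from (Spec (CommRingCat.of R))) = f ∧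
      Nonempty (L ≅ (Scheme.Modules.pullback i).obj (Twist.twistOver n (Spec (CommRingCat.of R)) 1)) := by
  classical
  have hL := hA.1
  haveI : CompactSpace X := hA.2.1
  haveI : X.IsSeparated := ⟨by
    rw [← Limits.terminal.comp_from f]
    infer_instance⟩
  let Z := ULift.{u} ℤ
  let pr₁ := pullback.fst (CohB1.ProjSpace.toSpec n Z) (specULiftZIsTerminal.from (Spec (CommRingCat.of R)))
  let pr₂ := pullback.snd (CohB1.ProjSpace.toSpec n Z) (specULiftZIsTerminal.from (Spec (CommRingCat.of R)))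
  obtain ⟨r, hr, τ, hτ⟩ := S3572.result n (specULiftZIsTerminal.from X) L hL s hs
  let ρ : X ⟶ CohB1.ProjSpaceOver n (Spec (CommRingCat.of R)) :=
    pullback.lift r f (specULiftZIsTerminal.hom_ext _ _)
  have hρ₁ : ρ ≫ pr₁ = r := pullback.lift_fst _ _ _
  have hρ₂ : ρ ≫ pr₂ = f := pullback.lift_snd _ _ _
  refine ⟨ρ, ?_, hρ₂, ⟨τ.symm ≪≫ eqToIso (congrArg (fun q => (Scheme.Modules.pullback q).obj (Twist.twistProjSpace n Z 1)) hρ₁.symm) ≪≫
    ((Scheme.Modules.pullbackComp ρ pr₁).app _).symm⟩⟩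
  haveI hp : IsProper (CohB1.ProjSpace.toSpec n Z) := PnCoh.Chow.isProper_toSpec n Z
  haveI : IsProper pr₂ := MorphismProperty.pullback_snd _ _ hp
  haveI : IsProper ρ := by
    haveI : IsProper (ρ ≫ pr₂) := hρ₂ ▸ ‹IsProper f›
    exact IsProper.of_comp ρ pr₂
  haveI : IsAffineHom pr₁ := MorphismProperty.pullback_fst _ _ inferInstance
  let D₀ : Fin (n + 1) → (CohB1.ProjSpace n Z).Opens := fun i =>
    Proj.basicOpen (CohB1.polyGrading n Z) (MvPolynomial.X i)
  let D : Fin (n + 1) → (CohB1.ProjSpaceOver n (Spec (CommRingCat.of R))).Opens := fun i => pr₁ ⁻¹ᵁ D₀ i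
  let U : Fin (n + 1) → X.Opens := fun i => TrivBasic.locus (s i)
  have hpre₀ : ∀ i, r ⁻¹ᵁ D₀ i = U i := fun i => AmpleEmbed.preimage_chart r τ i (hτ i)
  have hpre : ∀ i, ρ ⁻¹ᵁ D i = U i := fun i => by rw [← hpre₀ i, ← hρ₁]; rfl
  have hDaff : ∀ i, IsAffineOpen (D i) := fun i =>
    (Proj.isAffineOpen_basicOpen _ _ (ProjPt.X_mem _) one_pos).preimage pr₁
  have hfr : ∀ i, IsFrame (AModX.res L (le_top : U i ≤ ⊤) (s i)) := fun i =>
    TrivBasic.isFrame_res_of_le_locus (le_refl (U i))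
  have hUaff : ∀ i, IsAffineOpen (U i) := fun i => by
    rw [← hpre i]
    haveI : IsAffine (D i : Scheme) := hDaff i
    haveI : IsProper (ρ ∣_ D i) := IsZariskiLocalAtTarget.restrict ‹IsProper ρ› _
    have hU : ρ ⁻¹ᵁ D i = CohB1.genLocus L (InvX.ofSect (s i)) := hpre i
    haveI : IsAffineHom (ρ ⁻¹ᵁ D i).ι := by
      rw [hU]
      exact InvX.isAffineHom_genLocus_ι hL _
    haveI : CompactSpace (ρ ⁻¹ᵁ D i).toScheme := QuasiCompact.compactSpace_of_compactSpace (ρ ⁻¹ᵁ D i).ι
    refine isAffine_of_isProper_of_isAmple (ρ ∣_ D i) ?_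
    have h1 : IsFrame (AModX.res L (le_top : ρ ⁻¹ᵁ D i ≤ ⊤) (s i)) :=
      TrivBasic.isFrame_res_of_le_locus (hpre i).le
    obtain ⟨e⟩ := InvX.nonempty_iso_of_isFrame h1
    exact AmpleX.isAmple_of_iso (((Scheme.Modules.restrictFunctorIsoPullback _).app L).symm ≪≫ e)
      (AbTors.isAmple_pullback_of_isAffineHom (ρ ⁻¹ᵁ D i).ι hA)
  have hloc : ∀ i, IsClosedImmersion (ρ ∣_ D i) := fun i => by
    haveI : IsAffine (D i : Scheme) := hDaff i
    haveI : IsAffine (ρ ⁻¹ᵁ D i : Scheme) := by rw [hpre]; exact hUaff i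
    refine IsClosedImmersion.of_surjective_of_isAffine _ ?_
    have hsurj : Function.Surjective (ρ.appLE (D i) (U i) (hpre i).ge) := by
      let S : Subring Γ(X, U i) := (ρ.appLE (D i) (U i) (hpre i).ge).hom.range
      have hS : Set.range (cst f (U i)) ⊆ S := by
        rintro _ ⟨c, rfl⟩
        refine ⟨pr₂.appLE ⊤ (D i) le_top ((Scheme.ΓSpecIso (CommRingCat.of R)).inv c), ?_⟩
        show (pr₂.appLE ⊤ (D i) le_top ≫ ρ.appLE (D i) (U i) (hpre i).ge).hom
          ((Scheme.ΓSpecIso (CommRingCat.of R)).inv c) = _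
        rw [Scheme.Hom.appLE_comp_appLE]
        simp only [hρ₂]
        rfl
      choose β hβ using fun l => (hfr i).exists_coord le_rfl (AModX.res L (le_top : U i ≤ ⊤) (s l))
      simp only [AModX.res_self] at hβ
      have hβS : ∀ l, β l ∈ S := fun l => by
        refine ⟨pr₁.appLE (D₀ i) (D i) le_rfl ((Proj.awayToSection (CohB1.polyGrading n Z) (MvPolynomial.X i)).hom
          (Away.mk (CohB1.polyGrading n Z) (ProjPt.X_mem _) 1 (MvPolynomial.X l)
            (by rw [one_smul]; exact ProjPt.X_mem _))), ?_⟩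
        show (pr₁.appLE (D₀ i) (D i) le_rfl ≫ ρ.appLE (D i) (U i) (hpre i).ge).hom
          ((Proj.awayToSection (CohB1.polyGrading n Z) (MvPolynomial.X i)).hom
            (Away.mk (CohB1.polyGrading n Z) (ProjPt.X_mem _) 1 (MvPolynomial.X l)
              (by rw [one_smul]; exact ProjPt.X_mem _))) = _
        rw [Scheme.Hom.appLE_comp_appLE]
        simp only [hρ₁]
        exact AmpleEmbed.ratioOf_eq r τ i l (hτ i) (hτ l) (hpre₀ i).ge (β l) (hβ l)
      intro b
      let σ : Coh.structureModule X ⟶ L := InvX.ofSect (s i)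
      obtain ⟨n₀, hn₀⟩ := AmpleX.exists_extend (AmpleX.isQCoh_one X) hL σ
        (show Γ(Coh.structureModule X, CohB1.genLocus L σ) from (b : Γ(X, U i)))
      obtain ⟨T, hT⟩ := hn₀ (n₀ + 1) (Nat.le_succ _)
      rw [InvX.one_ofSect] at hT
      obtain ⟨B, rfl⟩ := exists_one_tmul (InvX.isInvertible_tensorPow hL (n₀ + 1)) T
      obtain ⟨c, hc, hB⟩ := exists_coord_mem f hL s hspan hmul _ S hS β hβ hβS n₀ B
      have hb : b = c := by
        let P := AmpleX.powElt (AModX.res L (le_top : U i ≤ ⊤) (s i)) (n₀ + 1)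
        let o : Γ(Coh.structureModule X, U i) := (1 : Γ(X, U i))
        have ho : AModX.res (Coh.structureModule X) (le_top : U i ≤ ⊤)
            (show Γ(Coh.structureModule X, ⊤) from (1 : Γ(X, ⊤))) = o := map_one (AModX.resR (le_top : U i ≤ ⊤))
        have h2 : InvX.tmul o (c • P) = InvX.tmul (show Γ(Coh.structureModule X, U i) from b) P := by
          rw [← ho, ← hB, ← InvX.res_tmul]
          exact hT
        have hF : IsFrame (InvX.tmul o P) :=
          InvX.isFrame_tmul (InvX.isFrame_one (U i)) (AmpleX.isFrame_powElt (hfr i) (n₀ + 1))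
        refine hF.coord_unique le_rfl ?_
        rw [AModX.res_self, ← InvX.tmul_smul_right c o P, h2, ← InvX.tmul_smul_left]
        exact congrArg (fun q => InvX.tmul q P) (mul_one b)
      obtain ⟨y, hy⟩ := hc
      exact ⟨y, hy.trans hb.symm⟩
    intro z
    rw [morphismRestrict_appTop]
    obtain ⟨y, hy⟩ := hsurj (X.presheaf.map (eqToHom (hpre i).symm).op
      ((ρ ⁻¹ᵁ D i).topIso.hom z))
    refine ⟨(D i).topIso.inv y, (ConcreteCategory.bijective_of_isIso (ρ ⁻¹ᵁ D i).topIso.hom).1 ?_⟩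
    apply (ConcreteCategory.bijective_of_isIso (X.presheaf.map (eqToHom (hpre i).symm).op)).1
    rw [← hy]
    simp only [← CommRingCat.comp_apply]
    congr 2
    simp only [Scheme.Hom.appLE, Scheme.Opens.topIso, Category.assoc]
    simp [← Functor.map_comp]
    rw [ρ.naturality_assoc, ← Functor.map_comp]
    rfl
  let E : (CohB1.ProjSpaceOver n (Spec (CommRingCat.of R))).Opens := ⟨(Set.range ρ)ᶜ, ρ.isClosedMap.isClosed_range.isOpen_compl⟩
  have hE : IsClosedImmersion (ρ ∣_ E) := by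
    haveI : IsEmpty (ρ ⁻¹ᵁ E : Scheme) := ⟨fun x => x.2 ⟨x.1, rfl⟩⟩
    infer_instance
  refine IsZariskiLocalAtTarget.of_iSup_eq_top (P := @IsClosedImmersion) (fun o : Option (Fin (n + 1)) => o.elim E D) ?_ ?_
  · refine top_le_iff.1 fun y _ => ?_
    by_cases hy : y ∈ Set.range ρ
    · obtain ⟨x, rfl⟩ := hy
      obtain ⟨i, W, hxW, hW⟩ := InvX.exists_frame_of_generated hL s x (hs x)
      refine Opens.mem_iSup.2 ⟨some i, show x ∈ ρ ⁻¹ᵁ D i from (hpre i).ge ?_⟩
      exact (TrivBasic.mem_locus_iff.2 ⟨W, hxW, hW⟩ : _)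
    · exact Opens.mem_iSup.2 ⟨none, hy⟩
  · rintro (_ | i)
    · exact hE
    · exact hloc i

/-- Generated ample modules with trivial `H¹` of the structure sheaf are relatively very ample. -/
theorem exists_embedding_over_of_h1 [IsNoetherianRing R] [X.Over (Spec (CommRingCat.of R))]
    [IsProper (X ↘ Spec (CommRingCat.of R))] [IsNoetherian X]
    (h2 : ∀ {M : X.Modules}, Coh.IsCoh M → Subsingleton (Coh.HH X M 2))
    (h1 : Subsingleton (Coh.HH X (Coh.structureModule X) 1))
    {L : X.Modules} (hA : CohB1.IsAmple L) (hgg : Curv2.IsGloballyGenerated L) :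
    ∃ (n : ℕ) (i : X ⟶ CohB1.ProjSpaceOver n (Spec (CommRingCat.of R))), IsClosedImmersion i ∧
      i ≫ pullback.snd (CohB1.ProjSpace.toSpec n (ULift.{u} ℤ)) (specULiftZIsTerminal.from (Spec (CommRingCat.of R))) =
        X ↘ Spec (CommRingCat.of R) ∧
      Nonempty (L ≅ (Scheme.Modules.pullback i).obj (Twist.twistOver n (Spec (CommRingCat.of R)) 1)) := by
  have hLc := CurveDeg.isCoh_of_isInvertible hA.1
  obtain ⟨n, s, hspan⟩ := exists_spanning R hLc
  have hs : ProjUP.GeneratedBy L s := generatedBy_of_spanning R hgg s hspan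
  have hvan : ∀ j, Subsingleton (Coh.HH X (CohB1.tensorPow L j) 1) := fun j => by
    induction j with
    | zero => exact h1
    | succ j ih => exact subsingleton_h1_tensorMod h2 (InvX.isInvertible_tensorPow hA.1 j) hA.1 hgg ih
  obtain ⟨r, h⟩ := exists_embedding_over (X ↘ Spec (CommRingCat.of R)) hA s hs hspan fun N z =>
    exists_sum_tmul_eq R h2 (InvX.isInvertible_tensorPow hA.1 N) hA.1 hgg (hvan N) z
  exact ⟨n, r, h⟩

end Groth.Agent.Curves16
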