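import Groth.Agent.Curves16.FreeEval
import Groth.Agent.FormalSch78.QCohRes
import Mathlib.AlgebraicGeometry.FunctionField
import Mathlib.AlgebraicGeometry.Morphisms.Smooth

/-!
# Derivations along a curve in a smooth variety: the setting
-/

universe u

open CategoryTheory CategoryTheory.Limits AlgebraicGeometry TopologicalSpace Opposite

set_option linter.style.haveILetI false
set_option linter.unusedSectionVars false
set_option backward.isDefEq.respectTransparency false
set_option backward.isDefEq.respectTransparency.types false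

noncomputable section

namespace Groth.Agent.Curves16.Free

open Groth.Agent Groth.Agent.AModX
open Groth.Agent.H44REq (kX kX_res)

variable {k : Type u} [Field k] {X P : Scheme.{u}} [X.Over (Spec (CommRingCat.of k))]
  [P.Over (Spec (CommRingCat.of k))] [IsIntegral P]

variable (k P) in
/-- The constants in the function field. -/
def kK : k →+* P.functionField :=
  (P.presheaf.germ ⊤ (genericPoint P) trivial).hom.comp (kX (P ↘ Spec (CommRingCat.of k)) ⊤)

/-- The algebra structure on sections. -/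
abbrev algX (Y : Scheme.{u}) [Y.Over (Spec (CommRingCat.of k))] (U : Y.Opens) : Algebra k Γ(Y, U) :=
  (kX (Y ↘ Spec (CommRingCat.of k)) U).toAlgebra

/-- The algebra structure on the function field. -/
abbrev algK : Algebra k P.functionField := (kK k P).toAlgebra

/-- The algebra structure on the stalks. -/
abbrev algS (x : P) : Algebra k (P.presheaf.stalk x) :=
  ((P.presheaf.germ ⊤ x trivial).hom.comp (kX (P ↘ Spec (CommRingCat.of k)) ⊤)).toAlgebra

attribute [local instance] algX algK algS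

theorem algebraMap_germ (x : P) {V : P.Opens} (hx : x ∈ V) (hη : genericPoint P ∈ V) (a : Γ(P, V)) :
    algebraMap (P.presheaf.stalk x) P.functionField (P.presheaf.germ V x hx a) =
      P.presheaf.germ V (genericPoint P) hη a := by
  rw [RingHom.algebraMap_toAlgebra, ← ConcreteCategory.comp_apply]
  exact congrArg (fun φ => φ a) (congrArg (fun (g : Γ(P, V) ⟶ P.functionField) => g.hom)
    (P.presheaf.germ_stalkSpecializes hx ((genericPoint_spec P).specializes trivial)))

/-- Regularity at a point. -/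
def Reg (x : P) : Subring P.functionField := (algebraMap (P.presheaf.stalk x) P.functionField).range

/-- Elements vanishing at a point. -/
def Mx (x : P) : AddSubgroup P.functionField :=
  (IsLocalRing.maximalIdeal (P.presheaf.stalk x)).toAddSubgroup.map
    (algebraMap (P.presheaf.stalk x) P.functionField).toAddMonoidHom

theorem mem_Mx {x : P} {v : P.functionField} :
    v ∈ Mx x ↔ ∃ m ∈ IsLocalRing.maximalIdeal (P.presheaf.stalk x), algebraMap _ P.functionField m = v := Iff.rfl

theorem mul_mem_Mx {x : P} {v w : P.functionField} (hv : v ∈ Reg x) (hw : w ∈ Mx x) : v * w ∈ Mx x := by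
  obtain ⟨a, rfl⟩ := hv
  obtain ⟨m, hm, rfl⟩ := mem_Mx.1 hw
  exact mem_Mx.2 ⟨a * m, Ideal.mul_mem_left _ a hm, map_mul _ a m⟩

theorem Mx_le_Reg (x : P) {v : P.functionField} (h : v ∈ Mx x) : v ∈ Reg x := by
  obtain ⟨m, -, rfl⟩ := mem_Mx.1 h
  exact ⟨m, rfl⟩

theorem prod_mem_Mx {ι : Type*} [Fintype ι] {x : P} {v : ι → P.functionField} (i : ι) (hi : v i ∈ Mx x)
    (h : ∀ l, v l ∈ Reg x) : ∏ l, v l ∈ Mx x := by
  classical
  rw [← Finset.mul_prod_erase _ v (Finset.mem_univ i), mul_comm]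
  exact mul_mem_Mx (Subring.prod_mem _ fun l _ => h l) hi

theorem det_mem_Reg {x : P} {i : ℕ} {M : Matrix (Fin i) (Fin i) P.functionField} (h : ∀ q p, M q p ∈ Reg x) :
    M.det ∈ Reg x := by
  rw [Matrix.det_apply]
  refine Subring.sum_mem _ fun σ _ => ?_
  rw [Units.smul_def]
  exact Subring.zsmul_mem _ (Subring.prod_mem _ fun q _ => h _ _) _

theorem det_mem_Mx {x : P} {i : ℕ} {M : Matrix (Fin i) (Fin i) P.functionField} (h : ∀ q p, M q p ∈ Reg x)
    (p₀ : Fin i) (h₀ : ∀ q, M q p₀ ∈ Mx x) : M.det ∈ Mx x := by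
  rw [Matrix.det_apply]
  refine AddSubgroup.sum_mem _ fun σ _ => ?_
  rw [Units.smul_def]
  exact AddSubgroup.zsmul_mem _ (prod_mem_Mx (v := fun l => M (σ l) l) p₀ (h₀ _) fun l => h _ _) _

theorem kK_mem_Reg (x : P) (c : k) : kK k P c ∈ Reg x :=
  ⟨_, algebraMap_germ x (V := ⊤) trivial trivial _⟩

theorem kK_mem_Mx_iff (x : P) (c : k) : kK k P c ∈ Mx x ↔ c = 0 := by
  refine ⟨fun h => ?_, fun h => by rw [h, map_zero]; exact zero_mem _⟩
  by_contra hc
  obtain ⟨m, hm, he⟩ := mem_Mx.1 h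
  let a : P.presheaf.stalk x := P.presheaf.germ ⊤ x trivial (kX (P ↘ Spec (CommRingCat.of k)) ⊤ c)
  have ha : m = a := IsFractionRing.injective _ P.functionField
    (he.trans (algebraMap_germ x (V := ⊤) trivial trivial _).symm)
  exact (IsLocalRing.mem_maximalIdeal _).1 hm
    (ha ▸ ((Ne.isUnit hc).map (kX (P ↘ Spec (CommRingCat.of k)) ⊤)).map (P.presheaf.germ ⊤ x trivial).hom)

variable (γ : P ⟶ X)

/-- The opens which meet the curve. -/
abbrev Meets (U : X.Opens) : Prop := γ.base (genericPoint P) ∈ U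

theorem meets_of_mem {U : X.Opens} {x : P} (hx : γ.base x ∈ U) : Meets γ U :=
  (((genericPoint_spec P).specializes (Set.mem_univ x)).map γ.base.hom.2).mem_open U.2 hx

/-- Restriction of functions to the generic point of the curve. -/
def φU (U : X.Opens) (h : Meets γ U) : Γ(X, U) →+* P.functionField :=
  (γ.app U ≫ P.presheaf.germ (γ ⁻¹ᵁ U) (genericPoint P) h).hom

theorem φU_res {U V : X.Opens} (hV : Meets γ V) (i : V ≤ U) (hU : Meets γ U) (a : Γ(X, U)) :
    φU γ V hV (resR i a) = φU γ U hU a := by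
  show P.presheaf.germ (γ ⁻¹ᵁ V) _ _ (γ.app V (X.presheaf.map (homOfLE i).op a)) =
    P.presheaf.germ (γ ⁻¹ᵁ U) _ _ (γ.app U a)
  rw [← ConcreteCategory.comp_apply (X.presheaf.map _) (γ.app V), γ.naturality, ConcreteCategory.comp_apply]
  exact P.presheaf.germ_res_apply ((Opens.map γ.base).map (homOfLE i)) _ hV _

theorem φU_mem_Reg {U : X.Opens} {x : P} (hx : γ.base x ∈ U) (h : Meets γ U) (a : Γ(X, U)) :
    φU γ U h a ∈ Reg x :=
  ⟨_, algebraMap_germ x (V := γ ⁻¹ᵁ U) hx h _⟩

variable [hγ : Fact (γ ≫ (X ↘ Spec (CommRingCat.of k)) = P ↘ Spec (CommRingCat.of k))]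

theorem app_kX (U : X.Opens) (c : k) :
    γ.app U (kX (X ↘ Spec (CommRingCat.of k)) U c) = kX (P ↘ Spec (CommRingCat.of k)) (γ ⁻¹ᵁ U) c := by
  have h : ∀ q : P ⟶ Spec (CommRingCat.of k), γ ≫ (X ↘ Spec (CommRingCat.of k)) = q →
      (X ↘ Spec (CommRingCat.of k)).appLE ⊤ U le_top ≫ γ.app U = q.appLE ⊤ (γ ⁻¹ᵁ U) le_top := fun q hq => by
    subst hq
    rw [Scheme.Hom.app_eq_appLE, Scheme.Hom.appLE_comp_appLE]
  exact congrArg (fun φ => φ ((Scheme.ΓSpecIso (CommRingCat.of k)).inv c))
    (congrArg (fun (g : Γ(Spec (CommRingCat.of k), ⊤) ⟶ Γ(P, γ ⁻¹ᵁ U)) => g.hom) (h _ hγ.out))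

theorem φU_kX (U : X.Opens) (h : Meets γ U) (c : k) :
    φU γ U h (kX (X ↘ Spec (CommRingCat.of k)) U c) = kK k P c := by
  show P.presheaf.germ (γ ⁻¹ᵁ U) _ _ (γ.app U _) = P.presheaf.germ ⊤ _ _ _
  rw [app_kX, ← kX_res (P ↘ Spec (CommRingCat.of k)) (show γ ⁻¹ᵁ U ≤ ⊤ from le_top)]
  exact P.presheaf.germ_res_apply (homOfLE le_top) _ h _

/-- The point as a homomorphism of algebras. -/
def φA (U : X.Opens) (h : Meets γ U) : Γ(X, U) →ₐ[k] P.functionField :=
  { φU γ U h with commutes' := fun c => φU_kX γ U h c }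

variable (k) in
/-- A derivation along the curve, regular everywhere. -/
structure GDer where
  /-- the derivation on sections -/
  d : ∀ U : X.Opens, Meets γ U → Γ(X, U) →+ P.functionField
  leib : ∀ (U : X.Opens) (h : Meets γ U) (a b : Γ(X, U)),
    d U h (a * b) = φU γ U h a * d U h b + φU γ U h b * d U h a
  const : ∀ (U : X.Opens) (h : Meets γ U) (c : k), d U h (kX (X ↘ Spec (CommRingCat.of k)) U c) = 0
  res : ∀ {U V : X.Opens} (i : V ≤ U) (hV : Meets γ V) (hU : Meets γ U) (a : Γ(X, U)),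
    d V hV (resR i a) = d U hU a
  reg : ∀ (U : X.Opens) (x : P) (hx : γ.base x ∈ U) (h : Meets γ U) (a : Γ(X, U)), d U h a ∈ Reg x

variable {γ}

/-- The derivation on an open. -/
def GDer.der (D : GDer k γ) (U : X.Opens) (h : Meets γ U) :
    FreeEval.Der (X ↘ Spec (CommRingCat.of k)) (φU γ U h) :=
  ⟨D.d U h, D.leib U h, D.const U h⟩

variable {n : ℕ}

/-- A combination over the ground field. -/
def combo (δ : Fin n → GDer k γ) (t : Fin n → k) (U : X.Opens) (h : Meets γ U) :
    FreeEval.Der (X ↘ Spec (CommRingCat.of k)) (φU γ U h) :=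
  FreeEval.comb (fun p => kK k P (t p)) fun p => (δ p).der U h

theorem combo_res (δ : Fin n → GDer k γ) (t : Fin n → k) {U V : X.Opens} (hV : Meets γ V) (i : V ≤ U)
    (hU : Meets γ U) :
    FreeEval.Compat (X ↘ Spec (CommRingCat.of k)) (φU γ U hU) i (φU γ V hV) (combo δ t U hU) (combo δ t V hV) :=
  fun a => by
  rw [combo, combo, FreeEval.comb_apply, FreeEval.comb_apply]
  exact Finset.sum_congr rfl fun p _ => congrArg _ ((δ p).res i hV hU a)

theorem combo_mem_Reg (δ : Fin n → GDer k γ) (t : Fin n → k) {U : X.Opens} {x : P} (hx : γ.base x ∈ U)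
    (h : Meets γ U) (a : Γ(X, U)) : (combo δ t U h).1 a ∈ Reg x := by
  rw [combo, FreeEval.comb_apply]
  exact Subring.sum_mem _ fun p _ => Subring.mul_mem _ (kK_mem_Reg x _) ((δ p).reg U x hx h a)

theorem lin_combo_mem_Reg [QuasiSeparated (X ↘ Spec (CommRingCat.of k))] (δ : Fin n → GDer k γ) (t : Fin n → k)
    {U : X.Opens} (hU : IsAffineOpen U) {x : P} (hx : γ.base x ∈ U) (h : Meets γ U)
    (z : Γ(Omega.sheaf (X ↘ Spec (CommRingCat.of k)), U)) :
    (FreeEval.lin _ _ hU (combo δ t U h)).1 z ∈ Reg x := by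
  induction z using H44REq.omega_induction (X ↘ Spec (CommRingCat.of k)) hU with
  | h0 => rw [map_zero]; exact Subring.zero_mem _
  | hadd a b ha hb => rw [map_add]; exact Subring.add_mem _ ha hb
  | hd c a =>
    rw [(FreeEval.lin _ _ hU _).2, FreeEval.lin_d]
    exact Subring.mul_mem _ (φU_mem_Reg γ hx h c) (combo_mem_Reg δ t hx h a)

/-- A derivation along the curve as a linear map. -/
def dA {U : X.Opens} {h : Meets γ U} (D : FreeEval.Der (X ↘ Spec (CommRingCat.of k)) (φU γ U h)) :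
    Γ(X, U) →ₗ[k] P.functionField where
  toFun := D.1
  map_add' := map_add D.1
  map_smul' c a := by
    rw [Algebra.smul_def, Algebra.smul_def, RingHom.algebraMap_toAlgebra, RingHom.algebraMap_toAlgebra, D.2.1,
      φU_kX, D.2.2, mul_zero, add_zero, RingHom.id_apply]

theorem isDer_dA {U : X.Opens} {h : Meets γ U} (D : FreeEval.Der (X ↘ Spec (CommRingCat.of k)) (φU γ U h)) :
    FreeJet.IsDer (φA γ U h) (dA D) := D.2.1

/-- A linear derivation as a derivation along the curve. -/
def ofLin {U : X.Opens} {h : Meets γ U} (δ : Γ(X, U) →ₗ[k] P.functionField)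
    (hδ : FreeJet.IsDer (φA γ U h) δ) : FreeEval.Der (X ↘ Spec (CommRingCat.of k)) (φU γ U h) :=
  ⟨δ.toAddMonoidHom, hδ, fun c => by
    show δ (algebraMap k Γ(X, U) c) = 0
    have h1 := hδ 1 1
    simp only [mul_one, map_one, one_mul, left_eq_add] at h1
    rw [Algebra.algebraMap_eq_smul_one, map_smul, h1, smul_zero]⟩

theorem formallySmooth_sections [Smooth (X ↘ Spec (CommRingCat.of k))] {U : X.Opens} (hU : IsAffineOpen U) :
    Algebra.FormallySmooth k Γ(X, U) ∧ Algebra.FiniteType k Γ(X, U) := by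
  have h1 : ((X ↘ Spec (CommRingCat.of k)).appLE ⊤ U le_top).hom.Smooth :=
    Scheme.Hom.smooth_appLE (X ↘ Spec (CommRingCat.of k)) (isAffineOpen_top _) hU le_top
  have h2 : (kX (X ↘ Spec (CommRingCat.of k)) U).Smooth :=
    RingHom.Smooth.respectsIso.2 _ (Scheme.ΓSpecIso (CommRingCat.of k)).symm.commRingCatIsoToRingEquiv h1
  haveI : Algebra.Smooth k Γ(X, U) := h2
  exact ⟨inferInstance, inferInstance⟩

end Groth.Agent.Curves16.Free
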