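import Groth.Agent.Curves16.FreeRoot
import Groth.Agent.H44Hyper.SmoothVanish
import Mathlib.LinearAlgebra.Matrix.Determinant.Basic

/-!
# A free rational curve kills the plurigenera
-/

universe u

open CategoryTheory CategoryTheory.Limits AlgebraicGeometry TopologicalSpace Opposite

set_option linter.style.haveILetI false
set_option linter.unusedSectionVars false
set_option backward.isDefEq.respectTransparency false
set_option backward.isDefEq.respectTransparency.types false

noncomputable section

namespace Groth.Agent.Curves16.Free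

open Groth.Agent Groth.Agent.AModX Groth.Agent.Pn90
open Groth.Agent.H44REq (kX)

variable {k : Type u} [Field k] {C : Scheme.{u}} [C.Over (Spec (CommRingCat.of k))] [IsIntegral C]

/-- A determinant of combinations of at most `i` regular columns, one of which vanishes, vanishes. -/
theorem det_combination_mem_Mx {x : C} {n i : ℕ} (hni : n ≤ i) (A : Fin i → Fin n → C.functionField)
    (hA : ∀ q r, A q r ∈ Reg x) (r₀ : Fin n) (h₀ : ∀ q, A q r₀ ∈ Mx x) (c : Fin i → Fin n → C.functionField)
    (hc : ∀ p r, c p r ∈ Reg x) : (Matrix.of fun q p => ∑ r, c p r * A q r).det ∈ Mx x := by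
  classical
  rw [← Matrix.det_transpose]
  have hexp : (Matrix.of fun p q => ∑ r, c p r * A q r).det =
      ∑ g : Fin i → Fin n, (∏ p, c p (g p)) * (Matrix.of fun p q => A q (g p)).det := by
    let T := (Matrix.detRowAlternating (n := Fin i) (R := C.functionField)).toMultilinearMap
    have h1 : (Matrix.of fun p q => ∑ r, c p r * A q r) = Matrix.of fun p => ∑ r, c p r • fun q => A q r := by
      ext p q
      simp [Finset.sum_apply]
    rw [h1]
    show T (fun p => ∑ r, c p r • fun q => A q r) = _
    rw [MultilinearMap.map_sum]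
    refine Finset.sum_congr rfl fun g _ => ?_
    rw [MultilinearMap.map_smul_univ, smul_eq_mul]
    rfl
  rw [show (Matrix.of fun q p => ∑ r, c p r * A q r).transpose = Matrix.of fun p q => ∑ r, c p r * A q r from rfl, hexp]
  refine AddSubgroup.sum_mem _ fun g _ => mul_mem_Mx (Subring.prod_mem _ fun p _ => hc p _) ?_
  by_cases hg : Function.Injective g
  · have hin : i = n := le_antisymm (by simpa using Fintype.card_le_of_injective g hg) hni
    subst hin
    obtain ⟨p, hp⟩ := (Finite.injective_iff_surjective.1 hg) r₀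
    rw [← Matrix.det_transpose]
    exact det_mem_Mx (fun q p' => hA q _) p fun q => by
      show A q (g p) ∈ Mx x
      rw [hp]; exact h₀ q
  · obtain ⟨p, p', hpp, hne⟩ := Function.not_injective_iff.1 hg
    rw [Matrix.det_zero_of_row_eq hne (funext fun q => by simp [hpp])]
    exact zero_mem _

variable [IsAlgClosed k] {X : Scheme.{u}} [X.Over (Spec (CommRingCat.of k))]
  [IsIntegral X] [Smooth (X ↘ Spec (CommRingCat.of k))] [QuasiSeparated (X ↘ Spec (CommRingCat.of k))]

/-- A free rational curve kills the pluricanonical forms. -/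
theorem subsingleton_h0_of_free (γ : P k 1 ⟶ X)
    (hγ : γ ≫ (X ↘ Spec (CommRingCat.of k)) = P k 1 ↘ Spec (CommRingCat.of k))
    (hnc : ¬ ∃ x : X, Set.range γ.base ⊆ {x})
    (hfree : Subsingleton (Coh.HH (P k 1)
      (CohB1.tensorMod ((Scheme.Modules.pullback γ).obj (Omega.sheaf (X ↘ Spec (CommRingCat.of k)))) (O k 1 (-1))) 0))
    {i : ℕ} (hi : topologicalKrullDim X ≤ i) {L : X.Modules}
    (hL : ExtPow.IsExtPow i (Omega.sheaf (X ↘ Spec (CommRingCat.of k))) L)
    {m : ℕ} (hm : 0 < m) : Subsingleton (Coh.HH X (CohB1.tensorPow L m) 0) := by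
  letI := Pn90.isIntegral k 1
  haveI := Pn90.isProper k 1
  haveI : Fact (γ ≫ (X ↘ Spec (CommRingCat.of k)) = P k 1 ↘ Spec (CommRingCat.of k)) := ⟨hγ⟩
  obtain ⟨n, δ, x₀, hspan, -, hrank, hvan⟩ := exists_derivations γ (Or.inl hfree)
  obtain ⟨D₀, x₁, hD₀, hne⟩ := exists_vanishing_derivation γ hnc
  obtain ⟨p₀, hp₀⟩ := hvan D₀ x₁ hD₀ hne
  obtain ⟨V, d, hxV, -, hdi, ⟨bV⟩⟩ := H44Hyper.exists_omega_basis (X ↘ Spec (CommRingCat.of k)) i hi
    (OmegaUniv.isUniversal_dOmega _) ⊤ (γ.base (genericPoint (P k 1))) trivial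
  have hni : n ≤ i := (hrank V.1 V.2 hxV d ⟨bV⟩).trans hdi
  refine subsingleton_h0_of_forall fun s => eq_zero_of_derivations δ hL s hm hspan x₀ fun U hU hx c v => ?_
  have h1 := det_combination_mem_Mx (x := x₀) hni
    (fun q r => (FreeEval.lin _ _ hU ((δ r).der U (meets_of_mem γ hx))).1 (v q))
    (fun q r => lin_mem_Reg (δ r) hU hx _ _) p₀ (fun q => lin_mem_Mx hp₀ hU hx _)
    (fun p r => kK k (P k 1) (c p r)) (fun p r => kK_mem_Reg x₀ _)
  simp only [combo, FreeEval.lin_comb]
  exact h1

end Groth.Agent.Curves16.Free
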