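import Groth.Agent.KFlatLib.Scheme.PullTensor
import Groth.Agent.Synt29.OmegaStalk
import Groth.Agent.QCoh.Stalk
import Groth.Agent.AModX.Res
import Groth.Agent.InvX.Pullback
import Mathlib.RingTheory.LocalProperties.Exactness
import Mathlib.RingTheory.Localization.Module

/-!
# Germs of pulled back frames
-/

universe u

open CategoryTheory CategoryTheory.Limits AlgebraicGeometry TopologicalSpace Opposite

set_option linter.style.haveILetI false
set_option backward.isDefEq.respectTransparency false
set_option backward.isDefEq.respectTransparency.types false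

noncomputable section

namespace Groth.Agent.Curves16

open Groth.Agent

/-- The germs of a frame of a quasi-coherent module, pulled back, form a basis of the stalk. -/
theorem exists_basis_germ_pullSect {P X : Scheme.{u}} (γ : P ⟶ X) {M : X.Modules} (hM : Coh.IsQCoh M) {U : X.Opens}
    (hU : IsAffineOpen U) {d : ℕ} (b : Module.Basis (Fin d) Γ(X, U) Γ(M, U)) (x : P) (hx : x ∈ γ ⁻¹ᵁ U) :
    ∃ β : Module.Basis (Fin d) (P.presheaf.stalk x) (((Scheme.Modules.pullback γ).obj M).presheaf.stalk x),
      ∀ q, β q = ((Scheme.Modules.pullback γ).obj M).presheaf.germ (γ ⁻¹ᵁ U) x hx (OmegaSh.pullSect γ M U (b q)) := by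
  have hxU : γ.base x ∈ U := hx
  letI := QCoh.stalkAlg (X := X) hxU
  letI := QCoh.stalkModule M hxU
  haveI := QCoh.isScalarTower_stalk M hxU
  haveI := QCoh.isLocalization_stalk' hU hxU
  haveI := QCoh.isLocalizedModule_germLin hM hU hxU
  let β₀ : Module.Basis (Fin d) (X.presheaf.stalk (γ.base x)) (M.presheaf.stalk (γ.base x)) :=
    b.ofIsLocalizedModule (X.presheaf.stalk (γ.base x)) (hU.primeIdealOf ⟨γ.base x, hxU⟩).asIdeal.primeCompl
      (QCoh.germLin M hxU)
  letI : Algebra (X.presheaf.stalk (γ.base x)) (P.presheaf.stalk x) := (γ.stalkMap x).hom.toAlgebra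
  let e := ((KFlatLib.stalkPullbackIso γ x).app M).toLinearEquiv
  let β₁ := Module.Basis.baseChange (P.presheaf.stalk x) β₀
  refine ⟨β₁.map e.symm, fun q => ?_⟩
  apply e.injective
  rw [Module.Basis.map_apply]
  refine (e.apply_symm_apply _).trans ?_
  refine Eq.trans ?_ (Synt29.OmegaStalk.stalkPullbackIso_gm γ M x hx (b q)).symm
  simp only [β₁, β₀, Module.Basis.baseChange_apply, Module.Basis.ofIsLocalizedModule_apply]
  rfl

end Groth.Agent.Curves16
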