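import Groth.Agent.Curves16.FreeMain
import Groth.Agent.Curves16.PullBasis
import Groth.Agent.Pn90.Split
import Groth.Agent.LimitsH94.LimLocFree
import Groth.Agent.CurveBC.Geometry
import Groth.Agent.Lib.InvEnd
import Groth.Agent.KRRLib.PnBC.Twist

/-!
# Derivations along a rational curve from the splitting of the pulled back differentials
-/

universe u

open CategoryTheory CategoryTheory.Limits AlgebraicGeometry TopologicalSpace Opposite

set_option linter.style.haveILetI false
set_option linter.unusedSectionVars false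
set_option backward.isDefEq.respectTransparency false
set_option backward.isDefEq.respectTransparency.types false
set_option maxHeartbeats 800000

noncomputable section

namespace Groth.Agent.Curves16.Free

open Groth.Agent Groth.Agent.AModX Groth.Agent.Pn90
open Groth.Agent.H44REq (kX)

/-- A derivation vanishing at a point. -/
def VanAt {k : Type u} [Field k] {X C : Scheme.{u}} [X.Over (Spec (CommRingCat.of k))]
    [C.Over (Spec (CommRingCat.of k))] [IsIntegral C] {γ : C ⟶ X} (D : GDer k γ) (x : C) : Prop :=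
  ∀ (U : X.Opens) (hx : γ.base x ∈ U) (a : Γ(X, U)), D.d U (meets_of_mem γ hx) a ∈ Mx x

section General

variable {k : Type u} [Field k] {X C : Scheme.{u}} [X.Over (Spec (CommRingCat.of k))]
  [C.Over (Spec (CommRingCat.of k))] [IsIntegral C] {γ : C ⟶ X}
  [hγ : Fact (γ ≫ (X ↘ Spec (CommRingCat.of k)) = C ↘ Spec (CommRingCat.of k))]
  [QuasiSeparated (X ↘ Spec (CommRingCat.of k))]

set_option quotPrecheck false in
local notation "ΩX" => Omega.sheaf (X ↘ Spec (CommRingCat.of k))
set_option quotPrecheck false in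
local notation "G" => (Scheme.Modules.pullback γ).obj (Omega.sheaf (X ↘ Spec (CommRingCat.of k)))

/-- The value at the generic point of a functional on a module. -/
def val {F : C.Modules} (τ : F ⟶ Coh.structureModule C) {V : C.Opens} (hV : genericPoint C ∈ V) :
    Γ(F, V) →+ C.functionField :=
  AddMonoidHom.mk' (fun z => C.presheaf.germ V (genericPoint C) hV (show Γ(C, V) from τ.app V z)) fun a b => by
    rw [← map_add (C.presheaf.germ V (genericPoint C) hV).hom]
    exact congrArg _ (map_add (τ.app V).hom a b)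

theorem val_smul {F : C.Modules} (τ : F ⟶ Coh.structureModule C) {V : C.Opens} (hV : genericPoint C ∈ V)
    (r : Γ(C, V)) (z : Γ(F, V)) :
    val τ hV (r • z) = C.presheaf.germ V (genericPoint C) hV r * val τ hV z := by
  show C.presheaf.germ V _ hV _ = _
  rw [show (show Γ(C, V) from τ.app V (r • z)) = r * (show Γ(C, V) from τ.app V z) from
    Scheme.Modules.Hom.app_smul τ r z, map_mul]
  rfl

theorem val_res {F : C.Modules} (τ : F ⟶ Coh.structureModule C) {V W : C.Opens} (i : W ≤ V)
    (hW : genericPoint C ∈ W) (hV : genericPoint C ∈ V) (z : Γ(F, V)) :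
    val τ hW (res F i z) = val τ hV z := by
  refine Eq.trans ?_ (C.presheaf.germ_res_apply (homOfLE i) _ hW _)
  exact congrArg _ (ConcreteCategory.congr_hom (τ.mapPresheaf.naturality (homOfLE i).op) z)

theorem val_mem_Reg {F : C.Modules} (τ : F ⟶ Coh.structureModule C) {V : C.Opens} {x : C} (hx : x ∈ V)
    (hV : genericPoint C ∈ V) (z : Γ(F, V)) : val τ hV z ∈ Reg x :=
  ⟨_, algebraMap_germ x hx hV _⟩

theorem app_eq_zero_of_val {F : C.Modules} (τ : F ⟶ Coh.structureModule C) {V : C.Opens}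
    (hV : genericPoint C ∈ V) {z : Γ(F, V)} (h : val τ hV z = 0) : τ.app V z = 0 :=
  AlgebraicGeometry.germ_injective_of_isIntegral C (genericPoint C) hV (h.trans (map_zero _).symm)

/-- The derivation of a functional on the pulled back differentials. -/
def ofHom (τ : G ⟶ Coh.structureModule C) : GDer k γ where
  d U h := (val τ (V := γ ⁻¹ᵁ U) h).comp
    ((OmegaSh.pullSect γ ΩX U).hom.comp ((OmegaSh.dOmega (X ↘ Spec (CommRingCat.of k))).app U))
  leib U h a b := by
    show val τ _ (OmegaSh.pullSect γ ΩX U ((OmegaSh.dOmega _).app U (a * b))) =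
      φU γ U h a * val τ _ (OmegaSh.pullSect γ ΩX U ((OmegaSh.dOmega _).app U b)) +
        φU γ U h b * val τ _ (OmegaSh.pullSect γ ΩX U ((OmegaSh.dOmega _).app U a))
    rw [(show (OmegaSh.dOmega (X ↘ Spec (CommRingCat.of k))).app U (a * b) = a • (OmegaSh.dOmega _).app U b +
      b • (OmegaSh.dOmega _).app U a from (OmegaSh.dOmega _).d_mul (X := op U) _ _), map_add, map_add,
      OmegaSh.pullSect_smul, OmegaSh.pullSect_smul, val_smul, val_smul]
    rfl
  const U h c := by
    show val τ _ (OmegaSh.pullSect γ ΩX U ((OmegaSh.dOmega _).app U (kX (X ↘ Spec (CommRingCat.of k)) U c))) = 0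
    have h0 : (OmegaSh.dOmega (X ↘ Spec (CommRingCat.of k))).app U (kX (X ↘ Spec (CommRingCat.of k)) U c) = 0 := by
      refine eq_of_locally _ _ fun p hp => ?_
      obtain ⟨_, ⟨W, hW, rfl⟩, hpW, hWU⟩ := X.isBasis_affineOpens.exists_subset_of_mem_open hp U.2
      refine ⟨W, hWU, hpW, ?_⟩
      rw [map_zero, show res ΩX hWU ((OmegaSh.dOmega _).app U (kX (X ↘ Spec (CommRingCat.of k)) U c)) =
        (OmegaSh.dOmega _).app W (resR (show W ≤ U from hWU) (kX (X ↘ Spec (CommRingCat.of k)) U c)) from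
          ((OmegaSh.dOmega _).d_map (homOfLE (show W ≤ U from hWU)).op _).symm,
        show resR (show W ≤ U from hWU) (kX (X ↘ Spec (CommRingCat.of k)) U c) = kX (X ↘ Spec (CommRingCat.of k)) W c from
          congrArg (fun g : k →+* Γ(X, W) => g c) (H44REq.kX_res _ _), H44REq.dOmega_kX _ hW]
    rw [h0, map_zero, map_zero]
  res {U V} i hV hU a := by
    show val τ _ (OmegaSh.pullSect γ ΩX V ((OmegaSh.dOmega _).app V (resR i a))) =
      val τ _ (OmegaSh.pullSect γ ΩX U ((OmegaSh.dOmega _).app U a))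
    rw [show (OmegaSh.dOmega (X ↘ Spec (CommRingCat.of k))).app V (resR i a) = res ΩX i ((OmegaSh.dOmega _).app U a) from
      (OmegaSh.dOmega _).d_map (homOfLE i).op a]
    rw [← val_res τ (γ.preimage_mono i) hV hU]
    exact congrArg _ (OmegaSh.pullSect_map γ ΩX i _)
  reg U x hx h a := val_mem_Reg τ hx _ _

theorem lin_ofHom (τ : G ⟶ Coh.structureModule C) {U : X.Opens} (hU : IsAffineOpen U) (h : Meets γ U)
    (z : Γ(ΩX, U)) :
    (FreeEval.lin _ _ hU ((ofHom τ).der U h)).1 z = val τ (V := γ ⁻¹ᵁ U) h (OmegaSh.pullSect γ ΩX U z) := by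
  induction z using H44REq.omega_induction (X ↘ Spec (CommRingCat.of k)) hU with
  | h0 => rw [map_zero, map_zero, map_zero]
  | hadd a b ha hb => rw [map_add, map_add, map_add, ha, hb]
  | hd c a =>
    rw [(FreeEval.lin _ _ hU _).2, FreeEval.lin_d, OmegaSh.pullSect_smul, val_smul]
    rfl

theorem lin_mem_Reg (D : GDer k γ) {U : X.Opens} (hU : IsAffineOpen U) {x : C} (hx : γ.base x ∈ U)
    (h : Meets γ U) (z : Γ(ΩX, U)) : (FreeEval.lin _ _ hU (D.der U h)).1 z ∈ Reg x := by
  induction z using H44REq.omega_induction (X ↘ Spec (CommRingCat.of k)) hU with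
  | h0 => rw [map_zero]; exact Subring.zero_mem _
  | hadd a b ha hb => rw [map_add]; exact Subring.add_mem _ ha hb
  | hd c a =>
    rw [(FreeEval.lin _ _ hU _).2, FreeEval.lin_d]
    exact Subring.mul_mem _ (φU_mem_Reg γ hx h c) (D.reg U x hx h a)

theorem lin_mem_Mx {D : GDer k γ} {x : C} (hD : VanAt D x) {U : X.Opens} (hU : IsAffineOpen U)
    (hx : γ.base x ∈ U) (z : Γ(ΩX, U)) :
    (FreeEval.lin _ _ hU (D.der U (meets_of_mem γ hx))).1 z ∈ Mx x := by
  induction z using H44REq.omega_induction (X ↘ Spec (CommRingCat.of k)) hU with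
  | h0 => rw [map_zero]; exact zero_mem _
  | hadd a b ha hb => rw [map_add]; exact add_mem ha hb
  | hd c a =>
    rw [(FreeEval.lin _ _ hU _).2, FreeEval.lin_d]
    exact mul_mem_Mx (φU_mem_Reg γ hx _ c) (hD U hx a)

/-- Near a point every section of the pulled back differentials is a combination of the pulled back frame. -/
theorem val_section_eq {U : X.Opens} (hU : IsAffineOpen U) {d : ℕ}
    (b : Module.Basis (Fin d) Γ(X, U) Γ(ΩX, U)) (h : Meets γ U) {x : C} (hx : γ.base x ∈ U)
    {V : C.Opens} (hxV : x ∈ V) (hV : genericPoint C ∈ V) (z : Γ(G, V)) :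
    ∃ N : Fin d → C.functionField, (∀ q, N q ∈ Reg x) ∧
      ∀ τ : G ⟶ Coh.structureModule C,
        val τ hV z = ∑ q, N q * val τ (V := γ ⁻¹ᵁ U) h (OmegaSh.pullSect γ ΩX U (b q)) := by
  classical
  obtain ⟨β, hβ⟩ := exists_basis_germ_pullSect γ (OmegaUniv.isQCoh_omega _) hU b x hx
  have hz := β.sum_repr ((G).presheaf.germ V x hxV z)
  choose W hxW c hc using fun q => C.presheaf.exists_germ_eq (x := x) (β.repr ((G).presheaf.germ V x hxV z) q)
  let T : C.Opens := V ⊓ γ ⁻¹ᵁ U ⊓ (Finset.univ : Finset (Fin d)).inf W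
  have hTW : ∀ q, T ≤ W q := fun q => inf_le_right.trans (Finset.inf_le (Finset.mem_univ q))
  have hxT : x ∈ T := ⟨⟨hxV, hx⟩, by
    have : ∀ s : Finset (Fin d), x ∈ s.inf W := fun s => by
      induction s using Finset.induction_on with
      | empty => trivial
      | insert a s _ ih => rw [Finset.inf_insert]; exact ⟨hxW a, ih⟩
    exact this _⟩
  have hTV : T ≤ V := inf_le_left.trans inf_le_left
  have hTU : T ≤ γ ⁻¹ᵁ U := inf_le_left.trans inf_le_right
  let w : Γ(G, T) := ∑ q, resR (hTW q) (c q) • res G hTU (OmegaSh.pullSect γ ΩX U (b q))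
  have hw : (G).presheaf.germ T x hxT (res G hTV z) = (G).presheaf.germ T x hxT w := by
    rw [show (G).presheaf.germ T x hxT (res G hTV z) = (G).presheaf.germ V x hxV z from
      TopCat.Presheaf.germ_res_apply _ (homOfLE hTV) x hxT z, ← hz, map_sum]
    refine Finset.sum_congr rfl fun q _ => ?_
    rw [QCoh.germ_smul', show C.presheaf.germ T x hxT (resR (hTW q) (c q)) = C.presheaf.germ (W q) x (hxW q) (c q) from
      C.presheaf.germ_res_apply (homOfLE (hTW q)) x hxT _, hc q, hβ]
    exact congrArg _ (TopCat.Presheaf.germ_res_apply _ (homOfLE hTU) x hxT _).symm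
  obtain ⟨T', hxT', i, j, hij⟩ := TopCat.Presheaf.germ_eq _ x hxT hxT _ _ hw
  have hη' : genericPoint C ∈ T' := ((genericPoint_spec C).specializes (Set.mem_univ x)).mem_open T'.2 hxT'
  have hη : genericPoint C ∈ T := i.le hη'
  refine ⟨fun q => C.presheaf.germ T (genericPoint C) hη (resR (hTW q) (c q)),
    fun q => ⟨_, algebraMap_germ x hxT hη _⟩, fun τ => ?_⟩
  rw [← val_res τ (i.le.trans hTV) hη' hV z, ← res_res hTV i.le z,
    show res G i.le (res G hTV z) = res G j.le w from hij, val_res τ j.le hη' hη w, map_sum]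
  exact Finset.sum_congr rfl fun q _ => by rw [val_smul, val_res τ hTU hη h]

/-- A split family of functionals gives derivations spanning all derivations along the curve, and the coefficients
of any derivation are regular where dual sections exist. -/
theorem hspan_of_split {n : ℕ} {A : Fin n → C.Modules} (r : ∀ p, G ⟶ A p) (s : ∀ p, A p ⟶ G)
    (htot : ∑ p, r p ≫ s p = 𝟙 G) (w : ∀ p, A p ⟶ Coh.structureModule C)
    (hw : ∀ p W, Function.Injective ((w p).app W))
    (U : X.Opens) (hU : IsAffineOpen U) {d : ℕ} (b : Module.Basis (Fin d) Γ(X, U) Γ(ΩX, U)) (h : Meets γ U)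
    (D : FreeEval.Der (X ↘ Spec (CommRingCat.of k)) (φU γ U h)) :
    ∃ c : Fin n → C.functionField, D = FreeEval.comb c fun p => (ofHom (r p ≫ w p)).der U h := by
  classical
  let M : Matrix (Fin d) (Fin n) C.functionField :=
    Matrix.of fun q p => val (r p ≫ w p) (V := γ ⁻¹ᵁ U) h (OmegaSh.pullSect γ ΩX U (b q))
  have hinj : ∀ y : Fin d → C.functionField, (∀ p, ∑ q, y q * M q p = 0) → y = 0 := by
    intro y hy
    obtain ⟨β, hβ⟩ := exists_basis_germ_pullSect γ (OmegaUniv.isQCoh_omega _) hU b (genericPoint C) h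
    choose W hxW c hc using fun q => C.presheaf.exists_germ_eq (x := genericPoint C) (y q)
    let T : C.Opens := γ ⁻¹ᵁ U ⊓ (Finset.univ : Finset (Fin d)).inf W
    have hTW : ∀ q, T ≤ W q := fun q => inf_le_right.trans (Finset.inf_le (Finset.mem_univ q))
    have hT : genericPoint C ∈ T := ⟨h, by
      have : ∀ s : Finset (Fin d), genericPoint C ∈ s.inf W := fun s => by
        induction s using Finset.induction_on with
        | empty => trivial
        | insert a s _ ih => rw [Finset.inf_insert]; exact ⟨hxW a, ih⟩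
      exact this _⟩
    let z : Γ(G, T) := ∑ q, resR (hTW q) (c q) • res G (show T ≤ γ ⁻¹ᵁ U from inf_le_left)
      (OmegaSh.pullSect γ ΩX U (b q))
    have hgy : ∀ q, C.presheaf.germ T (genericPoint C) hT (resR (hTW q) (c q)) = y q := fun q => by
      rw [← hc q]; exact C.presheaf.germ_res_apply (homOfLE (hTW q)) _ hT _
    have hz : ∀ p, (r p).app T z = 0 := fun p => hw p T (by
      rw [map_zero]
      refine app_eq_zero_of_val (r p ≫ w p) hT ?_
      rw [map_sum, ← hy p]
      exact Finset.sum_congr rfl fun q _ => by rw [val_smul, val_res (r p ≫ w p) inf_le_left hT h, hgy]; rfl)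
    have hz0 : z = 0 := by
      have e : (∑ p, r p ≫ s p).app T z = z := by rw [htot]; rfl
      rw [H23.Frame.app_sum] at e
      rw [← e]
      exact Finset.sum_eq_zero fun p _ => (congrArg ((s p).app T) (hz p)).trans (map_zero _)
    have hg := congrArg ((G).presheaf.germ T (genericPoint C) hT) hz0
    rw [map_sum, map_zero] at hg
    refine funext (Fintype.linearIndependent_iff.1 β.linearIndependent y (Eq.trans ?_ hg))
    refine Finset.sum_congr rfl fun q _ => ?_
    rw [QCoh.germ_smul', hgy, hβ]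
    exact congrArg _ (TopCat.Presheaf.germ_res_apply _ (homOfLE inf_le_left) _ hT _).symm
  have hsurj : Function.Surjective M.mulVecLin := by
    rw [← LinearMap.range_eq_top, ← Subspace.dualAnnihilator_inj, Submodule.dualAnnihilator_top, eq_bot_iff]
    intro l hl
    rw [Submodule.mem_dualAnnihilator] at hl
    rw [Submodule.mem_bot]
    refine LinearMap.pi_ext' fun q => LinearMap.ext_ring ?_
    have := hinj (fun q => l (Pi.single q 1)) fun p => by
      have h1 := hl _ ⟨Pi.single p 1, rfl⟩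
      rw [Matrix.mulVecLin_apply, Matrix.mulVec_single_one,
        show M.col p = ∑ q, M q p • (Pi.single q (1 : C.functionField) : Fin d → C.functionField) from
          (pi_eq_sum_univ' _), map_sum] at h1
      rw [← h1]
      exact Finset.sum_congr rfl fun q _ => by rw [map_smul, smul_eq_mul, mul_comm]
    exact congrFun this q
  obtain ⟨c, hc⟩ := hsurj fun q => (FreeEval.lin _ _ hU D).1 (b q)
  refine ⟨c, FreeEval.der_ext_of_basis _ _ hU b fun q => ?_⟩
  rw [← congrFun hc q, FreeEval.lin_comb]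
  show ∑ p, M q p * c p = _
  exact Finset.sum_congr rfl fun p _ => by rw [lin_ofHom]; exact mul_comm _ _

end General

section Line

variable {k : Type u} [Field k]

theorem exists_hom_ne_zero {a b : ℤ} (h : a ≤ b) : ∃ f : O k 1 a ⟶ O k 1 b, f ≠ 0 := by
  haveI := nontrivial_H0_O (k := k) (n := 1) (show 0 ≤ b - a by omega)
  let e₀ : Coh.HH (P k 1) (O k 1 (b - a)) 0 ≃+ Γ(O k 1 (b - a), ⊤) := Sheaf.H.equiv₀ _ isTerminalTop
  obtain ⟨t, ht⟩ := exists_ne (0 : Coh.HH (P k 1) (O k 1 (b - a)) 0)
  obtain ⟨e₁⟩ := O_zero (k := k) (n := 1)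
  have h1 : InvX.ofSect (e₀ t) ≠ 0 := fun h0 => ht (e₀.injective (by
    rw [map_zero, ← InvX.one_ofSect (e₀ t), h0]; rfl))
  obtain ⟨i₁⟩ := O_add' (k := k) (n := 1) (show 0 + a = a by ring)
  obtain ⟨i₂⟩ := O_add' (k := k) (n := 1) (show b - a + a = b by ring)
  refine ⟨i₁.inv ≫ twMap (e₁.hom ≫ InvX.ofSect (e₀ t)) a ≫ i₂.hom, fun h0 => h1 ?_⟩
  have h2 : twMap (e₁.hom ≫ InvX.ofSect (e₀ t)) a = twMap 0 a := by
    refine Eq.trans ?_ (twMap_zero _ _ _).symm
    exact (cancel_mono i₂.hom).1 ((cancel_epi i₁.inv).1 (h0.trans comp_zero.symm) |>.trans zero_comp.symm)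
  exact (cancel_epi e₁.hom).1 ((twMap_injective a h2).trans comp_zero.symm)

/-- Every map from `O(-1)` to the structure sheaf takes values in the maximal ideal at some point. -/
theorem exists_vanishing_point (ξ : O k 1 (-1) ⟶ Coh.structureModule (P k 1)) :
    letI := isIntegral k 1
    ∃ x : P k 1, ∀ (V : (P k 1).Opens) (hx : x ∈ V) (hV : genericPoint (P k 1) ∈ V) (z : Γ(O k 1 (-1), V)),
      val ξ hV z ∈ Mx x := by
  letI := isIntegral k 1
  by_contra hcon
  push Not at hcon
  have hL := isInvertible_O (k := k) (n := 1) (-1)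
  have hfr : ∀ x : P k 1, ∃ (W : (P k 1).Opens) (_ : x ∈ W) (e : Γ(O k 1 (-1), W)),
      InvX.IsFrame e ∧ InvX.IsFrame (M := Coh.structureModule (P k 1)) (ξ.app W e) := by
    intro x
    obtain ⟨V, hx, hV, z, hz⟩ := hcon x
    obtain ⟨U, hxU, e, he⟩ := InvX.exists_frame hL x
    obtain ⟨c, hc⟩ := he.exists_coord (V := V ⊓ U) inf_le_right (res _ inf_le_left z)
    have hxT : x ∈ V ⊓ U := ⟨hx, hxU⟩
    have hη : genericPoint (P k 1) ∈ V ⊓ U :=
      ((genericPoint_spec (P k 1)).specializes (Set.mem_univ x)).mem_open (V ⊓ U).2 hxT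
    let a : Γ(P k 1, V ⊓ U) := ξ.app (V ⊓ U) (res _ inf_le_right e)
    have hu : IsUnit ((P k 1).presheaf.germ (V ⊓ U) x hxT a) := by
      by_contra hn
      refine hz ?_
      rw [← val_res ξ inf_le_left hη hV, hc, val_smul]
      exact mul_mem_Mx ⟨_, algebraMap_germ x hxT hη _⟩
        (mem_Mx.2 ⟨_, (IsLocalRing.mem_maximalIdeal _).2 hn, algebraMap_germ x hxT hη a⟩)
    refine ⟨(P k 1).basicOpen a, ((P k 1).mem_basicOpen _ x hxT).2 hu,
      res _ ((((P k 1).basicOpen_le a)).trans inf_le_right) e, he.res _, ?_⟩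
    have h1 : (show Γ(P k 1, (P k 1).basicOpen a) from
        ξ.app _ (res _ (((P k 1).basicOpen_le a).trans inf_le_right) e)) = resR ((P k 1).basicOpen_le a) a := by
      rw [← res_res (inf_le_right : V ⊓ U ≤ U) ((P k 1).basicOpen_le a)]
      exact ConcreteCategory.congr_hom (ξ.mapPresheaf.naturality (homOfLE ((P k 1).basicOpen_le a)).op) _
    have hb : IsUnit (resR ((P k 1).basicOpen_le a) a) := RingedSpace.isUnit_res_basicOpen _ a
    have := (InvX.isFrame_one (X := P k 1) ((P k 1).basicOpen a)).isUnit_smul hb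
    convert this using 1
    exact h1.trans (mul_one _).symm
  choose W hxW e he hξe using hfr
  haveI : IsIso ξ := KRRLib.PnBC.isIso_of_frames ξ W (fun x => ⟨x, hxW x⟩) e he hξe
  obtain ⟨e₁⟩ := O_zero (k := k) (n := 1)
  have h0 := subsingleton_H0_O (k := k) (n := 1) le_rfl (show (-1 : ℤ) < 0 by norm_num)
  haveI := nontrivial_H0_O (k := k) (n := 1) (le_refl (0 : ℤ))
  exact not_subsingleton (Coh.HH (P k 1) (O k 1 0) 0) (QCoh.subsingleton_HH_of_iso (asIso ξ ≪≫ e₁.symm) 0 h0)

variable [IsAlgClosed k] {X : Scheme.{u}} [X.Over (Spec (CommRingCat.of k))] [IsIntegral X]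
  [Smooth (X ↘ Spec (CommRingCat.of k))] [QuasiSeparated (X ↘ Spec (CommRingCat.of k))]

/-- A splitting of the differentials pulled back to the line gives derivations along the curve. -/
theorem exists_derivations (γ : P k 1 ⟶ X)
    [hγ : Fact (γ ≫ (X ↘ Spec (CommRingCat.of k)) = P k 1 ↘ Spec (CommRingCat.of k))]
    (hfree : Subsingleton (Coh.HH (P k 1)
      (CohB1.tensorMod ((Scheme.Modules.pullback γ).obj (Omega.sheaf (X ↘ Spec (CommRingCat.of k)))) (O k 1 (-1))) 0) ∨
      Subsingleton (Coh.HH (P k 1) ((Scheme.Modules.pullback γ).obj (Omega.sheaf (X ↘ Spec (CommRingCat.of k)))) 0)) :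
    letI := isIntegral k 1
    ∃ (n : ℕ) (δ : Fin n → GDer k γ) (x₀ : P k 1),
      (∀ (U : X.Opens) (_ : IsAffineOpen U) (h : Meets γ U) (d : ℕ)
        (_ : Module.Basis (Fin d) Γ(X, U) Γ(Omega.sheaf (X ↘ Spec (CommRingCat.of k)), U))
        (D : FreeEval.Der (X ↘ Spec (CommRingCat.of k)) (φU γ U h)),
        ∃ c : Fin n → (P k 1).functionField, D = FreeEval.comb c fun p => (δ p).der U h) ∧
      (Subsingleton (Coh.HH (P k 1) ((Scheme.Modules.pullback γ).obj (Omega.sheaf (X ↘ Spec (CommRingCat.of k)))) 0) →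
        ∀ p, VanAt (δ p) x₀) ∧
      (∀ (U : X.Opens) (_ : IsAffineOpen U) (_ : Meets γ U) (d : ℕ),
        Nonempty (Module.Basis (Fin d) Γ(X, U) Γ(Omega.sheaf (X ↘ Spec (CommRingCat.of k)), U)) → n ≤ d) ∧
      (∀ (D₀ : GDer k γ) (x₁ : P k 1), VanAt D₀ x₁ → (∃ U h a, D₀.d U h a ≠ 0) → ∃ p, VanAt (δ p) x₀) := by
  letI := isIntegral k 1
  haveI := isProper k 1
  let f := X ↘ Spec (CommRingCat.of k)
  let F : (P k 1).Modules := (Scheme.Modules.pullback γ).obj (Omega.sheaf f)
  have hΩ : FlatMod.IsFinLocFree (Omega.sheaf f) := by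
    have := S5018.result f ((S1488.result _).1 inferInstance).2 (Omega.sheaf f) (OmegaSh.dOmega f)
      (OmegaUniv.isUniversal_dOmega f)
    exact this
  have hF : FlatMod.IsFinLocFree F := KFlatLib.isFinLocFree_pullback γ hΩ
  have hNo : NoMid k 1 F := fun i d hi hlt => by omega
  obtain ⟨n, a, ⟨e⟩⟩ := exists_iso_coprod le_rfl (CurveDeg.isCoh_of_isFinLocFree hF) hNo (exists_H0_vanishing le_rfl hF)
  haveI : HasFiniteBiproducts (P k 1).Modules := HasFiniteBiproducts.of_hasFiniteProducts
  let J := biproduct.isoCoproduct fun j => O k 1 (a j)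
  let r : ∀ p, F ⟶ O k 1 (a p) := fun p => e.hom ≫ J.inv ≫ biproduct.π (fun j => O k 1 (a j)) p
  let s : ∀ p, O k 1 (a p) ⟶ F := fun p => biproduct.ι (fun j => O k 1 (a j)) p ≫ J.hom ≫ e.inv
  have htot : ∑ p, r p ≫ s p = 𝟙 F := by
    have := congrArg (fun φ => e.hom ≫ φ ≫ e.inv) (sigma_total fun j => O k 1 (a j))
    simp only [Preadditive.sum_comp, Preadditive.comp_sum, Category.assoc, Category.id_comp, Iso.hom_inv_id] at this
    rw [← this]
    exact Finset.sum_congr rfl fun p _ => by simp only [r, s, J, Category.assoc]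
  have horth : ∀ p q, s p ≫ r q = if h : p = q then eqToHom (by rw [h]) else 0 := fun p q => by
    simp only [r, s, Category.assoc, Iso.inv_hom_id_assoc, Iso.hom_inv_id_assoc]
    exact biproduct.ι_π _ p q
  have hss : ∀ p, s p ≫ r p = 𝟙 _ := fun p => by rw [horth, dif_pos rfl, eqToHom_refl]
  have ha : ∀ p, a p ≤ 0 := fun p => by
    by_contra hp
    rcases hfree with hfree | hfree
    swap
    · have h1 := subsingleton_HH_of_retract (s p) (r p) (hss p) 0 hfree
      haveI := nontrivial_H0_O (k := k) (n := 1) (show 0 ≤ a p by omega)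
      exact not_subsingleton (Coh.HH (P k 1) (O k 1 (a p)) 0) h1
    have h1 := retract_data (s p) (r p) (hss p) (-1) 0 hfree
    obtain ⟨i₁⟩ := O_add (k := k) (n := 1) (a p) (-1)
    haveI := nontrivial_H0_O (k := k) (n := 1) (show 0 ≤ a p + -1 by omega)
    exact not_subsingleton (Coh.HH (P k 1) (O k 1 (a p + -1)) 0) (QCoh.subsingleton_HH_of_iso i₁ 0 h1)
  obtain ⟨e₁⟩ := O_zero (k := k) (n := 1)
  obtain ⟨ξ', hξ'⟩ := exists_hom_ne_zero (k := k) (show (-1 : ℤ) ≤ 0 by norm_num)
  let ξ := ξ' ≫ e₁.hom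
  obtain ⟨x₀, hx₀⟩ := exists_vanishing_point ξ
  have hξ : ∀ W, Function.Injective (ξ.app W) :=
    InvEnd.app_injective_of_ne_zero (isInvertible_O (-1)) InvX.isInvertible_structureModule ξ
      (fun h => hξ' ((cancel_mono e₁.hom).1 (h.trans zero_comp.symm)))
  have hex : ∀ p, ∃ w : O k 1 (a p) ⟶ Coh.structureModule (P k 1), (∀ W, Function.Injective (w.app W)) ∧
      (a p = 0 → IsIso w) ∧ (a p < 0 → ∀ (V : (P k 1).Opens) (_ : x₀ ∈ V) (hV : genericPoint (P k 1) ∈ V)
        (z : Γ(O k 1 (a p), V)), val w hV z ∈ Mx x₀) := by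
    intro p
    rcases (ha p).eq_or_lt with h0 | hlt
    · refine ⟨eqToHom (congrArg (fun t => O k 1 t) h0) ≫ e₁.hom, fun W => ?_, fun _ => inferInstance, fun h => by omega⟩
      exact ((ConcreteCategory.isIso_iff_bijective _).1 inferInstance).1
    · obtain ⟨w', hw'⟩ := exists_hom_ne_zero (k := k) (show a p ≤ -1 by omega)
      refine ⟨w' ≫ ξ, fun W => (hξ W).comp
        (InvEnd.app_injective_of_ne_zero (isInvertible_O _) (isInvertible_O _) w' hw' W), fun h => by omega,
        fun _ V hx hV z => ?_⟩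
      exact hx₀ V hx hV (w'.app V z)
  choose w hwinj hwiso hwvan using hex
  let δ : Fin n → GDer k γ := fun p => ofHom (r p ≫ w p)
  have hvanp : ∀ p, a p < 0 → VanAt (δ p) x₀ := fun p hp U hx c =>
    hwvan p hp (γ ⁻¹ᵁ U) hx (meets_of_mem γ hx)
      ((r p).app (γ ⁻¹ᵁ U) (OmegaSh.pullSect γ (Omega.sheaf f) U ((OmegaSh.dOmega f).app U c)))
  refine ⟨n, δ, x₀, fun U hU h d b D => hspan_of_split r s htot w hwinj U hU b h D,
    fun h0 p => hvanp p ?_, fun U hU h d ⟨b⟩ => ?_, fun D₀ x₁ hD₀ hne => ?_⟩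
  · by_contra hp
    have h1 := subsingleton_HH_of_retract (s p) (r p) (hss p) 0 h0
    haveI := nontrivial_H0_O (k := k) (n := 1) (show 0 ≤ a p by omega)
    exact not_subsingleton (Coh.HH (P k 1) (O k 1 (a p)) 0) h1
  · classical
    let M : Fin d → Fin n → (P k 1).functionField := fun q p =>
      val (r p ≫ w p) (V := γ ⁻¹ᵁ U) h (OmegaSh.pullSect γ (Omega.sheaf f) U (b q))
    have hmem : ∀ p : Fin n, (Pi.single p 1 : Fin n → (P k 1).functionField) ∈
        Submodule.span (P k 1).functionField (Set.range M) := by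
      intro p
      obtain ⟨W, hηW, e', he'⟩ := InvX.exists_frame (isInvertible_O (k := k) (n := 1) (a p)) (genericPoint (P k 1))
      have hT : genericPoint (P k 1) ∈ W := hηW
      haveI : Nonempty W := ⟨⟨_, hT⟩⟩
      let z : Γ(F, W) := (s p).app W e'
      obtain ⟨N, -, hN⟩ := val_section_eq hU b h (x := genericPoint (P k 1)) h hT hT z
      have hd : ∀ p', val (r p' ≫ w p') hT z = if p' = p then val (w p) hT e' else 0 := fun p' => by
        show (P k 1).presheaf.germ W _ hT ((w p').app W ((r p').app W ((s p).app W e'))) = _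
        rw [show (r p').app W ((s p).app W e') = (s p ≫ r p').app W e' from rfl, horth]
        by_cases hpp : p = p'
        · subst hpp
          rw [dif_pos rfl, if_pos rfl, eqToHom_refl]
          rfl
        · rw [dif_neg hpp, if_neg (Ne.symm hpp)]
          show (P k 1).presheaf.germ W _ hT ((w p').app W (0 : Γ(O k 1 (a p'), W))) = 0
          rw [map_zero]
          exact map_zero _
      have hne : val (w p) hT e' ≠ 0 := fun h0 => by
        have he0 : e' = 0 := hwinj p W ((app_eq_zero_of_val (w p) hT h0).trans (map_zero _).symm)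
        have := he'.coord_unique (r := 1) (r' := 0) le_rfl (by rw [he0, map_zero, smul_zero, smul_zero])
        exact one_ne_zero this
      have hsum : ∑ q, ((val (w p) hT e')⁻¹ * N q) • M q = Pi.single p 1 := by
        funext p'
        simp only [Finset.sum_apply, Pi.smul_apply, smul_eq_mul, mul_assoc, ← Finset.mul_sum, M]
        rw [← hN, hd, Pi.single_apply]
        split_ifs
        · exact inv_mul_cancel₀ hne
        · exact mul_zero _
      rw [← hsum]
      exact Submodule.sum_mem _ fun q _ => Submodule.smul_mem _ _ (Submodule.subset_span ⟨q, rfl⟩)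
    have htop : Submodule.span (P k 1).functionField (Set.range M) = ⊤ := eq_top_iff.2 fun v _ => by
      rw [pi_eq_sum_univ' v]
      exact Submodule.sum_mem _ fun p _ => Submodule.smul_mem _ _ (hmem p)
    have hle := finrank_range_le_card (R := (P k 1).functionField) M
    rw [Set.finrank, htop, finrank_top, Module.finrank_fintype_fun_eq_card, Fintype.card_fin, Fintype.card_fin] at hle
    exact hle
  · classical
    by_contra hnone
    push Not at hnone
    have hiso : ∀ p, IsIso (w p) := fun p =>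
      hwiso p ((ha p).eq_or_lt.resolve_right fun hlt => hnone p (hvanp p hlt))
    have hdual : ∀ p, ∃ z : Γ(F, ⊤), ∀ p', val (r p' ≫ w p') (V := ⊤) trivial z = if p' = p then 1 else 0 := by
      intro p
      haveI := hiso p
      refine ⟨(s p).app ⊤ ((inv (w p)).app ⊤ (1 : Γ(P k 1, ⊤))), fun p' => ?_⟩
      show (P k 1).presheaf.germ ⊤ _ _ ((w p').app ⊤ ((r p').app ⊤ ((s p).app ⊤ _))) = _
      rw [show (r p').app ⊤ ((s p).app ⊤ ((inv (w p)).app ⊤ (1 : Γ(P k 1, ⊤)))) =
        (s p ≫ r p').app ⊤ ((inv (w p)).app ⊤ (1 : Γ(P k 1, ⊤))) from rfl, horth]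
      by_cases hpp : p = p'
      · subst hpp
        rw [dif_pos rfl, if_pos rfl, eqToHom_refl]
        show (P k 1).presheaf.germ ⊤ _ _ ((inv (w p) ≫ w p).app ⊤ (1 : Γ(P k 1, ⊤))) = 1
        rw [IsIso.inv_hom_id]
        exact map_one ((P k 1).presheaf.germ ⊤ (genericPoint (P k 1)) trivial).hom
      · rw [dif_neg hpp, if_neg (Ne.symm hpp)]
        show (P k 1).presheaf.germ ⊤ _ _ ((w p').app ⊤ (0 : Γ(O k 1 (a p'), ⊤))) = 0
        rw [map_zero]
        exact map_zero _
    choose z hz using hdual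
    obtain ⟨V₀, d₀, hV₀, -, hηV₀, ⟨b₀⟩⟩ := exists_chart_at (k := k) (γ.base (genericPoint (P k 1))) ⊤ trivial
    obtain ⟨c, hc⟩ := hspan_of_split r s htot w hwinj V₀ hV₀ b₀ hηV₀ (D₀.der V₀ hηV₀)
    have hrep : ∀ (V : X.Opens) (hV : IsAffineOpen V) (hVm : Meets γ V) (d : ℕ)
        (b : Module.Basis (Fin d) Γ(X, V) Γ(Omega.sheaf f, V)) (q : Fin d),
        (FreeEval.lin f _ hV (D₀.der V hVm)).1 (b q) =
          ∑ p, c p * (FreeEval.lin f _ hV ((δ p).der V hVm)).1 (b q) := by
      intro V hV hVm d b q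
      obtain ⟨cV, hcV⟩ := hspan_of_split r s htot w hwinj V hV b hVm (D₀.der V hVm)
      obtain ⟨_, ⟨W, hW, rfl⟩, hWm, hWle⟩ := X.isBasis_affineOpens.exists_subset_of_mem_open
        (show γ.base (genericPoint (P k 1)) ∈ ((V₀ ⊓ V : X.Opens) : Set X) from ⟨hηV₀, hVm⟩) (V₀ ⊓ V).2
      have iW₀ : W ≤ V₀ := fun y hy => (hWle hy).1
      have iW : W ≤ V := fun y hy => (hWle hy).2
      have hres : ∀ {U : X.Opens} (hU : IsAffineOpen U) (hUm : Meets γ U) (i : W ≤ U) (e : Fin n → (P k 1).functionField)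
          (_ : D₀.der U hUm = FreeEval.comb e fun p => (δ p).der U hUm) {d' : ℕ}
          (_ : Module.Basis (Fin d') Γ(X, U) Γ(Omega.sheaf f, U)),
          D₀.der W hWm = FreeEval.comb e fun p => (δ p).der W hWm := by
        intro U hU hUm i e he d' bU
        obtain ⟨bW, hbW⟩ := exists_res_basis (OmegaUniv.isQCoh_omega f) hU hW i bU
        refine FreeEval.der_ext_of_basis f _ hW bW fun q' => ?_
        rw [hbW, FreeEval.lin_natural f _ hU hW i _ (fun y => φU_res γ hWm i hUm y)
          (D := D₀.der U hUm) (fun y => D₀.res i hWm hUm y),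
          FreeEval.lin_natural f _ hU hW i _ (fun y => φU_res γ hWm i hUm y)
          (D := FreeEval.comb e fun p => (δ p).der U hUm) (fun y => by
            rw [FreeEval.comb_apply, FreeEval.comb_apply]
            exact Finset.sum_congr rfl fun p _ => congrArg _ ((δ p).res i hWm hUm y)), he]
      have e1 := hres hV₀ hηV₀ iW₀ c hc b₀
      have e2 := hres hV hVm iW cV hcV b
      obtain ⟨bW, hbW⟩ := exists_res_basis (OmegaUniv.isQCoh_omega f) hV hW iW b
      have heq : ∀ p, c p = cV p := fun p => by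
        obtain ⟨N, -, hN⟩ := val_section_eq hW bW hWm (x := genericPoint (P k 1)) hWm
          (V := (⊤ : (P k 1).Opens)) trivial trivial (z p)
        have key : ∀ e : Fin n → (P k 1).functionField, D₀.der W hWm = (FreeEval.comb e fun p => (δ p).der W hWm) →
            ∑ q, N q * (FreeEval.lin f _ hW (D₀.der W hWm)).1 (bW q) = e p := fun e he => by
          simp only [he, FreeEval.lin_comb, Finset.mul_sum]
          rw [Finset.sum_comm]
          refine Eq.trans (Finset.sum_congr rfl fun p' _ => ?_) (Finset.sum_ite_eq' Finset.univ p e |>.trans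
            (if_pos (Finset.mem_univ p)))
          rw [show (∑ q, N q * (e p' * (FreeEval.lin f _ hW ((δ p').der W hWm)).1 (bW q))) =
            e p' * ∑ q, N q * val (r p' ≫ w p') (V := γ ⁻¹ᵁ W) hWm (OmegaSh.pullSect γ (Omega.sheaf f) W (bW q)) by
              rw [Finset.mul_sum]
              exact Finset.sum_congr rfl fun q _ => by rw [lin_ofHom]; ring, ← hN, hz]
          split_ifs <;> simp
        exact (key c e1).symm.trans (key cV e2)
      rw [funext heq, hcV, FreeEval.lin_comb]
    have hcx : ∀ x : P k 1, ∀ p, ∃ N : List ((P k 1).functionField × (P k 1).functionField),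
        (∀ t ∈ N, t.1 ∈ Reg x ∧ t.2 ∈ Reg x ∧ (x = x₁ → t.2 ∈ Mx x)) ∧ c p = (N.map fun t => t.1 * t.2).sum := by
      intro x p
      obtain ⟨V, d, hV, -, hxV, ⟨b⟩⟩ := exists_chart_at (k := k) (γ.base x) ⊤ trivial
      have hVm := meets_of_mem γ hxV
      obtain ⟨N, hNr, hN⟩ := val_section_eq hV b hVm (x := x) hxV (V := (⊤ : (P k 1).Opens)) trivial trivial (z p)
      refine ⟨(List.finRange d).map fun q => (N q, (FreeEval.lin f _ hV (D₀.der V hVm)).1 (b q)), ?_, ?_⟩
      · intro t ht
        obtain ⟨q, -, rfl⟩ := List.mem_map.1 ht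
        exact ⟨hNr q, lin_mem_Reg D₀ hV hxV hVm _, fun hx => by subst hx; exact lin_mem_Mx hD₀ hV hxV _⟩
      · rw [List.map_map, ← List.ofFn_eq_map, List.sum_ofFn]
        simp only [Function.comp_apply]
        rw [Finset.sum_congr rfl fun q _ => (congrArg (N q * ·) (hrep V hV hVm d b q)).trans (Finset.mul_sum _ _ _),
          Finset.sum_comm]
        refine ((Finset.sum_congr rfl fun p' _ => ?_).trans (Finset.sum_ite_eq' Finset.univ p c |>.trans
          (if_pos (Finset.mem_univ p)))).symm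
        rw [show (∑ q, N q * (c p' * (FreeEval.lin f _ hV ((δ p').der V hVm)).1 (b q))) =
          c p' * ∑ q, N q * val (r p' ≫ w p') (V := γ ⁻¹ᵁ V) hVm (OmegaSh.pullSect γ (Omega.sheaf f) V (b q)) by
            rw [Finset.mul_sum]
            exact Finset.sum_congr rfl fun q _ => by rw [lin_ofHom]; ring, ← hN, hz]
        split_ifs <;> simp
    have hc0 : ∀ p, c p = 0 := fun p => by
      have hreg : ∀ x, c p ∈ Reg x := fun x => by
        obtain ⟨N, hN, e⟩ := hcx x p
        rw [e]
        refine Subring.list_sum_mem _ fun v hv => ?_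
        obtain ⟨t, ht, rfl⟩ := List.mem_map.1 hv
        exact Subring.mul_mem _ (hN t ht).1 (hN t ht).2.1
      obtain ⟨t, ht⟩ := exists_const_of_reg (k := k) hreg
      have hm : c p ∈ Mx x₁ := by
        obtain ⟨N, hN, e⟩ := hcx x₁ p
        rw [e]
        refine AddSubgroup.list_sum_mem _ fun v hv => ?_
        obtain ⟨t, ht, rfl⟩ := List.mem_map.1 hv
        exact mul_mem_Mx (hN t ht).1 ((hN t ht).2.2 rfl)
      rw [ht, (kK_mem_Mx_iff x₁ t).1 (ht ▸ hm), map_zero]
    obtain ⟨U, h, y, hy⟩ := hne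
    obtain ⟨V, d, hV, hVU, hηV, ⟨b⟩⟩ := exists_chart_at (k := k) (γ.base (genericPoint (P k 1))) U h
    refine hy ?_
    have he : D₀.der V hηV = FreeEval.comb (fun _ : Fin n => 0) fun p => (δ p).der V hηV :=
      FreeEval.der_ext_of_basis f _ hV b fun q => by rw [hrep V hV hηV d b q, FreeEval.lin_comb]; simp [hc0]
    rw [← D₀.res hVU hηV h y]
    refine (congrArg (fun D => D.1 (resR hVU y)) he).trans ?_
    rw [FreeEval.comb_apply]
    simp

end Line

end Groth.Agent.Curves16.Free
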