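import Mathlib.RingTheory.Smooth.Basic
import Mathlib.RingTheory.TensorProduct.Maps
import Mathlib.RingTheory.Flat.Basic
import Mathlib.RingTheory.Filtration
import Mathlib.RingTheory.MvPolynomial.Homogeneous
import Mathlib.Algebra.MvPolynomial.Funext
import Mathlib.LinearAlgebra.Basis.VectorSpace
import Mathlib.RingTheory.FiniteType
import Mathlib.LinearAlgebra.TensorProduct.Tower

/-!
# Jets of an algebra along a field-valued point

For `f : A → K` we filter `A` by the powers of the kernel of `K ⊗ A → K` and detect the filtration by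
jets `A → K[X]/(X^{j+1})`, when enough derivations along `f` are given.
-/

universe u

open TensorProduct Polynomial

noncomputable section

namespace Groth.Agent.Curves16.FreeJet

variable {k A K : Type u} [Field k] [CommRing A] [Algebra k A] [Field K] [Algebra k K] (f : A →ₐ[k] K)

/-- A derivation along `f`. -/
def IsDer (δ : A →ₗ[k] K) : Prop := ∀ a b, δ (a * b) = f a * δ b + f b * δ a

/-- Evaluation at the point over `K`. -/
def pr : K ⊗[k] A →ₐ[K] K := Algebra.TensorProduct.lift (Algebra.ofId K K) f fun _ _ => .all _ _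

theorem pr_tmul (c : K) (a : A) : pr f (c ⊗ₜ a) = c * f a := by simp [pr, Algebra.ofId_apply]

/-- The ideal of the point. -/
def pt : Ideal (K ⊗[k] A) := RingHom.ker (pr f)

theorem mem_pt {x : K ⊗[k] A} : x ∈ pt f ↔ pr f x = 0 := RingHom.mem_ker

/-- Elements vanishing to order `j` at the point. -/
def ord (j : ℕ) : Ideal A := (pt f ^ j).comap (Algebra.TensorProduct.includeRight : A →ₐ[k] K ⊗[k] A)

theorem mem_ord {j : ℕ} {a : A} : a ∈ ord f j ↔ ((1 : K) ⊗ₜ[k] a) ∈ pt f ^ j := Iff.rfl

theorem ord_map {A' : Type u} [CommRing A'] [Algebra k A'] (f' : A' →ₐ[k] K) (r : A →ₐ[k] A')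
    (h : f'.comp r = f) {j : ℕ} {a : A} (ha : a ∈ ord f j) : r a ∈ ord f' j := by
  let R : K ⊗[k] A →ₐ[K] K ⊗[k] A' := Algebra.TensorProduct.map (AlgHom.id K K) r
  have hP : (pt f).map R ≤ pt f' := by
    rw [Ideal.map_le_iff_le_comap]
    intro x hx
    rw [Ideal.mem_comap, mem_pt]
    have e : (pr f').comp R = pr f := Algebra.TensorProduct.ext (Subsingleton.elim _ _) (AlgHom.ext fun a => by
      show pr f' (R ((1 : K) ⊗ₜ a)) = pr f ((1 : K) ⊗ₜ a)
      rw [show R ((1 : K) ⊗ₜ a) = (1 : K) ⊗ₜ r a from rfl, pr_tmul, pr_tmul, ← h]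
      rfl)
    exact (AlgHom.congr_fun e x).trans ((mem_pt f).1 hx)
  rw [mem_ord]
  have := Ideal.mem_map_of_mem R ((mem_ord f).1 ha)
  rw [Ideal.map_pow] at this
  exact Ideal.pow_right_mono hP j this

/-- Truncated polynomials. -/
abbrev Q (B : Type u) [CommRing B] (j : ℕ) : Type u := B[X] ⧸ Ideal.span {(X : B[X]) ^ (j + 1)}

/-- The quotient map to truncated polynomials. -/
abbrev q (B : Type u) [CommRing B] (j : ℕ) : B[X] →+* Q B j := Ideal.Quotient.mk _

theorem q_eq_zero {B : Type u} [CommRing B] {j : ℕ} {p : B[X]} : q B j p = 0 ↔ X ^ (j + 1) ∣ p := by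
  rw [Ideal.Quotient.eq_zero_iff_mem, Ideal.mem_span_singleton]

variable (δ : A →ₗ[k] K)

/-- A jet extending `f` with first derivative `δ`. -/
def IsJet {j : ℕ} (φ : A →ₐ[k] Q K j) : Prop :=
  ∀ a, ∃ h : K[X], φ a = q K j (C (f a) + C (δ a) * X + X ^ 2 * h)

/-- `v` is the leading coefficient of `a` in every jet over `δ`. -/
def Lead (j : ℕ) (a : A) (v : K) : Prop :=
  ∀ φ : A →ₐ[k] Q K j, IsJet f δ φ → φ a = q K j (C v * X ^ j)

theorem Lead.unique {j : ℕ} {a : A} {v v' : K} (h : Lead f δ j a v) (h' : Lead f δ j a v')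
    (φ : A →ₐ[k] Q K j) (hφ : IsJet f δ φ) : v = v' := by
  have e := (h φ hφ).symm.trans (h' φ hφ)
  rw [← sub_eq_zero, ← map_sub, q_eq_zero, X_pow_dvd_iff] at e
  have := e j (Nat.lt_succ_self j)
  simpa [sub_eq_zero, coeff_X_pow] using this

theorem Lead.add {j : ℕ} {a b : A} {v w : K} (h : Lead f δ j a v) (h' : Lead f δ j b w) :
    Lead f δ j (a + b) (v + w) := fun φ hφ => by
  rw [map_add, h φ hφ, h' φ hφ, ← map_add, map_add C, add_mul]

theorem Lead.zero (j : ℕ) : Lead f δ j 0 0 := fun φ _ => by simp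

theorem Lead.mul {j : ℕ} {a : A} {v : K} (g : A) (h : Lead f δ j a v) : Lead f δ j (g * a) (f g * v) :=
  fun φ hφ => by
  obtain ⟨w, hw⟩ := hφ g
  rw [map_mul, h φ hφ, hw, ← map_mul, ← sub_eq_zero, ← map_sub, q_eq_zero]
  exact ⟨C (δ g) * C v + X * w * C v, by rw [map_mul]; ring⟩

theorem Lead.sum {ι : Type*} (s : Finset ι) {j : ℕ} {a : ι → A} {v : ι → K}
    (h : ∀ i ∈ s, Lead f δ j (a i) (v i)) : Lead f δ j (∑ i ∈ s, a i) (∑ i ∈ s, v i) := by
  classical
  induction s using Finset.induction_on with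
  | empty => simpa using Lead.zero f δ j
  | insert i s hi ih =>
    rw [Finset.sum_insert hi, Finset.sum_insert hi]
    exact (h i (Finset.mem_insert_self _ _)).add (f := f) (δ := δ) (ih fun l hl => h l (Finset.mem_insert_of_mem hl))

/-- The jet over `K`. -/
def baseChange {j : ℕ} (φ : A →ₐ[k] Q K j) : K ⊗[k] A →ₐ[K] Q K j :=
  Algebra.TensorProduct.lift (Algebra.ofId K (Q K j)) φ fun _ _ => .all _ _

/-- The derivation over `K`. -/
def dK : K ⊗[k] A →ₗ[K] K := δ.liftBaseChange K

theorem exists_baseChange_eq {j : ℕ} {φ : A →ₐ[k] Q K j} (hφ : IsJet f δ φ) (x : K ⊗[k] A) :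
    ∃ h : K[X], baseChange φ x = q K j (C (pr f x) + C (dK δ x) * X + X ^ 2 * h) := by
  induction x using TensorProduct.induction_on with
  | zero => exact ⟨0, by simp⟩
  | tmul c a =>
    obtain ⟨h, hh⟩ := hφ a
    refine ⟨C c * h, ?_⟩
    rw [baseChange, Algebra.TensorProduct.lift_tmul, pr_tmul, dK, LinearMap.liftBaseChange_tmul, hh,
      Algebra.ofId_apply, show algebraMap K (Q K j) c = q K j (C c) from rfl, ← map_mul]
    congr 1
    simp only [smul_eq_mul, map_mul]
    ring
  | add x y hx hy =>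
    obtain ⟨h, hh⟩ := hx
    obtain ⟨h', hh'⟩ := hy
    refine ⟨h + h', ?_⟩
    rw [map_add, hh, hh', ← map_add (q K j), map_add (pr f), map_add (dK δ), map_add C, map_add C]
    congr 1
    ring

theorem baseChange_eq_zero {j : ℕ} {φ : A →ₐ[k] Q K j} (hφ : IsJet f δ φ) {x : K ⊗[k] A}
    (hx : x ∈ pt f ^ (j + 1)) : baseChange φ x = 0 := by
  have hP : (pt f).map (baseChange φ) ≤ Ideal.span {q K j X} := by
    rw [Ideal.map_le_iff_le_comap]
    intro y hy
    obtain ⟨h, hh⟩ := exists_baseChange_eq f δ hφ y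
    rw [Ideal.mem_comap, hh, (mem_pt f).1 hy, map_zero, zero_add, Ideal.mem_span_singleton]
    exact ⟨q K j (C (dK δ y) + X * h), by rw [← map_mul]; congr 1; ring⟩
  have := Ideal.mem_map_of_mem (baseChange φ) hx
  rw [Ideal.map_pow] at this
  have h' := Ideal.pow_right_mono hP (j + 1) this
  rw [Ideal.span_singleton_pow, ← map_pow, q_eq_zero.2 dvd_rfl, Ideal.mem_span_singleton, zero_dvd_iff] at h'
  exact h'

theorem exists_eval₂_mul_eq {l : ℕ} {F : MvPolynomial (Fin l) K} {j : ℕ} (hF : F.IsHomogeneous j)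
    (c : Fin l → K) (h : Fin l → K[X]) :
    ∃ w : K[X], MvPolynomial.eval₂ C (fun r => C (c r) * X + X ^ 2 * h r) F =
      C (MvPolynomial.eval c F) * X ^ j + X ^ (j + 1) * w := by
  classical
  rw [show (fun r => C (c r) * X + X ^ 2 * h r) = fun r => X * (C (c r) + X * h r) from funext fun r => by ring]
  have hhom : MvPolynomial.eval₂ C (fun r => X * (C (c r) + X * h r)) F =
      X ^ j * MvPolynomial.eval₂ C (fun r => C (c r) + X * h r) F := by
    rw [MvPolynomial.eval₂_eq', MvPolynomial.eval₂_eq', Finset.mul_sum]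
    refine Finset.sum_congr rfl fun d hd => ?_
    have hdeg := hF.degree_eq_sum_deg_support hd
    rw [← mul_assoc, mul_comm (X ^ j) (C _), mul_assoc]
    congr 1
    simp only [mul_pow, Finset.prod_mul_distrib, Finset.prod_pow_eq_pow_sum]
    congr 2
    rw [hdeg]
    exact (Finset.sum_subset (Finset.subset_univ d.support) fun i _ hi => Finsupp.notMem_support_iff.1 hi).symm
  rw [hhom]
  have h0 : (MvPolynomial.eval₂ C (fun r => C (c r) + X * h r) F).coeff 0 = MvPolynomial.eval c F := by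
    rw [← constantCoeff_apply, MvPolynomial.eval₂_comp_left constantCoeff C _ F, MvPolynomial.eval, MvPolynomial.coe_eval₂Hom]
    congr 1
    · exact RingHom.ext fun a => by simp
    · funext r
      simp
  refine ⟨(MvPolynomial.eval₂ C (fun r => C (c r) + X * h r) F).divX, ?_⟩
  conv_lhs => rw [← X_mul_divX_add (MvPolynomial.eval₂ C (fun r => C (c r) + X * h r) F), h0]
  ring

variable {l : ℕ} (e : Fin l → K ⊗[k] A)

theorem baseChange_aeval (he : ∀ r, e r ∈ pt f) {j : ℕ} {φ : A →ₐ[k] Q K j} (hφ : IsJet f δ φ)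
    {F : MvPolynomial (Fin l) K} (hF : F.IsHomogeneous j) :
    baseChange φ (MvPolynomial.aeval e F) = q K j (C (MvPolynomial.eval (fun r => dK δ (e r)) F) * X ^ j) := by
  choose h hh using fun r => exists_baseChange_eq f δ hφ (e r)
  simp only [(mem_pt f).1 (he _), map_zero, zero_add] at hh
  obtain ⟨w, hw⟩ := exists_eval₂_mul_eq hF (fun r => dK δ (e r)) h
  rw [← AlgHom.comp_apply, MvPolynomial.comp_aeval, funext hh, MvPolynomial.aeval_def,
    show algebraMap K (Q K j) = (q K j).comp C from rfl, ← Function.comp_def,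
    ← MvPolynomial.eval₂_comp_left, hw, map_add, q_eq_zero.2 (Dvd.intro w rfl), add_zero]

/-- The elements of degree `j` generated by homogeneous forms in `e`. -/
theorem exists_form (he : ∀ r, e r ∈ pt f)
    (hgen : ∀ x ∈ pt f, ∃ c : Fin l → K, x - ∑ r, c r • e r ∈ pt f ^ 2) (j : ℕ) {x : K ⊗[k] A}
    (hx : x ∈ pt f ^ j) :
    ∃ F : MvPolynomial (Fin l) K, F.IsHomogeneous j ∧ x - MvPolynomial.aeval e F ∈ pt f ^ (j + 1) := by
  induction hx using Submodule.pow_induction_on_left' with
  | algebraMap x =>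
    refine ⟨MvPolynomial.C (pr f x), MvPolynomial.isHomogeneous_C _ _, ?_⟩
    rw [pow_one, mem_pt, map_sub, MvPolynomial.aeval_C, AlgHom.commutes, Algebra.algebraMap_self,
      RingHom.id_apply]
    exact sub_self _
  | add x y i hx hy ihx ihy =>
    obtain ⟨F, hF, hF'⟩ := ihx
    obtain ⟨G, hG, hG'⟩ := ihy
    refine ⟨F + G, hF.add hG, ?_⟩
    rw [map_add, add_sub_add_comm]
    exact Ideal.add_mem _ hF' hG'
  | mem_mul m hm i x hx ih =>
    obtain ⟨F, hF, hF'⟩ := ih
    obtain ⟨c, hc⟩ := hgen m hm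
    let L : MvPolynomial (Fin l) K := ∑ r, MvPolynomial.C (c r) * MvPolynomial.X r
    have hL : L.IsHomogeneous 1 := MvPolynomial.IsHomogeneous.sum _ _ _ fun r _ =>
      (MvPolynomial.isHomogeneous_X K r).C_mul (c r)
    have hLe : MvPolynomial.aeval e L = ∑ r, c r • e r := by
      simp only [L, map_sum, map_mul, MvPolynomial.aeval_C, MvPolynomial.aeval_X, Algebra.smul_def]
    have hLmem : MvPolynomial.aeval e L ∈ pt f := by
      rw [hLe]
      exact Ideal.sum_mem _ fun r _ => by
        rw [Algebra.smul_def]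
        exact Ideal.mul_mem_left _ _ (he r)
    refine ⟨L * F, by simpa [Nat.succ_eq_add_one, add_comm] using hL.mul hF, ?_⟩
    rw [map_mul, show m * x - MvPolynomial.aeval e L * MvPolynomial.aeval e F =
      (m - ∑ r, c r • e r) * x + MvPolynomial.aeval e L * (x - MvPolynomial.aeval e F) by rw [hLe]; ring]
    refine Ideal.add_mem _ ?_ ?_
    · have := Ideal.mul_mem_mul hc hx
      rwa [← pow_add, show 2 + i = i + 1 + 1 by ring] at this
    · have := Ideal.mul_mem_mul hLmem hF'
      rwa [← pow_succ'] at this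

variable [Algebra.FiniteType k A]

theorem fg_pt : (pt f).FG := by
  haveI : IsNoetherianRing (K ⊗[k] A) := Algebra.FiniteType.isNoetherianRing K _
  exact IsNoetherian.noetherian _

theorem isDer_of_dK {d : A →ₗ[k] K} {lam : K ⊗[k] A →ₗ[K] K}
    (h2 : ∀ x ∈ pt f ^ 2, lam x = 0) (hd : ∀ a, d a = lam ((1 : K) ⊗ₜ a - (f a) ⊗ₜ (1 : A))) :
    IsDer f d ∧ ∀ x ∈ pt f, dK d x = lam x := by
  have hθ : ∀ a, ((1 : K) ⊗ₜ[k] a - (f a) ⊗ₜ (1 : A)) ∈ pt f := fun a => by
    rw [mem_pt, map_sub, pr_tmul, pr_tmul]; simp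
  refine ⟨fun a b => ?_, fun x hx => ?_⟩
  · have hab := h2 _ (by rw [sq]; exact Ideal.mul_mem_mul (hθ a) (hθ b))
    simp only [hd, ← smul_eq_mul, ← map_smul, ← map_add]
    rw [← sub_eq_zero, ← map_sub]
    refine Eq.trans (congrArg lam ?_) hab
    simp only [map_mul, mul_sub, sub_mul, Algebra.TensorProduct.tmul_mul_tmul, TensorProduct.smul_tmul', smul_sub,
      smul_eq_mul, mul_one, one_mul, mul_comm (f b) (f a)]
    abel
  · have key : ∀ y : K ⊗[k] A, dK d y = lam (y - pr f y • 1) := fun y => by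
      induction y using TensorProduct.induction_on with
      | zero => simp
      | tmul c a =>
        rw [dK, LinearMap.liftBaseChange_tmul, hd, pr_tmul, ← map_smul, smul_sub, TensorProduct.smul_tmul',
          TensorProduct.smul_tmul', Algebra.TensorProduct.one_def, TensorProduct.smul_tmul']
        simp
      | add y z hy hz => rw [map_add, hy, hz, map_add, ← map_add]; congr 1; rw [add_smul]; abel
    rw [key, (mem_pt f).1 hx, zero_smul, sub_zero]

theorem exists_generators : ∃ (m : ℕ) (g : Fin m → K ⊗[k] A), (∀ i, g i ∈ pt f) ∧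
    ∀ x ∈ pt f, ∃ c : Fin m → K, x - ∑ r, c r • g r ∈ pt f ^ 2 := by
  obtain ⟨m, g, hg⟩ := Submodule.fg_iff_exists_fin_generating_family.1 (fg_pt f)
  have hmem : ∀ i, g i ∈ pt f := fun i => hg ▸ Submodule.subset_span ⟨i, rfl⟩
  refine ⟨m, g, hmem, fun x hx => ?_⟩
  rw [← hg, Submodule.mem_span_range_iff_exists_fun] at hx
  obtain ⟨r, rfl⟩ := hx
  refine ⟨fun i => pr f (r i), ?_⟩
  rw [← Finset.sum_sub_distrib]
  refine Ideal.sum_mem _ fun i _ => ?_
  rw [smul_eq_mul]
  show r i * g i - pr f (r i) • g i ∈ _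
  rw [Algebra.smul_def, ← sub_mul, sq]
  refine Ideal.mul_mem_mul ?_ (hmem i)
  rw [mem_pt, map_sub, AlgHom.commutes, Algebra.algebraMap_self, RingHom.id_apply, sub_self]

/-- Elements of order `j` have a leading coefficient. -/
theorem exists_lead {j : ℕ} {a : A} (ha : a ∈ ord f j) : ∃ v : K, Lead f δ j a v := by
  obtain ⟨m, g, hg, hgen⟩ := exists_generators f
  obtain ⟨F, hF, hF'⟩ := exists_form f g hg hgen j ((mem_ord f).1 ha)
  refine ⟨MvPolynomial.eval (fun r => dK δ (g r)) F, fun φ hφ => ?_⟩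
  rw [← baseChange_aeval f δ g hg hφ hF, ← sub_eq_zero,
    show φ a = baseChange φ ((1 : K) ⊗ₜ[k] a) by simp [baseChange], ← map_sub]
  exact baseChange_eq_zero f δ hφ hF'

omit [Algebra.FiniteType k A] in
theorem dK_sum {ι : Type*} (s : Finset ι) (c : ι → K) (d : ι → A →ₗ[k] K) (x : K ⊗[k] A) :
    dK (∑ i ∈ s, c i • d i) x = ∑ i ∈ s, c i * dK (d i) x := by
  induction x using TensorProduct.induction_on with
  | zero => simp
  | tmul b a => simp [dK, LinearMap.sum_apply, Finset.mul_sum, mul_left_comm]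
  | add x y hx hy => simp only [map_add, hx, hy, mul_add, Finset.sum_add_distrib]

omit [Algebra.FiniteType k A] in
theorem isDer_sum {ι : Type*} (s : Finset ι) (c : ι → K) (d : ι → A →ₗ[k] K) (hd : ∀ i, IsDer f (d i)) :
    IsDer f (∑ i ∈ s, c i • d i) := fun a b => by
  simp only [LinearMap.sum_apply, LinearMap.smul_apply, smul_eq_mul, hd _ a b, Finset.mul_sum,
    ← Finset.sum_add_distrib]
  exact Finset.sum_congr rfl fun i _ => by ring

/-- If the leading coefficients along all combinations of spanning derivations vanish, the order goes up. -/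
theorem mem_ord_succ [Infinite k] {n : ℕ} (d : Fin n → A →ₗ[k] K) (hd : ∀ i, IsDer f (d i))
    (hspan : ∀ δ, IsDer f δ → ∃ c : Fin n → K, δ = ∑ i, c i • d i)
    {j : ℕ} (hjet : ∀ δ, IsDer f δ → ∃ φ : A →ₐ[k] Q K j, IsJet f δ φ)
    {a : A} (ha : a ∈ ord f j)
    (h0 : ∀ t : Fin n → k, Lead f (∑ i, algebraMap k K (t i) • d i) j a 0) : a ∈ ord f (j + 1) := by
  classical
  obtain ⟨m, g, hg, hgen⟩ := exists_generators f
  let M2 : Submodule K (K ⊗[k] A) := (pt f ^ 2).restrictScalars K
  let S : Submodule K ((K ⊗[k] A) ⧸ M2) := Submodule.span K (Set.range fun i => M2.mkQ (g i))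
  haveI : FiniteDimensional K S := Module.Finite.span_of_finite K (Set.finite_range _)
  let β := Module.finBasis K S
  have hin : ∀ x ∈ pt f, M2.mkQ x ∈ S := fun x hx => by
    obtain ⟨c, hc⟩ := hgen x hx
    rw [(Submodule.Quotient.eq M2).2 hc |> fun h => (show M2.mkQ x = M2.mkQ (∑ r, c r • g r) from h), map_sum]
    exact Submodule.sum_mem _ fun r _ => by
      rw [map_smul]; exact Submodule.smul_mem _ _ (Submodule.subset_span ⟨r, rfl⟩)
  choose w hw using fun q => (Submodule.mem_span_range_iff_exists_fun K).1 (β q).2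
  let e : Fin (Module.finrank K S) → K ⊗[k] A := fun q => ∑ r, w q r • g r
  have he : ∀ q, e q ∈ pt f := fun q => Ideal.sum_mem _ fun r _ => by
    rw [Algebra.smul_def]; exact Ideal.mul_mem_left _ _ (hg r)
  have hqe : ∀ q, M2.mkQ (e q) = (β q : (K ⊗[k] A) ⧸ M2) := fun q => by
    simp only [e, map_sum, map_smul, hw]
  have hgen' : ∀ x ∈ pt f, ∃ c : Fin (Module.finrank K S) → K, x - ∑ r, c r • e r ∈ pt f ^ 2 := fun x hx => by
    refine ⟨fun r => β.repr ⟨_, hin x hx⟩ r, (Submodule.Quotient.eq M2).1 ?_⟩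
    show M2.mkQ x = M2.mkQ _
    rw [map_sum]
    simp only [map_smul, hqe]
    have h3 := congrArg S.subtype (β.sum_repr ⟨_, hin x hx⟩)
    rw [map_sum] at h3
    simp only [map_smul, Submodule.subtype_apply] at h3
    exact h3.symm
  choose lam hlam using fun q => LinearMap.exists_extend (β.coord q)
  let θ : A →ₗ[k] K ⊗[k] A := (Algebra.TensorProduct.includeRight : A →ₐ[k] K ⊗[k] A).toLinearMap -
    ((LinearMap.toSpanSingleton K (K ⊗[k] A) 1).restrictScalars k).comp f.toLinearMap
  let dq : Fin (Module.finrank K S) → A →ₗ[k] K := fun q =>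
    (((lam q).comp M2.mkQ).restrictScalars k).comp θ
  have hdq : ∀ q, IsDer f (dq q) ∧ ∀ x ∈ pt f, dK (dq q) x = lam q (M2.mkQ x) := fun q => by
    refine isDer_of_dK f (lam := (lam q).comp M2.mkQ) (fun x hx => ?_) fun a => ?_
    · show lam q (M2.mkQ x) = 0
      rw [show M2.mkQ x = 0 from (Submodule.Quotient.mk_eq_zero M2).2 hx, map_zero]
    · show lam q (M2.mkQ (θ a)) = lam q (M2.mkQ _)
      simp [θ, Algebra.TensorProduct.one_def, TensorProduct.smul_tmul']
  have hδe : ∀ q r, dK (dq q) (e r) = if r = q then 1 else 0 := fun q r => by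
    rw [(hdq q).2 _ (he r), hqe, show lam q (β r : (K ⊗[k] A) ⧸ M2) = β.coord q (β r) from
      LinearMap.congr_fun (hlam q) (β r), Module.Basis.coord_apply, Module.Basis.repr_self, Finsupp.single_apply]
  choose c hc using fun q => hspan _ (hdq q).1
  obtain ⟨F, hF, hF'⟩ := exists_form f e he hgen' j ((mem_ord f).1 ha)
  let G : MvPolynomial (Fin n) K := MvPolynomial.aeval
    (fun r => ∑ i, MvPolynomial.C (dK (d i) (e r)) * MvPolynomial.X i) F
  have hG : ∀ t : Fin n → K, MvPolynomial.eval t G = MvPolynomial.eval (fun r => dK (∑ i, t i • d i) (e r)) F := by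
    intro t
    show ((MvPolynomial.aeval t).comp (MvPolynomial.aeval _)) F = _
    rw [MvPolynomial.comp_aeval, MvPolynomial.aeval_eq_eval]
    congr 1
    congr 1
    funext r
    simp [dK_sum, mul_comm]
  have hG0 : G = 0 := by
    refine MvPolynomial.funext_set (fun _ => Set.range (algebraMap k K))
      (fun _ => Set.infinite_range_of_injective (algebraMap k K).injective) fun t ht => ?_
    choose t' ht' using fun i => ht i (Set.mem_univ i)
    obtain rfl : t = fun i => algebraMap k K (t' i) := funext fun i => (ht' i).symm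
    rw [hG, map_zero]
    let δ' := ∑ i, algebraMap k K (t' i) • d i
    obtain ⟨φ, hφ⟩ := hjet δ' (isDer_sum f _ _ _ hd)
    refine Lead.unique f δ' (fun ψ hψ => ?_) (h0 t') φ hφ
    rw [← baseChange_aeval f δ' e he hψ hF, ← sub_eq_zero,
      show ψ a = baseChange ψ ((1 : K) ⊗ₜ[k] a) by simp [baseChange], ← map_sub]
    exact baseChange_eq_zero f δ' hψ hF'
  haveI : Infinite K := Infinite.of_injective _ (algebraMap k K).injective
  have hF0 : F = 0 := MvPolynomial.funext fun s => by
    rw [map_zero]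
    have h1 := hG fun i => ∑ q, s q * c q i
    rw [hG0, map_zero] at h1
    refine Eq.trans ?_ h1.symm
    congr 1
    congr 1
    funext r
    have h2 : (∑ i, (∑ q, s q * c q i) • d i) = ∑ q, s q • dq q := by
      simp only [hc, Finset.smul_sum, smul_smul, Finset.sum_smul]
      exact Finset.sum_comm
    rw [h2, dK_sum]
    simp [hδe]
  rw [mem_ord]
  rwa [hF0, map_zero, sub_zero] at hF'

/-- Only zero vanishes to infinite order. -/
theorem eq_zero_of_forall_mem_ord [IsDomain A] {a : A} (h : ∀ j, a ∈ ord f j) : a = 0 := by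
  haveI : IsNoetherianRing (K ⊗[k] A) := Algebra.FiniteType.isNoetherianRing K _
  by_contra ha
  have hx : ((1 : K) ⊗ₜ[k] a) ∈ (⨅ i : ℕ, pt f ^ i • ⊤ : Submodule (K ⊗[k] A) (K ⊗[k] A)) := by
    simp only [smul_eq_mul, Ideal.mul_top, Submodule.mem_iInf]
    exact fun i => (mem_ord f).1 (h i)
  obtain ⟨⟨r, hr⟩, hrx⟩ := (Ideal.mem_iInf_smul_pow_eq_bot_iff (pt f) _).1 hx
  have hinj : Function.Injective ((LinearMap.mulLeft k a).lTensor K) :=
    Module.Flat.lTensor_preserves_injective_linearMap _ fun x y => mul_left_cancel₀ ha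
  have hl : ∀ y : K ⊗[k] A, (LinearMap.mulLeft k a).lTensor K y = (1 : K) ⊗ₜ[k] a * y := fun y => by
    induction y using TensorProduct.induction_on with
    | zero => simp
    | tmul c b => simp
    | add x y hx hy => rw [map_add, hx, hy, mul_add]
  have h1 : (1 : K ⊗[k] A) - r = 0 := hinj (by
    rw [map_zero, hl, mul_sub, mul_one, mul_comm, show r * ((1 : K) ⊗ₜ[k] a) = (1 : K) ⊗ₜ[k] a from hrx, sub_self])
  rw [← sub_eq_zero.1 h1, mem_pt, map_one] at hr
  exact one_ne_zero hr

omit [Algebra.FiniteType k A] in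
/-- Jets exist with values in any ring through which `f` and `δ` factor. -/
theorem exists_jet [Algebra.FormallySmooth k A] {B : Type u} [CommRing B] [Algebra k B] (ι : B →ₐ[k] K)
    (fB : A →ₐ[k] B) (hf : ∀ a, ι (fB a) = f a) (dB : A → B) (hdB : ∀ a, ι (dB a) = δ a)
    (hι : Function.Injective ι) (hδ : IsDer f δ) (j : ℕ) :
    ∃ φ : A →ₐ[k] Q K j, IsJet f δ φ ∧ ∀ a, ∃ p : B[X], φ a = q K j (p.map (ι : B →+* K)) := by
  let N := j + 1
  have h1 : Ideal.span {(X : B[X]) ^ (N + 1)} ≤ Ideal.span {X ^ (1 + 1)} := by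
    rw [Ideal.span_singleton_le_span_singleton]; exact pow_dvd_pow _ (by omega)
  have hd1 : dB 1 = 0 := hι (by
    rw [hdB, map_zero]
    have := hδ 1 1
    simpa using this)
  let g₀ : A →ₐ[k] Q B 1 :=
    { toFun := fun a => q B 1 (C (fB a) + C (dB a) * X)
      map_one' := by rw [map_one, map_one, hd1, map_zero, zero_mul, add_zero, map_one]
      map_mul' := fun a b => by
        have hd : dB (a * b) = fB a * dB b + fB b * dB a := hι (by
          simp only [hdB, map_add, map_mul, hf, hδ a b])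
        rw [← map_mul (q B 1), ← sub_eq_zero, ← map_sub, q_eq_zero, hd, map_mul fB, map_mul C, map_add C,
          map_mul C, map_mul C]
        exact ⟨-(C (dB a) * C (dB b)), by ring⟩
      map_zero' := by
        have : dB 0 = 0 := hι (by rw [hdB, map_zero, map_zero])
        rw [map_zero, map_zero, this, map_zero, zero_mul, add_zero, map_zero]
      map_add' := fun a b => by
        have : dB (a + b) = dB a + dB b := hι (by rw [map_add, hdB, hdB, hdB, map_add])
        rw [← map_add (q B 1), map_add fB, this, map_add C, map_add C]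
        congr 1
        ring
      commutes' := fun c => by
        have : dB (algebraMap k A c) = 0 := hι (by
          rw [hdB, map_zero, Algebra.algebraMap_eq_smul_one, map_smul]
          have := hδ 1 1
          simp only [mul_one, map_one, one_mul, left_eq_add] at this
          rw [this, smul_zero])
        rw [AlgHom.commutes, this, map_zero, zero_mul, add_zero]
        rfl }
  let red : Q B N →ₐ[k] Q B 1 := Ideal.Quotient.factorₐ k h1
  have hsurj : Function.Surjective red := Ideal.Quotient.factor_surjective h1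
  have hker : IsNilpotent (RingHom.ker (red : Q B N →+* Q B 1)) := by
    refine ⟨N + 1, ?_⟩
    have hle : RingHom.ker (red : Q B N →+* Q B 1) ≤ Ideal.span {q B N X} := by
      intro x hx
      obtain ⟨p, rfl⟩ := Ideal.Quotient.mk_surjective x
      rw [RingHom.mem_ker] at hx
      obtain ⟨w, rfl⟩ : X ^ (1 + 1) ∣ p := q_eq_zero.1 hx
      rw [Ideal.mem_span_singleton]
      exact ⟨q B N (X * w), by rw [← map_mul]; exact congrArg _ (by ring)⟩
    refine le_bot_iff.1 ((Ideal.pow_right_mono hle _).trans ?_)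
    rw [Ideal.span_singleton_pow, ← map_pow, q_eq_zero.2 dvd_rfl, Ideal.span_singleton_eq_bot.2 rfl]
  let L := Algebra.FormallySmooth.liftOfSurjective g₀ red hsurj hker
  have h2 : Ideal.span {(X : B[X]) ^ (N + 1)} ≤
      (Ideal.span {(X : K[X]) ^ (j + 1)}).comap (Polynomial.mapAlgHom ι) := by
    rw [Ideal.span_le, Set.singleton_subset_iff, SetLike.mem_coe, Ideal.mem_comap, map_pow,
      Ideal.mem_span_singleton]
    simpa using pow_dvd_pow (X : K[X]) (show j + 1 ≤ N + 1 by omega)
  let m : Q B N →ₐ[k] Q K j := Ideal.quotientMapₐ _ (Polynomial.mapAlgHom ι) h2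
  refine ⟨m.comp L, fun a => ?_, fun a => ?_⟩
  · obtain ⟨p, hp⟩ := Ideal.Quotient.mk_surjective (L a)
    have hr : q B 1 p = q B 1 (C (fB a) + C (dB a) * X) := by
      have := Algebra.FormallySmooth.liftOfSurjective_apply g₀ red hsurj hker a
      rw [show Algebra.FormallySmooth.liftOfSurjective g₀ red hsurj hker a = L a from rfl, ← hp] at this
      exact this
    rw [← sub_eq_zero, ← map_sub, q_eq_zero] at hr
    obtain ⟨h, hh⟩ := hr
    refine ⟨h.map (ι : B →+* K), ?_⟩
    rw [AlgHom.comp_apply, ← hp]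
    show q K j (p.map (ι : B →+* K)) = _
    rw [sub_eq_iff_eq_add.1 hh]
    congr 1
    simp only [Polynomial.map_add, Polynomial.map_mul, Polynomial.map_pow, map_C, map_X, RingHom.coe_coe, hf, hdB]
    ring
  · obtain ⟨p, hp⟩ := Ideal.Quotient.mk_surjective (L a)
    refine ⟨p, ?_⟩
    rw [AlgHom.comp_apply, ← hp]
    rfl

omit [Algebra.FiniteType k A] in
/-- The leading coefficient of an element lies in any ring over which jets exist. -/
theorem lead_mem_range [Algebra.FormallySmooth k A] {B : Type u} [CommRing B] [Algebra k B] (ι : B →ₐ[k] K)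
    (fB : A →ₐ[k] B) (hf : ∀ a, ι (fB a) = f a) (dB : A → B) (hdB : ∀ a, ι (dB a) = δ a)
    (hι : Function.Injective ι) (hδ : IsDer f δ) {j : ℕ} {a : A} {v : K} (h : Lead f δ j a v) :
    v ∈ Set.range ι := by
  obtain ⟨φ, hφ, hp⟩ := exists_jet f δ ι fB hf dB hdB hι hδ j
  obtain ⟨p, hp⟩ := hp a
  rw [h φ hφ, ← sub_eq_zero, ← map_sub, q_eq_zero, X_pow_dvd_iff] at hp
  have := hp j (Nat.lt_succ_self j)
  rw [coeff_sub, coeff_C_mul, coeff_X_pow_self, mul_one, coeff_map, sub_eq_zero] at this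
  exact ⟨p.coeff j, this.symm⟩

end Groth.Agent.Curves16.FreeJet
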