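import Groth.Agent.H44REq.Sep
import Groth.Agent.Curves16.FreeJet

/-!
# Evaluation of tensor forms on tuples of derivations along a ring map

As in `H44REq.Eval`, with derivations along `φ : Γ(X,U) → A` instead of derivations of `A`.
-/

universe u

open CategoryTheory CategoryTheory.Limits AlgebraicGeometry TopologicalSpace Opposite TensorProduct

set_option linter.style.haveILetI false
set_option linter.unusedSectionVars false
set_option backward.isDefEq.respectTransparency false
set_option backward.isDefEq.respectTransparency.types false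

noncomputable section

namespace Groth.Agent.Curves16.FreeEval

open Groth.Agent Groth.Agent.AModX
open Groth.Agent.H44REq (kX SL omega_induction isQCoh_ext isQCoh_tensorPow eqv eqv_res tev tev_tmS)

variable {k : Type u} [Field k] {X : Scheme.{u}} (f : X ⟶ Spec (CommRingCat.of k))

variable {U V : X.Opens} {A : Type u} [CommRing A] (φ : Γ(X, U) →+* A)

/-- Derivations along `φ` trivial on the ground field. -/
def Der : Type u :=
  {d : Γ(X, U) →+ A // (∀ a b, d (a * b) = φ a * d b + φ b * d a) ∧ ∀ c, d (kX f U c) = 0}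

variable {f φ}

/-- A linear combination of derivations along `φ`. -/
def comb {n : ℕ} (c : Fin n → A) (d : Fin n → Der f φ) : Der f φ :=
  ⟨∑ p, (AddMonoidHom.mulLeft (c p)).comp (d p).1, fun a b => by
      simp only [AddMonoidHom.finset_sum_apply, AddMonoidHom.coe_comp, AddMonoidHom.coe_mulLeft,
        Function.comp_apply, (d _).2.1 a b, Finset.mul_sum, ← Finset.sum_add_distrib]
      exact Finset.sum_congr rfl fun p _ => by ring,
    fun x => by simp [AddMonoidHom.finset_sum_apply, (d _).2.2 x]⟩

theorem comb_apply {n : ℕ} (c : Fin n → A) (d : Fin n → Der f φ) (a : Γ(X, U)) :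
    (comb c d).1 a = ∑ p, c p * (d p).1 a := by
  simp [comb, AddMonoidHom.finset_sum_apply]

variable (f φ) [QuasiSeparated f] (hU : IsAffineOpen U)

include hU in
theorem exists_lin (D : Der f φ) :
    ∃ l : SL φ (Omega.sheaf f), ∀ b, l.1 ((OmegaSh.dOmega f).app U b) = D.1 b := by
  let alg := (f.appLE ⊤ U le_top).hom.toAlgebra
  obtain ⟨E, hE⟩ := H44LogNCD.exists_omega_equiv (OmegaUniv.isUniversal_dOmega f) hU
    (isAffineOpen_top (Spec (CommRingCat.of k))) le_top
  letI algA : Algebra Γ(X, U) A := φ.toAlgebra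
  letI algB : Algebra Γ(Spec (CommRingCat.of k), ⊤) A := (φ.comp (f.appLE ⊤ U le_top).hom).toAlgebra
  haveI : IsScalarTower Γ(Spec (CommRingCat.of k), ⊤) Γ(X, U) A := IsScalarTower.of_algebraMap_eq fun _ => rfl
  have hc : ∀ c : Γ(Spec (CommRingCat.of k), ⊤), D.1 ((f.appLE ⊤ U le_top) c) = 0 := fun c => by
    have h := D.2.2 ((Scheme.ΓSpecIso (CommRingCat.of k)).hom c)
    refine Eq.trans (congrArg D.1 ?_) h
    show _ = (f.appLE ⊤ U le_top) ((Scheme.ΓSpecIso (CommRingCat.of k)).inv ((Scheme.ΓSpecIso (CommRingCat.of k)).hom c))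
    rw [← ConcreteCategory.comp_apply (Scheme.ΓSpecIso (CommRingCat.of k)).hom, Iso.hom_inv_id]
    rfl
  let D₀ : Derivation Γ(Spec (CommRingCat.of k), ⊤) Γ(X, U) A :=
    Derivation.mk'
      { toFun := fun b => D.1 b
        map_add' := fun a b => map_add D.1 a b
        map_smul' := fun c b => by
          show D.1 (f.appLE ⊤ U le_top c * b) = φ (f.appLE ⊤ U le_top c) * D.1 b
          rw [D.2.1, hc, mul_zero, add_zero] }
      fun a b => D.2.1 a b
  refine ⟨⟨(D₀.liftKaehlerDifferential.toAddMonoidHom).comp E.toAddEquiv.toAddMonoidHom, fun b z => ?_⟩, fun b => ?_⟩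
  · show D₀.liftKaehlerDifferential (E (b • z)) = φ b * D₀.liftKaehlerDifferential (E z)
    rw [map_smul, map_smul]
    rfl
  · show D₀.liftKaehlerDifferential (E ((OmegaSh.dOmega f).app U b)) = _
    rw [hE, Derivation.liftKaehlerDifferential_comp_D]
    rfl

/-- The functional of a derivation. -/
def lin (D : Der f φ) : SL φ (Omega.sheaf f) := (exists_lin f φ hU D).choose

theorem lin_d (D : Der f φ) (b : Γ(X, U)) :
    (lin f φ hU D).1 ((OmegaSh.dOmega f).app U b) = D.1 b :=
  (exists_lin f φ hU D).choose_spec b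

theorem lin_comb {n : ℕ} (c : Fin n → A) (d : Fin n → Der f φ) (z : Γ(Omega.sheaf f, U)) :
    (lin f φ hU (comb c d)).1 z = ∑ p, c p * (lin f φ hU (d p)).1 z := by
  induction z using omega_induction f hU with
  | h0 => simp only [map_zero, mul_zero, Finset.sum_const_zero]
  | hadd a b ha hb => simp only [map_add, mul_add, Finset.sum_add_distrib, ha, hb]
  | hd r b =>
    simp only [(lin f φ hU _).2, lin_d, comb_apply, Finset.mul_sum]
    exact Finset.sum_congr rfl fun p _ => by ring

theorem der_ext_of_basis {n : ℕ} (b : Module.Basis (Fin n) Γ(X, U) Γ(Omega.sheaf f, U)) {D D' : Der f φ}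
    (h : ∀ q, (lin f φ hU D).1 (b q) = (lin f φ hU D').1 (b q)) : D = D' := by
  refine Subtype.ext (AddMonoidHom.ext fun a => ?_)
  rw [← lin_d f φ hU D a, ← lin_d f φ hU D' a, ← b.sum_repr ((OmegaSh.dOmega f).app U a)]
  rw [map_sum, map_sum]
  exact Finset.sum_congr rfl fun q _ => by rw [(lin f φ hU D).2, (lin f φ hU D').2, h]

variable {i : ℕ} {L : X.Modules} (hL : ExtPow.IsExtPow i (Omega.sheaf f) L)

include hU hL in
theorem exists_dv (D : Fin i → Der f φ) :
    ∃ e : SL φ L, ∀ v : Fin i → Γ(Omega.sheaf f, U), e.1 ((eqv f hL hU).symm (exteriorPower.ιMulti _ i v)) =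
      (Matrix.of fun q p => (lin f φ hU (D p)).1 (v q)).det := by
  letI algA : Algebra Γ(X, U) A := φ.toAlgebra
  let T : Γ(Omega.sheaf f, U) →ₗ[Γ(X, U)] (Fin i → A) :=
    { toFun := fun z p => (lin f φ hU (D p)).1 z
      map_add' := fun a b => funext fun p => map_add _ a b
      map_smul' := fun c z => funext fun p => (lin f φ hU (D p)).2 c z }
  let α : Γ(Omega.sheaf f, U) [⋀^Fin i]→ₗ[Γ(X, U)] A :=
    { toMultilinearMap := ((Matrix.detRowAlternating (n := Fin i) (R := A)).toMultilinearMap.restrictScalars Γ(X, U)).compLinearMap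
        fun _ => T
      map_eq_zero_of_eq' := fun v a b h hab =>
        (Matrix.detRowAlternating (n := Fin i) (R := A)).map_eq_zero_of_eq _ (congrArg T h) hab }
  refine ⟨⟨(exteriorPower.alternatingMapLinearEquiv α).toAddMonoidHom.comp
    (eqv f hL hU).toAddEquiv.toAddMonoidHom, fun b z => ?_⟩, fun v => ?_⟩
  · show exteriorPower.alternatingMapLinearEquiv α (eqv f hL hU (b • z)) =
      φ b * exteriorPower.alternatingMapLinearEquiv α (eqv f hL hU z)
    rw [map_smul, map_smul]
    rfl
  · show exteriorPower.alternatingMapLinearEquiv α (eqv f hL hU ((eqv f hL hU).symm _)) = _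
    rw [LinearEquiv.apply_symm_apply, exteriorPower.alternatingMapLinearEquiv_apply_ιMulti]
    rfl

/-- The functional of a family of derivations on the exterior power. -/
def dv (D : Fin i → Der f φ) : SL φ L := (exists_dv f φ hU hL D).choose

theorem dv_eq (D : Fin i → Der f φ) (v : Fin i → Γ(Omega.sheaf f, U)) :
    (dv f φ hU hL D).1 ((eqv f hL hU).symm (exteriorPower.ιMulti _ i v)) =
      (Matrix.of fun q p => (lin f φ hU (D p)).1 (v q)).det :=
  (exists_dv f φ hU hL D).choose_spec v

/-- The functional of an array of derivations on the tensor power. -/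
def ev : (m : ℕ) → (Fin m → Fin i → Der f φ) → SL φ (CohB1.tensorPow L m)
  | 0, _ => ⟨AddMonoidHom.mk' (fun z : Γ(X, U) => φ z) (map_add φ), fun b z => map_mul φ b z⟩
  | m + 1, D => tev φ (isQCoh_tensorPow (isQCoh_ext f hL) m) (isQCoh_ext f hL) hU
      (ev m fun j => D j.castSucc) (dv f φ hU hL (D (Fin.last m)))

section Natural

variable (hV : IsAffineOpen V) (h : V ≤ U) (φ' : Γ(X, V) →+* A) (hφ : ∀ b, φ' (resR h b) = φ b)

/-- Compatibility of derivations along restriction. -/
def Compat (D : Der f φ) (D' : Der f φ') : Prop := ∀ a, D'.1 (resR h a) = D.1 a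

include hφ in
theorem lin_natural {D : Der f φ} {D' : Der f φ'} (hD : Compat f φ h φ' D D') (z : Γ(Omega.sheaf f, U)) :
    (lin f φ' hV D').1 (res _ h z) = (lin f φ hU D).1 z := by
  induction z using omega_induction f hU with
  | h0 => simp only [map_zero]
  | hadd a b ha hb => simp only [map_add, ha, hb]
  | hd c b =>
    rw [res_smul, (lin f φ' hV D').2, (lin f φ hU D).2,
      show res (Omega.sheaf f) h ((OmegaSh.dOmega f).app U b) = (OmegaSh.dOmega f).app V (resR h b) from
        ((OmegaSh.dOmega f).d_map (homOfLE h).op b).symm, lin_d, lin_d, hφ, hD]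

include hφ in
theorem dv_natural {D : Fin i → Der f φ} {D' : Fin i → Der f φ'}
    (hD : ∀ p, Compat f φ h φ' (D p) (D' p)) (z : Γ(L, U)) :
    (dv f φ' hV hL D').1 (res L h z) = (dv f φ hU hL D).1 z := by
  obtain ⟨w, rfl⟩ := (eqv f hL hU).symm.surjective z
  have hw : w ∈ Submodule.span Γ(X, U) (Set.range (exteriorPower.ιMulti Γ(X, U) i (M := Γ(Omega.sheaf f, U)))) := by
    rw [exteriorPower.ιMulti_span]; trivial
  induction hw using Submodule.span_induction with
  | mem w hw =>
    obtain ⟨v, rfl⟩ := hw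
    rw [eqv_res f hL hU hV h, dv_eq, dv_eq]
    congr 1
    ext q p
    exact lin_natural f φ hU hV h φ' hφ (hD p) (v q)
  | zero => simp only [map_zero]
  | add a b _ _ ha hb => simp only [map_add, ha, hb]
  | smul c a _ ha =>
    rw [map_smul, res_smul, (dv f φ' hV hL D').2, (dv f φ hU hL D).2, hφ, ha]

include hφ in
theorem ev_natural : ∀ (m : ℕ) (D : Fin m → Fin i → Der f φ) (D' : Fin m → Fin i → Der f φ')
    (_ : ∀ j p, Compat f φ h φ' (D j p) (D' j p)) (z : Γ(CohB1.tensorPow L m, U)),
    (ev f φ' hV hL m D').1 (res _ h z) = (ev f φ hU hL m D).1 z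
  | 0, _, _, _, z => hφ (show Γ(X, U) from z)
  | m + 1, D, D', hD, z => by
    have hqM := isQCoh_tensorPow (isQCoh_ext f hL) m
    obtain ⟨w, rfl⟩ := (QCoh.bijective_tmLin hqM (isQCoh_ext f hL) hU).2 z
    induction w using TensorProduct.induction_on with
    | zero => simp only [map_zero]
    | add a b ha hb =>
      rw [map_add]
      refine ((congrArg _ (map_add (res (CohB1.tensorPow L (m + 1)) h) _ _)).trans (map_add _ _ _)).trans ?_
      rw [ha, hb]
      exact (map_add (ev f φ hU hL (m + 1) D).1 _ _).symm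
    | tmul x y =>
      have e1 : res (CohB1.tensorPow L (m + 1)) h (QCoh.tmLin (CohB1.tensorPow L m) L U (x ⊗ₜ y)) =
          QCoh.tmS (CohB1.tensorPow L m) L (res _ h x) (res _ h y) := QCoh.map_tmS _ _ (homOfLE h) x y
      rw [e1]
      refine (tev_tmS φ' hV hqM (isQCoh_ext f hL) _ _ _ _).trans ?_
      rw [ev_natural m (fun j => D j.castSucc) (fun j => D' j.castSucc) (fun j => hD _) x,
        dv_natural f φ hU hL hV h φ' hφ (hD _) y]
      exact (tev_tmS φ hU hqM (isQCoh_ext f hL) _ _ x y).symm

end Natural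

section Frame

variable {n : ℕ} (b : Module.Basis (Fin n) Γ(X, U) Γ(Omega.sheaf f, U))

open Set.powersetCard

/-- The wedge of the frame over an index set. -/
def wedge (J : Set.powersetCard (Fin n) i) : Γ(L, U) :=
  (eqv f hL hU).symm (exteriorPower.ιMulti_family Γ(X, U) i b J)

/-- The elements of the frame of the tensor power. -/
def frame : (m : ℕ) → (Fin m → Set.powersetCard (Fin n) i) → Γ(CohB1.tensorPow L m, U)
  | 0, _ => (1 : Γ(X, U))
  | m + 1, I => QCoh.tmS (CohB1.tensorPow L m) L (frame m fun j => I j.castSucc) (wedge f hU hL b (I (Fin.last m)))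

theorem exists_sum_frame : ∀ (m : ℕ) (z : Γ(CohB1.tensorPow L m, U)),
    ∃ a : (Fin m → Set.powersetCard (Fin n) i) → Γ(X, U), z = ∑ I, a I • frame f hU hL b m I
  | 0, z => ⟨fun _ => (show Γ(X, U) from z), by
      rw [Fintype.sum_subsingleton _ Fin.elim0]
      exact (mul_one (show Γ(X, U) from z)).symm⟩
  | m + 1, z => by
    classical
    have hqM := isQCoh_tensorPow (isQCoh_ext f hL) m
    obtain ⟨w, rfl⟩ := (QCoh.bijective_tmLin hqM (isQCoh_ext f hL) hU).2 z
    let F : ((Fin (m + 1) → Set.powersetCard (Fin n) i) → Γ(X, U)) →ₗ[Γ(X, U)]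
        Γ(CohB1.tensorPow L (m + 1), U) :=
      Fintype.linearCombination Γ(X, U) (frame f hU hL b (m + 1))
    suffices QCoh.tmLin (CohB1.tensorPow L m) L U w ∈ LinearMap.range F by
      obtain ⟨a, ha⟩ := this
      exact ⟨a, ha.symm⟩
    induction w using TensorProduct.induction_on with
    | zero => rw [map_zero]; exact Submodule.zero_mem _
    | add x y hx hy => rw [map_add]; exact Submodule.add_mem _ hx hy
    | tmul x y =>
      obtain ⟨a, rfl⟩ := exists_sum_frame m x
      let B := (b.exteriorPower i).map (eqv f hL hU).symm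
      have hB : ∀ J, B J = wedge f hU hL b J := fun J => by
        simp only [B, wedge, Module.Basis.map_apply, exteriorPower.basis_apply]
      rw [← B.sum_repr y, TensorProduct.sum_tmul, map_sum]
      refine Submodule.sum_mem _ fun I' _ => ?_
      rw [TensorProduct.tmul_sum, map_sum]
      refine Submodule.sum_mem _ fun J _ => ?_
      rw [← TensorProduct.smul_tmul', map_smul, TensorProduct.tmul_smul, map_smul, hB]
      refine Submodule.smul_mem _ _ (Submodule.smul_mem _ _ ?_)
      refine ⟨Pi.single (Fin.snoc I' J) 1, ?_⟩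
      rw [Fintype.linearCombination_apply_single, one_smul]
      show QCoh.tmS _ _ _ _ = QCoh.tmS _ _ _ _
      rw [Fin.snoc_last, show (fun j : Fin m => Fin.snoc (α := fun _ => Set.powersetCard (Fin n) i) I' J j.castSucc) = I' from
        funext fun j => Fin.snoc_castSucc _ _ j]

theorem ev_frame : ∀ (m : ℕ) (D : Fin m → Fin i → Der f φ) (I : Fin m → Set.powersetCard (Fin n) i),
    (ev f φ hU hL m D).1 (frame f hU hL b m I) =
      ∏ j, (Matrix.of fun q p => (lin f φ hU (D j p)).1 (b (ofFinEmbEquiv.symm (I j) q))).det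
  | 0, D, I => by
    rw [Fin.prod_univ_zero]
    exact map_one φ
  | m + 1, D, I => by
    refine (tev_tmS φ hU (isQCoh_tensorPow (isQCoh_ext f hL) m) (isQCoh_ext f hL) _ _ _ _).trans ?_
    rw [Fin.prod_univ_castSucc, ev_frame m]
    congr 1
    exact dv_eq f φ hU hL _ _

theorem res_frame (hV : IsAffineOpen V) (h : V ≤ U)
    (b' : Module.Basis (Fin n) Γ(X, V) Γ(Omega.sheaf f, V)) (hb : ∀ q, b' q = res _ h (b q)) :
    ∀ (m : ℕ) (I : Fin m → Set.powersetCard (Fin n) i),
      res _ h (frame f hU hL b m I) = frame f hV hL b' m I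
  | 0, _ => map_one (resR h)
  | m + 1, I => by
    refine (QCoh.map_tmS _ _ (homOfLE h) _ _).trans ?_
    show QCoh.tmS _ _ (res _ h (frame f hU hL b m fun j => I j.castSucc)) (res _ h (wedge f hU hL b _)) = _
    rw [res_frame hV h b' hb m]
    congr 1
    refine (eqv_res f hL hU hV h _).trans ?_
    simp only [Function.comp_apply, ← hb]
    rfl

theorem det_indicator {R : Type u} [CommRing R] (I J : Set.powersetCard (Fin n) i) :
    (Matrix.of fun q p : Fin i => if ofFinEmbEquiv.symm I q = ofFinEmbEquiv.symm J p then (1 : R) else 0).det =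
      if J = I then 1 else 0 := by
  classical
  let e := Pi.basisFun R (Fin n)
  have h : (Matrix.of fun q p : Fin i => if ofFinEmbEquiv.symm I q = ofFinEmbEquiv.symm J p then (1 : R) else 0).det =
      exteriorPower.ιMultiDual R i e J (exteriorPower.ιMulti R i fun q => e (ofFinEmbEquiv.symm I q)) := by
    rw [exteriorPower.ιMultiDual_apply_ιMulti]
    congr 1
    ext q p
    simp [e, Pi.single_apply, eq_comm]
  rw [h]
  split_ifs with hJI
  · subst hJI; exact exteriorPower.ιMultiDual_apply_diag _ _ e J
  · exact exteriorPower.ιMultiDual_apply_nondiag _ _ e J I hJI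

theorem ev_frame_dual {m : ℕ} (δ : Fin n → Der f φ)
    (hδ : ∀ p q, (lin f φ hU (δ p)).1 (b q) = if q = p then 1 else 0)
    (I J : Fin m → Set.powersetCard (Fin n) i) :
    (ev f φ hU hL m fun j p => δ (ofFinEmbEquiv.symm (J j) p)).1 (frame f hU hL b m I) =
      if J = I then 1 else 0 := by
  classical
  rw [ev_frame]
  simp only [hδ, det_indicator]
  rw [Finset.prod_ite_zero]
  · simp [funext_iff, eq_comm]

include hU hL in
/-- The frame of the tensor power is linearly independent. -/
theorem frame_independent {m : ℕ} (a : (Fin m → Set.powersetCard (Fin n) i) → Γ(X, U))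
    (ha : ∑ I, a I • frame f hU hL b m I = 0) : a = 0 := by
  classical
  let alg := (kX f U).toAlgebra
  choose δ hδ using H44REq.exists_dual f hU b
  let δ' : Fin n → Der f (RingHom.id Γ(X, U)) := fun p =>
    ⟨(δ p).toLinearMap.toAddMonoidHom, fun x y => by simpa [smul_eq_mul] using (δ p).leibniz x y,
      fun c => (δ p).map_algebraMap c⟩
  have hlin : ∀ p z, (lin f (RingHom.id _) hU (δ' p)).1 z = b.coord p z := fun p z => by
    induction z using omega_induction f hU with
    | h0 => rw [map_zero, map_zero]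
    | hadd a a' ha ha' => rw [map_add, map_add, ha, ha']
    | hd c a =>
      rw [(lin f _ hU (δ' p)).2, lin_d, map_smul, smul_eq_mul, RingHom.id_apply]
      exact congrArg (c * ·) (hδ p a)
  funext J
  have h := congrArg (ev f (RingHom.id _) hU hL m fun j p => δ' (ofFinEmbEquiv.symm (J j) p)).1 ha
  rw [map_sum, map_zero] at h
  simp only [(ev f (RingHom.id _) hU hL m _).2, RingHom.id_apply] at h
  rw [Finset.sum_congr rfl fun I _ => congrArg (a I * ·)
    (ev_frame_dual f (RingHom.id _) hU hL b δ' (fun p q => by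
      rw [hlin, Module.Basis.coord_apply, Module.Basis.repr_self, Finsupp.single_apply]) I J)] at h
  simpa using h

end Frame

end Groth.Agent.Curves16.FreeEval
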