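import Groth.Agent.Curves16.FreeBase
import Groth.Agent.CurveCohLib.Clifford

/-!
# Tensor forms vanish on a variety with enough global derivations along a proper curve
-/

universe u

open CategoryTheory CategoryTheory.Limits AlgebraicGeometry TopologicalSpace Opposite

set_option linter.style.haveILetI false
set_option linter.unusedSectionVars false
set_option backward.isDefEq.respectTransparency false
set_option backward.isDefEq.respectTransparency.types false

noncomputable section

namespace Groth.Agent.Curves16.Free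

open Groth.Agent Groth.Agent.AModX
open Groth.Agent.H44REq (kX)

theorem exists_res_basis {X : Scheme.{u}} {F : X.Modules} (hF : Coh.IsQCoh F) {U V : X.Opens}
    (hU : IsAffineOpen U) (hV : IsAffineOpen V) (h : V ≤ U) {d : ℕ}
    (b : Module.Basis (Fin d) Γ(X, U) Γ(F, U)) :
    ∃ b' : Module.Basis (Fin d) Γ(X, V) Γ(F, V), ∀ q, b' q = res F h (b q) := by
  let alg : Algebra Γ(X, U) Γ(X, V) := (resR h).toAlgebra
  let md : Module Γ(X, U) Γ(F, V) := Module.compHom _ (resR h)
  haveI : IsScalarTower Γ(X, U) Γ(X, V) Γ(F, V) := IsScalarTower.of_algebraMap_smul fun _ _ => rfl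
  let l : Γ(F, U) →ₗ[Γ(X, U)] Γ(F, V) :=
    { toFun := res F h, map_add' := map_add (res F h), map_smul' := fun c z => res_smul h c z }
  have hbc := FormalSch78.isBaseChange_res hF hU hV h (fun _ => rfl) l fun _ => rfl
  exact ⟨hbc.basis b, fun q => hbc.basis_apply b q⟩

theorem eq_zero_of_res {X : Scheme.{u}} [IsIntegral X] {U W : X.Opens} (h : W ≤ U) (hW : (W : Set X).Nonempty)
    {a : Γ(X, U)} (ha : resR h a = 0) : a = 0 := by
  haveI : Nonempty W := hW.to_subtype
  exact AlgebraicGeometry.map_injective_of_isIntegral X (homOfLE h) (ha.trans (map_zero _).symm)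

variable {k : Type u} [Field k] {P : Scheme.{u}} [P.Over (Spec (CommRingCat.of k))] [IsIntegral P]

theorem isUnit_germ_exists {x : P} {v : P.functionField} (hv : v ∈ Reg x) :
    ∃ (V : P.Opens) (hη : genericPoint P ∈ V) (_ : x ∈ V) (s : Γ(P, V)),
      P.presheaf.germ V (genericPoint P) hη s = v := by
  obtain ⟨a, rfl⟩ := hv
  obtain ⟨V, hx, s, rfl⟩ := P.presheaf.exists_germ_eq (x := x) a
  exact ⟨V, ((genericPoint_spec P).specializes (Set.mem_univ x)).mem_open V.2 hx, hx, s,
    (algebraMap_germ x hx _ s).symm⟩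

/-- On a proper integral scheme over an algebraically closed field a function regular everywhere is constant. -/
theorem exists_const_of_reg [IsAlgClosed k] [IsProper (P ↘ Spec (CommRingCat.of k))] {v : P.functionField}
    (hv : ∀ x : P, v ∈ Reg x) : ∃ c : k, v = kK k P c := by
  choose V hη hx s hs using fun x => isUnit_germ_exists (hv x)
  have hc : TopCat.Presheaf.IsCompatible P.sheaf.obj V s := fun x y => by
    have hη2 : genericPoint P ∈ V x ⊓ V y := ⟨hη x, hη y⟩
    refine AlgebraicGeometry.germ_injective_of_isIntegral P (genericPoint P) hη2 ?_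
    exact ((P.presheaf.germ_res_apply (homOfLE inf_le_left) _ hη2 (s x)).trans (hs x)).trans
      ((P.presheaf.germ_res_apply (homOfLE inf_le_right) _ hη2 (s y)).trans (hs y)).symm
  obtain ⟨g, hg, -⟩ := P.sheaf.existsUnique_gluing' V ⊤ (fun x => homOfLE le_top)
    (fun z _ => Opens.mem_iSup.2 ⟨z, hx z⟩) s hc
  obtain ⟨c, hc'⟩ := (CurveEnd.toGlobal_bijective (X := P) (k := k)).2 g
  refine ⟨c, ?_⟩
  rw [← hs (genericPoint P), ← hg (genericPoint P)]
  refine (P.presheaf.germ_res_apply (homOfLE le_top) _ (hη _) g).trans ?_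
  rw [← hc']
  exact congrArg (P.presheaf.germ ⊤ (genericPoint P) trivial)
    (show _ = (P ↘ Spec (CommRingCat.of k)).appLE ⊤ ⊤ le_top _ by rw [show (P ↘ Spec (CommRingCat.of k)).appLE ⊤ ⊤ le_top = (P ↘ Spec (CommRingCat.of k)).appTop from Scheme.Hom.appLE_eq_app _]; rfl)

variable {X : Scheme.{u}} [X.Over (Spec (CommRingCat.of k))] [Smooth (X ↘ Spec (CommRingCat.of k))]
  [QuasiSeparated (X ↘ Spec (CommRingCat.of k))] [IsIntegral X]
  {γ : P ⟶ X} [hγ : Fact (γ ≫ (X ↘ Spec (CommRingCat.of k)) = P ↘ Spec (CommRingCat.of k))]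

attribute [local instance] algX algK algS

local notation "fX" => X ↘ Spec (CommRingCat.of k)
local notation "ΩX" => Omega.sheaf (X ↘ Spec (CommRingCat.of k))

theorem exists_jetK {U : X.Opens} (hU : IsAffineOpen U) (h : Meets γ U)
    (D : FreeEval.Der fX (φU γ U h)) (j : ℕ) :
    ∃ φ : Γ(X, U) →ₐ[k] FreeJet.Q P.functionField j, FreeJet.IsJet (φA (k := k) γ U h) (dA D) φ := by
  haveI := (formallySmooth_sections (k := k) hU).1
  obtain ⟨φ, hφ, -⟩ := FreeJet.exists_jet (φA (k := k) γ U h) (dA D) (AlgHom.id k _) (φA (k := k) γ U h) (fun _ => rfl) (dA D)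
    (fun _ => rfl) (fun _ _ e => e) (isDer_dA D) j
  exact ⟨φ, hφ⟩

variable {n : ℕ} (δ : Fin n → GDer k γ)

theorem lead_res {U W : X.Opens} (hW : IsAffineOpen W) (i : W ≤ U) (hWm : Meets γ W) (hUm : Meets γ U)
    (t : Fin n → k) {j : ℕ} {a : Γ(X, U)} {v w : P.functionField}
    (hv : FreeJet.Lead (φA (k := k) γ U hUm) (dA (combo δ t U hUm)) j a v)
    (hw : FreeJet.Lead (φA (k := k) γ W hWm) (dA (combo δ t W hWm)) j (resR i a) w) : w = v := by
  obtain ⟨φ, hφ⟩ := exists_jetK hW hWm (combo δ t W hWm) j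
  let r : Γ(X, U) →ₐ[k] Γ(X, W) :=
    { resR i with commutes' := fun c => congrArg (fun g : k →+* Γ(X, W) => g c) (H44REq.kX_res fX i) }
  have hc : FreeJet.IsJet (φA (k := k) γ U hUm) (dA (combo δ t U hUm)) (φ.comp r) := fun b => by
    obtain ⟨h, hh⟩ := hφ (resR i b)
    refine ⟨h, hh.trans ?_⟩
    show FreeJet.q _ j (Polynomial.C (φU γ W hWm (resR i b)) + Polynomial.C ((combo δ t W hWm).1 (resR i b)) * _ + _) = _
    rw [φU_res γ hWm i hUm, combo_res δ t hWm i hUm b]
    rfl
  refine FreeJet.Lead.unique (φA (k := k) γ U hUm) (dA (combo δ t U hUm)) (fun ψ hψ => ?_) hv (φ.comp r) hc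
  have e := (hv _ hc).symm.trans (hw φ hφ)
  rw [hv ψ hψ]
  rw [← sub_eq_zero, ← map_sub, FreeJet.q_eq_zero, Polynomial.X_pow_dvd_iff] at e
  have := e j (Nat.lt_succ_self j)
  rw [Polynomial.coeff_sub, Polynomial.coeff_C_mul, Polynomial.coeff_C_mul, Polynomial.coeff_X_pow_self, mul_one,
    mul_one, sub_eq_zero] at this
  rw [this]

theorem ord_res {U W : X.Opens} (i : W ≤ U) (hWm : Meets γ W) (hUm : Meets γ U) {j : ℕ} {a : Γ(X, U)}
    (ha : a ∈ FreeJet.ord (φA (k := k) γ U hUm) j) : resR i a ∈ FreeJet.ord (φA (k := k) γ W hWm) j :=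
  FreeJet.ord_map (φA (k := k) γ U hUm) (φA (k := k) γ W hWm)
    { resR i with commutes' := fun c => congrArg (fun g : k →+* Γ(X, W) => g c) (H44REq.kX_res fX i) }
    (AlgHom.ext fun b => φU_res γ hWm i hUm b) ha

variable {i : ℕ} {L : X.Modules} (hL : ExtPow.IsExtPow i (Omega.sheaf (X ↘ Spec (CommRingCat.of k))) L) {m : ℕ}
  (s : Γ(CohB1.tensorPow L m, ⊤))

/-- The coordinates of a form on a framed chart meeting the curve vanish to order `j`. -/
def VanOrd (j : ℕ) : Prop :=
  ∀ (U : X.Opens) (hU : IsAffineOpen U) (h : Meets γ U) (d : ℕ)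
    (b : Module.Basis (Fin d) Γ(X, U) Γ(ΩX, U)) (a : (Fin m → Set.powersetCard (Fin d) i) → Γ(X, U)),
    res _ le_top s = ∑ I, a I • FreeEval.frame fX hU hL b m I → ∀ I, a I ∈ FreeJet.ord (φA (k := k) γ U h) j

/-- The value of a jet of the form. -/
theorem value_indep {j : ℕ} (hs : VanOrd (k := k) (γ := γ) hL s j) (t : Fin n → k) (c : Fin m → Fin i → Fin n → k)
    {U W : X.Opens} (hU : IsAffineOpen U) (hW : IsAffineOpen W) (iW : W ≤ U) (hWm : Meets γ W) (hUm : Meets γ U)
    {d : ℕ} (b : Module.Basis (Fin d) Γ(X, U) Γ(ΩX, U))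
    {d' : ℕ} (b' : Module.Basis (Fin d') Γ(X, W) Γ(ΩX, W))
    (a : (Fin m → Set.powersetCard (Fin d) i) → Γ(X, U)) (ha : res _ le_top s = ∑ I, a I • FreeEval.frame fX hU hL b m I)
    (a' : (Fin m → Set.powersetCard (Fin d') i) → Γ(X, W))
    (ha' : res _ le_top s = ∑ I, a' I • FreeEval.frame fX hW hL b' m I)
    (v : (Fin m → Set.powersetCard (Fin d) i) → P.functionField)
    (hv : ∀ I, FreeJet.Lead (φA (k := k) γ U hUm) (dA (combo δ t U hUm)) j (a I) (v I))
    (v' : (Fin m → Set.powersetCard (Fin d') i) → P.functionField)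
    (hv' : ∀ I, FreeJet.Lead (φA (k := k) γ W hWm) (dA (combo δ t W hWm)) j (a' I) (v' I)) :
    ∑ I, v I * (FreeEval.ev fX _ hU hL m fun l p => combo δ (c l p) U hUm).1 (FreeEval.frame fX hU hL b m I) =
    ∑ I, v' I * (FreeEval.ev fX _ hW hL m fun l p => combo δ (c l p) W hWm).1 (FreeEval.frame fX hW hL b' m I) := by
  classical
  haveI := (formallySmooth_sections (k := k) hW).1
  haveI := (formallySmooth_sections (k := k) hW).2
  choose g hg using fun I => FreeEval.exists_sum_frame fX hW hL b' m (res _ iW (FreeEval.frame fX hU hL b m I))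
  have hcoord : ∀ K, a' K = ∑ I, resR iW (a I) * g I K := by
    have h0 : ∑ K, (a' K - ∑ I, resR iW (a I) * g I K) • FreeEval.frame fX hW hL b' m K = 0 := by
      simp only [sub_smul, Finset.sum_smul, mul_smul, Finset.sum_sub_distrib]
      rw [← ha', Finset.sum_comm, sub_eq_zero, ← res_res (le_top : U ≤ ⊤) iW, ha, map_sum]
      refine Finset.sum_congr rfl fun I _ => ?_
      rw [res_smul, hg I, Finset.smul_sum]
    exact fun K => sub_eq_zero.1 (congrFun (FreeEval.frame_independent fX hW hL b' _ h0) K)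
  have hv'' : ∀ K, v' K = ∑ I, φU γ W hWm (g I K) * v I := fun K => by
    have hl : FreeJet.Lead (φA (k := k) γ W hWm) (dA (combo δ t W hWm)) j (a' K) (∑ I, φU γ W hWm (g I K) * v I) := by
      rw [hcoord]
      refine FreeJet.Lead.sum _ _ _ fun I _ => ?_
      obtain ⟨w, hw⟩ := FreeJet.exists_lead (φA (k := k) γ W hWm) (dA (combo δ t W hWm))
        (ord_res iW hWm hUm (hs U hU hUm d b a ha I))
      rw [mul_comm, ← lead_res δ hW iW hWm hUm t (hv I) hw]
      exact hw.mul (f := φA (k := k) γ W hWm) (δ := dA (combo δ t W hWm)) (g I K)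
    obtain ⟨φ, hφ⟩ := exists_jetK hW hWm (combo δ t W hWm) j
    exact FreeJet.Lead.unique _ _ (hv' K) hl φ hφ
  simp only [hv'', Finset.sum_mul]
  rw [Finset.sum_comm]
  refine Finset.sum_congr rfl fun I _ => ?_
  rw [← FreeEval.ev_natural fX _ hU hL hW iW _ (fun b => φU_res γ hWm iW hUm b) m _
    (fun l p => combo δ (c l p) W hWm) (fun l p => combo_res δ _ hWm iW hUm), hg I, map_sum, Finset.mul_sum]
  refine Finset.sum_congr rfl fun K _ => ?_
  rw [(FreeEval.ev fX _ hW hL m _).2]
  ring

theorem exists_chart_at (x : X) (W : X.Opens) (hx : x ∈ W) :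
    ∃ (U : X.Opens) (d : ℕ), IsAffineOpen U ∧ U ≤ W ∧ x ∈ U ∧
      Nonempty (Module.Basis (Fin d) Γ(X, U) Γ(ΩX, U)) := by
  obtain ⟨U, d, hxU, ⟨b⟩⟩ := H44REq.exists_chart fX x
  obtain ⟨_, ⟨V, hV, rfl⟩, hxV, hVU⟩ := X.isBasis_affineOpens.exists_subset_of_mem_open
    (show x ∈ ((U.1 ⊓ W : X.Opens) : Set X) from ⟨hxU, hx⟩) (U.1 ⊓ W).2
  obtain ⟨b', -⟩ := exists_res_basis (OmegaUniv.isQCoh_omega fX) U.2 hV (fun z hz => (hVU hz).1) b
  exact ⟨V, d, hV, fun z hz => (hVU hz).2, hxV, ⟨b'⟩⟩

variable [IsAlgClosed k] [IsProper (P ↘ Spec (CommRingCat.of k))]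

include hL in
/-- Tensor forms vanish when derivations along the curve, regular everywhere, span at the generic point and all
determinants of their combinations vanish at one point. -/
theorem eq_zero_of_derivations (hm : 0 < m)
    (hspan : ∀ (U : X.Opens) (_ : IsAffineOpen U) (h : Meets γ U) (d : ℕ)
      (_ : Module.Basis (Fin d) Γ(X, U) Γ(ΩX, U)) (D : FreeEval.Der fX (φU γ U h)),
      ∃ c : Fin n → P.functionField, D = FreeEval.comb c fun p => (δ p).der U h)
    (x₀ : P) (hvan : ∀ (U : X.Opens) (hU : IsAffineOpen U) (hx : γ.base x₀ ∈ U) (c : Fin i → Fin n → k)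
      (v : Fin i → Γ(ΩX, U)),
      (Matrix.of fun q p => (FreeEval.lin fX _ hU (combo δ (c p) U (meets_of_mem γ hx))).1 (v q)).det ∈ Mx x₀) :
    s = 0 := by
  classical
  haveI : Infinite k := IsAlgClosed.instInfinite
  have hall : ∀ j, VanOrd (k := k) (γ := γ) hL s j := by
    intro j
    induction j with
    | zero => exact fun U hU h d b a ha I => by rw [FreeJet.mem_ord, pow_zero, Ideal.one_eq_top]; trivial
    | succ j ih =>
      intro U hU h d b a ha I₀
      haveI := (formallySmooth_sections (k := k) hU).1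
      haveI := (formallySmooth_sections (k := k) hU).2
      refine FreeJet.mem_ord_succ (φA (k := k) γ U h) (fun p => dA ((δ p).der U h)) (fun p => isDer_dA _) ?_
        (fun δ' hδ' => exists_jetK hU h (ofLin δ' hδ') j) (ih U hU h d b a ha I₀) fun t => ?_
      · intro δ' hδ'
        obtain ⟨c, hc⟩ := hspan U hU h d b (ofLin δ' hδ')
        refine ⟨c, LinearMap.ext fun z => ?_⟩
        rw [show δ' z = (FreeEval.comb c fun p => (δ p).der U h).1 z by rw [← hc]; rfl, FreeEval.comb_apply,
          LinearMap.sum_apply]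
        rfl
      have hsum : (∑ p, algebraMap k P.functionField (t p) • dA ((δ p).der U h)) = dA (combo δ t U h) :=
        LinearMap.ext fun z => by
          refine Eq.trans ?_ (FreeEval.comb_apply _ _ z).symm
          rw [LinearMap.sum_apply]
          rfl
      rw [hsum]
      choose v hv using fun I => FreeJet.exists_lead (φA (k := k) γ U h) (dA (combo δ t U h)) (ih U hU h d b a ha I)
      have hzero : ∀ c : Fin m → Fin i → Fin n → k,
          ∑ I, v I * (FreeEval.ev fX _ hU hL m fun l p => combo δ (c l p) U h).1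
            (FreeEval.frame fX hU hL b m I) = 0 := by
        intro c
        have hloc : ∀ x : P,
            (∑ I, v I * (FreeEval.ev fX _ hU hL m fun l p => combo δ (c l p) U h).1
              (FreeEval.frame fX hU hL b m I)) ∈ Reg x ∧
            (x = x₀ → (∑ I, v I * (FreeEval.ev fX _ hU hL m fun l p => combo δ (c l p) U h).1
              (FreeEval.frame fX hU hL b m I)) ∈ Mx x) := by
          intro x
          obtain ⟨V, d', hV, -, hxV, ⟨b'⟩⟩ := exists_chart_at (k := k) (γ.base x) ⊤ trivial
          have hVm := meets_of_mem γ hxV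
          haveI := (formallySmooth_sections (k := k) hV).1
          haveI := (formallySmooth_sections (k := k) hV).2
          obtain ⟨_, ⟨W, hW, rfl⟩, hWm, hWle⟩ := X.isBasis_affineOpens.exists_subset_of_mem_open
            (show γ.base (genericPoint P) ∈ ((U ⊓ V : X.Opens) : Set X) from ⟨h, hVm⟩) (U ⊓ V).2
          obtain ⟨bW, -⟩ := exists_res_basis (OmegaUniv.isQCoh_omega fX) hV hW (fun z hz => (hWle hz).2) b'
          haveI := (formallySmooth_sections (k := k) hW).2
          obtain ⟨a', ha'⟩ := FreeEval.exists_sum_frame fX hV hL b' m (res _ le_top s)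
          obtain ⟨aW, haW⟩ := FreeEval.exists_sum_frame fX hW hL bW m (res _ le_top s)
          choose v' hv' using fun I => FreeJet.exists_lead (φA (k := k) γ V hVm) (dA (combo δ t V hVm)) (ih V hV hVm d' b' a' ha' I)
          choose vW hvW using fun I => FreeJet.exists_lead (φA (k := k) γ W hWm) (dA (combo δ t W hWm)) (ih W hW hWm d' bW aW haW I)
          rw [value_indep δ hL s ih t c hU hW (fun z hz => (hWle hz).1) hWm h b bW a ha aW haW v hv vW hvW,
            ← value_indep δ hL s ih t c hV hW (fun z hz => (hWle hz).2) hWm hVm b' bW a' ha' aW haW v' hv' vW hvW]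
          have hvreg : ∀ I, v' I ∈ Reg x := fun I => by
            let fB : Γ(X, V) →ₐ[k] P.presheaf.stalk x :=
              { (γ.app V ≫ P.presheaf.germ (γ ⁻¹ᵁ V) x hxV).hom with
                commutes' := fun r => by
                  show P.presheaf.germ (γ ⁻¹ᵁ V) x hxV (γ.app V (kX fX V r)) = P.presheaf.germ ⊤ x trivial _
                  rw [app_kX, ← H44REq.kX_res (P ↘ Spec (CommRingCat.of k)) (show γ ⁻¹ᵁ V ≤ ⊤ from le_top)]
                  exact P.presheaf.germ_res_apply (homOfLE le_top) _ hxV _ }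
            let ι : P.presheaf.stalk x →ₐ[k] P.functionField :=
              { algebraMap (P.presheaf.stalk x) P.functionField with
                commutes' := fun r => algebraMap_germ x (V := ⊤) trivial trivial _ }
            choose dB hdB using fun z => combo_mem_Reg δ t hxV hVm z
            obtain ⟨w, hw⟩ := FreeJet.lead_mem_range (φA (k := k) γ V hVm) (dA (combo δ t V hVm)) ι fB
              (fun z => algebraMap_germ x (V := γ ⁻¹ᵁ V) hxV hVm _) dB hdB (IsFractionRing.injective _ _) (isDer_dA _) (hv' I)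
            exact ⟨w, hw⟩
          have hdet : ∀ (I : Fin m → Set.powersetCard (Fin d') i) (l : Fin m), (Matrix.of fun q p => (FreeEval.lin fX _ hV (combo δ (c l p) V hVm)).1
              (b' (Set.powersetCard.ofFinEmbEquiv.symm (I l) q))).det ∈ Reg x := fun I l =>
            det_mem_Reg fun q p => lin_combo_mem_Reg δ _ hV hxV hVm _
          refine ⟨Subring.sum_mem _ fun I _ => ?_, fun hx0 => AddSubgroup.sum_mem _ fun I _ => ?_⟩
          · rw [FreeEval.ev_frame]
            exact Subring.mul_mem _ (hvreg I) (Subring.prod_mem _ fun l _ => hdet I l)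
          · subst hx0
            rw [FreeEval.ev_frame]
            exact mul_mem_Mx (hvreg I) (prod_mem_Mx ⟨0, hm⟩ (hvan V hV hxV _ _) (hdet I))
        obtain ⟨r, hr⟩ := exists_const_of_reg (k := k) fun x => (hloc x).1
        rw [hr, (kK_mem_Mx_iff x₀ r).1 (hr ▸ (hloc x₀).2 rfl), map_zero]
      let G : MvPolynomial (Fin m × Fin i × Fin n) P.functionField :=
        ∑ I : Fin m → Set.powersetCard (Fin d) i, MvPolynomial.C (v I) * ∏ l, (Matrix.of fun q p => ∑ r,
          MvPolynomial.C ((FreeEval.lin fX _ hU ((δ r).der U h)).1 (b (Set.powersetCard.ofFinEmbEquiv.symm (I l) q))) *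
            MvPolynomial.X (l, p, r)).det
      have hG : ∀ C : Fin m × Fin i × Fin n → P.functionField, MvPolynomial.eval C G =
          ∑ I, v I * (FreeEval.ev fX _ hU hL m fun l p => FreeEval.comb (fun r => C (l, p, r))
            fun r => (δ r).der U h).1 (FreeEval.frame fX hU hL b m I) := by
        intro C
        simp only [G, map_sum, map_mul, MvPolynomial.eval_C, map_prod, FreeEval.ev_frame]
        refine Finset.sum_congr rfl fun I _ => congrArg (v I * ·) (Finset.prod_congr rfl fun l _ => ?_)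
        rw [RingHom.map_det]
        congr 1
        ext q p
        simp only [RingHom.mapMatrix_apply, Matrix.map_apply, Matrix.of_apply, map_sum, map_mul,
          MvPolynomial.eval_C, MvPolynomial.eval_X, FreeEval.lin_comb]
        exact Finset.sum_congr rfl fun r _ => mul_comm _ _
      have hG0 : G = 0 := by
        refine MvPolynomial.funext_set (fun _ => Set.range (kK k P))
          (fun _ => Set.infinite_range_of_injective (kK k P).injective) fun C hC => ?_
        choose c hc using fun l => hC l (Set.mem_univ l)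
        obtain rfl : C = fun l => kK k P (c l) := funext fun l => (hc l).symm
        rw [hG, map_zero]
        exact hzero fun l p r => c (l, p, r)
      choose δb hδb using H44REq.exists_dual fX hU b
      let D' : Fin d → FreeEval.Der fX (φU γ U h) := fun q =>
        ⟨(φU γ U h).toAddMonoidHom.comp (δb q).toLinearMap.toAddMonoidHom, fun x y => by
            show φU γ U h (δb q (x * y)) = φU γ U h x * φU γ U h (δb q y) + φU γ U h y * φU γ U h (δb q x)
            rw [(δb q).leibniz, smul_eq_mul, smul_eq_mul, map_add, map_mul, map_mul],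
          fun r => by
            show φU γ U h (δb q (kX fX U r)) = 0
            rw [show δb q (kX fX U r) = 0 from (δb q).map_algebraMap r, map_zero]⟩
      have hD' : ∀ p q, (FreeEval.lin fX _ hU (D' p)).1 (b q) = if q = p then 1 else 0 := fun p q => by
        have hlin : ∀ z, (FreeEval.lin fX _ hU (D' p)).1 z = φU γ U h (b.coord p z) := fun z => by
          induction z using H44REq.omega_induction fX hU with
          | h0 => rw [map_zero, map_zero, map_zero]
          | hadd a a' ha ha' => rw [map_add, map_add, map_add, ha, ha']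
          | hd r z =>
            rw [(FreeEval.lin fX _ hU (D' p)).2, FreeEval.lin_d, map_smul, smul_eq_mul, map_mul]
            exact congrArg (_ * ·) (congrArg (φU γ U h) (hδb p z))
        rw [hlin, Module.Basis.coord_apply, Module.Basis.repr_self, Finsupp.single_apply]
        split_ifs <;> simp
      choose cD hcD using fun q => hspan U hU h d b (D' q)
      have e := hG fun l => cD (Set.powersetCard.ofFinEmbEquiv.symm (I₀ l.1) l.2.1) l.2.2
      rw [hG0, map_zero] at e
      simp only [← hcD, FreeEval.ev_frame_dual fX _ hU hL b D' hD'] at e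
      simp only [mul_ite, mul_one, mul_zero, Finset.sum_ite_eq, Finset.mem_univ, if_true] at e
      rw [e]
      exact hv I₀
  refine eq_of_locally _ _ fun p _ => ?_
  obtain ⟨U, d, hU, -, hp, ⟨b⟩⟩ := exists_chart_at (k := k) p ⊤ trivial
  refine ⟨U, le_top, hp, ?_⟩
  rw [map_zero]
  obtain ⟨V, d', hV, -, hηV, ⟨b'⟩⟩ := exists_chart_at (k := k) (γ.base (genericPoint P)) ⊤ trivial
  haveI := (formallySmooth_sections (k := k) hV).2
  haveI : Nonempty V := ⟨⟨_, hηV⟩⟩
  obtain ⟨a', ha'⟩ := FreeEval.exists_sum_frame fX hV hL b' m (res _ le_top s)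
  have ha0 : ∀ I, a' I = 0 := fun I =>
    FreeJet.eq_zero_of_forall_mem_ord (φA (k := k) γ V hηV) fun j => hall j V hV hηV d' b' a' ha' I
  obtain ⟨a, ha⟩ := FreeEval.exists_sum_frame fX hU hL b m (res _ le_top s)
  obtain ⟨z, hzU, hzV⟩ := nonempty_preirreducible_inter U.2 V.2 ⟨p, hp⟩ ⟨_, hηV⟩
  obtain ⟨_, ⟨W, hW, rfl⟩, hzW, hWle⟩ := X.isBasis_affineOpens.exists_subset_of_mem_open
    (show z ∈ ((U ⊓ V : X.Opens) : Set X) from ⟨hzU, hzV⟩) (U ⊓ V).2
  obtain ⟨bW, hbW⟩ := exists_res_basis (OmegaUniv.isQCoh_omega fX) hU hW (fun z hz => (hWle hz).1) b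
  have hz : res (CohB1.tensorPow L m) (show W ≤ U from fun z hz => (hWle hz).1) (res _ le_top s) = 0 := by
    rw [res_res, ← res_res (le_top : V ≤ ⊤) (show W ≤ V from fun z hz => (hWle hz).2), ha']
    simp [ha0]
  rw [ha, map_sum] at hz
  have hzero : (fun I => resR (show W ≤ U from fun z hz => (hWle hz).1) (a I)) = 0 :=
    FreeEval.frame_independent fX hW hL bW _ (Eq.trans (Finset.sum_congr rfl fun I _ => by
      rw [res_smul, FreeEval.res_frame fX hU hL b hW _ bW hbW]) hz)
  rw [ha]
  exact Finset.sum_eq_zero fun I _ => by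
    rw [eq_zero_of_res _ ⟨z, hzW⟩ (congrFun hzero I), zero_smul]

end Groth.Agent.Curves16.Free
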