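import Groth.Agent.Curves16.FreeVanish
import Groth.Agent.CurveLuroth.Line
import Groth.Agent.KodV43.H1Zero
import Groth.Agent.CurveBC.Main
import Mathlib.FieldTheory.Perfect
import Mathlib.FieldTheory.RatFunc.Degree
import Mathlib.RingTheory.IntegralClosure.IntegrallyClosed

/-!
# A derivation along a non-constant rational curve vanishing at a point

If the curve factors through a power of Frobenius, the derivation is obtained by taking roots.
-/

universe u

open CategoryTheory CategoryTheory.Limits AlgebraicGeometry TopologicalSpace Opposite Polynomial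

set_option linter.style.haveILetI false
set_option linter.unusedSectionVars false
set_option backward.isDefEq.respectTransparency false
set_option backward.isDefEq.respectTransparency.types false
set_option maxHeartbeats 1600000

noncomputable section

namespace Groth.Agent.Curves16.Free

open Groth.Agent Groth.Agent.AModX Groth.Agent.Pn90
open Groth.Agent.H44REq (kX)

variable {k : Type u} [Field k]

/-- If a quotient of polynomials has zero derivative it is a power. -/
theorem exists_root_of_wronskian [IsAlgClosed k] (q : ℕ) [ExpChar k q] {a b : k[X]} (hb : b ≠ 0)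
    (hcop : IsCoprime a b) (h : derivative a * b - a * derivative b = 0) :
    (q = 1 → ∃ c : k, a = C c * b) ∧ (q ≠ 1 → ∃ r : k[X], a * b ^ (q - 1) = r ^ q) := by
  refine ⟨fun hq => ?_, fun hq => ?_⟩
  · subst hq
    haveI : CharZero k := charZero_of_expChar_one' k
    have hdvd : b ∣ derivative b := hcop.symm.dvd_of_dvd_mul_left ⟨derivative a, by linear_combination -h⟩
    have hb' : derivative b = 0 := by
      by_contra hne
      have := Polynomial.degree_le_of_dvd hdvd hne
      exact absurd (degree_derivative_lt hb) (not_lt.2 this)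
    obtain ⟨c, hc⟩ : ∃ c : k, b = C c := ⟨_, eq_C_of_derivative_eq_zero hb'⟩
    have hc0 : c ≠ 0 := fun h0 => hb (by rw [hc, h0, map_zero])
    rw [hb', mul_zero, sub_zero, mul_eq_zero] at h
    obtain ⟨d, hd⟩ : ∃ d : k, a = C d := ⟨_, eq_C_of_derivative_eq_zero (h.resolve_right hb)⟩
    exact ⟨d / c, by rw [hc, hd, ← map_mul, div_mul_cancel₀ _ hc0]⟩
  · haveI hp : Fact q.Prime := ⟨(expChar_is_prime_or_one k q).resolve_right hq⟩
    haveI : CharP k q := by
      cases ‹ExpChar k q› with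
      | zero => exact absurd rfl hq
      | prime hp => infer_instance
    have h2 := hp.out.two_le
    have h0 : derivative (a * b ^ (q - 1)) = 0 := by
      rw [derivative_mul, derivative_pow, show q - 1 = (q - 2) + 1 by omega, Nat.add_sub_cancel, pow_succ,
        show ((q - 2 + 1 : ℕ) : k) = -1 by
          have : ((q - 2 + 1 : ℕ) : k) + 1 = 0 := by
            rw [← Nat.cast_succ, show (q - 2 + 1).succ = q by omega, CharP.cast_eq_zero]
          linear_combination this, map_neg, map_one]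
      linear_combination b ^ (q - 2) * h
    obtain ⟨g, hg⟩ : ∃ g, Polynomial.expand k q g = a * b ^ (q - 1) :=
      ⟨_, Polynomial.expand_contract q h0 (by omega)⟩
    refine ⟨g.map (frobeniusEquiv k q).symm.toRingHom, ?_⟩
    rw [← hg, ← Polynomial.map_frobenius_expand q, Polynomial.map_expand, Polynomial.map_map,
      show (frobenius k q).comp (frobeniusEquiv k q).symm.toRingHom = RingHom.id k from
        RingHom.ext fun c => frobenius_apply_frobeniusEquiv_symm k q c, Polynomial.map_id]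

theorem ffC_eq {C : Scheme.{u}} [C.Over (Spec (CommRingCat.of k))] [IsIntegral C] :
    CurveLuroth.ffC (C ↘ Spec (CommRingCat.of k)) = CommRingCat.ofHom (kK k C) := by
  apply Spec.map_injective
  rw [CurveLuroth.spec_ffC]
  have h1 := Scheme.toSpecΓ_naturality (C ↘ Spec (CommRingCat.of k))
  have h2 : (Spec (CommRingCat.of k)).toSpecΓ ≫ Spec.map (Scheme.ΓSpecIso (CommRingCat.of k)).inv = 𝟙 _ := by
    rw [toSpecΓ_SpecMap_ΓSpecIso_inv]
  rw [← Category.comp_id (C.fromSpecStalk _ ≫ _), ← h2, Category.assoc, reassoc_of% h1,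
    Scheme.fromSpecStalk_toSpecΓ_assoc, ← Spec.map_comp, ← Spec.map_comp]
  congr 1
  refine CommRingCat.hom_ext (RingHom.ext fun c => ?_)
  show C.presheaf.germ ⊤ _ _ ((C ↘ Spec (CommRingCat.of k)).appTop _) =
    C.presheaf.germ ⊤ _ _ ((C ↘ Spec (CommRingCat.of k)).appLE ⊤ ⊤ le_top _)
  rw [show (C ↘ Spec (CommRingCat.of k)).appLE ⊤ ⊤ le_top = (C ↘ Spec (CommRingCat.of k)).appTop from
    Scheme.Hom.appLE_eq_app _]
  rfl

attribute [local instance] algK

/-- The function field of the line is generated by one element. -/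
theorem exists_coordinate :
    letI := isIntegral k 1
    ∃ x : (P k 1).functionField, Function.Injective (Polynomial.eval₂RingHom (kK k (P k 1)) x) ∧
      ∀ g : (P k 1).functionField, ∃ a b : k[X], b ≠ 0 ∧ IsCoprime a b ∧
        g * b.eval₂ (kK k (P k 1)) x = a.eval₂ (kK k (P k 1)) x := by
  letI := isIntegral k 1
  obtain ⟨θ, hθ⟩ := CurveLuroth.exists_iso_line_field k
  rw [show CurveLuroth.ffC (CohB1.ProjSpace.toSpec 1 k) = CommRingCat.ofHom (kK k (P k 1)) from ffC_eq (C := P k 1)] at hθ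
  let e : (P k 1).functionField ≃+* RatFunc k := θ.commRingCatIsoToRingEquiv
  have hc : ∀ c, e (kK k (P k 1) c) = algebraMap k (RatFunc k) c := fun c =>
    RingHom.congr_fun (congrArg CommRingCat.Hom.hom hθ) c
  have hev : ∀ p : k[X], e (p.eval₂ (kK k (P k 1)) (e.symm RatFunc.X)) = algebraMap k[X] (RatFunc k) p := by
    intro p
    rw [← e.coe_toRingHom, Polynomial.hom_eval₂,
      show (e : _ →+* RatFunc k).comp (kK k (P k 1)) = algebraMap k (RatFunc k) from RingHom.ext hc, e.coe_toRingHom,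
      RingEquiv.apply_symm_apply, ← Polynomial.aeval_def, RatFunc.aeval_X_left_eq_algebraMap]
  refine ⟨e.symm RatFunc.X, fun p p' hp => ?_, fun g => ⟨(e g).num, (e g).denom, RatFunc.denom_ne_zero _,
    RatFunc.isCoprime_num_denom _, ?_⟩⟩
  · have := congrArg e hp
    simp only [Polynomial.coe_eval₂RingHom, hev] at this
    exact RatFunc.algebraMap_injective k this
  · apply e.injective
    rw [map_mul, hev, hev]
    exact (div_eq_iff (RatFunc.algebraMap_ne_zero (RatFunc.denom_ne_zero _))).1 (RatFunc.num_div_denom (e g)) |>.symm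

/-- A derivation of the function field of the line, regular everywhere and vanishing at one point. -/
theorem exists_line_derivation [IsAlgClosed k] (q : ℕ) [ExpChar k q] :
    letI := isIntegral k 1
    ∃ (D : (P k 1).functionField →+ (P k 1).functionField) (x₁ : P k 1),
      (∀ a b, D (a * b) = a * D b + b * D a) ∧ (∀ c, D (kK k (P k 1) c) = 0) ∧
      (∀ (x : P k 1) (v : (P k 1).functionField), v ∈ Reg x → D v ∈ Reg x) ∧
      (∀ v ∈ Reg x₁, D v ∈ Mx x₁) ∧
      (∀ g, D g = 0 → (q = 1 → ∃ c, g = kK k (P k 1) c) ∧ (q ≠ 1 → ∃ r, r ^ q = g)) := by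
  letI := isIntegral k 1
  haveI : IsProper ((P k 1) ↘ Spec (CommRingCat.of k)) := isProper k 1
  haveI : Smooth ((P k 1) ↘ Spec (CommRingCat.of k)) := CurveEmbed.smooth_toSpec 1 k
  haveI : Fact (𝟙 (P k 1) ≫ ((P k 1) ↘ Spec (CommRingCat.of k)) = (P k 1) ↘ Spec (CommRingCat.of k)) :=
    ⟨Category.id_comp _⟩
  let f := (P k 1) ↘ Spec (CommRingCat.of k)
  have hdim : topologicalKrullDim ↥(P k 1) = 1 := by simpa using S10829.result k 1
  have h00 : Module.finrank k (Coh.HH (P k 1) (Coh.structureModule (P k 1)) 0) = 1 :=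
    CurveCohLib.Clifford.finrank_h0_structure k
  have hg : Curv2.genus k (P k 1) = 0 := by
    haveI h : Subsingleton (Coh.HH (P k 1) (Coh.structureModule (P k 1)) (0 + 1)) :=
      PnCoh.subsingleton_HH_structureModule (ι := Fin (1 + 1)) (R := k) (PnCoh.isQCoh_structureModule _) 0
    exact Module.finrank_zero_of_subsingleton (R := k)
      (M := Coh.HH (P k 1) (Coh.structureModule _) (0 + 1))
  have hΩc : Coh.IsCoh (Omega.sheaf f) := CurveDeg.isCoh_of_isFinLocFree (CurveBC.isFinLocFree_omega k (P k 1))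
  have hΩ0 : Subsingleton (Coh.HH (P k 1) (Omega.sheaf f) 0) := by
    haveI := PnCoh.Finite.projSpace_finite_HH 1 k _ hΩc 0
    exact Module.finrank_zero_iff.1 ((CurveBC.canonical_invariants k (P k 1) hdim h00).1.trans hg)
  obtain ⟨n, δ, x₁, hspan, hvan, -, -⟩ := exists_derivations (𝟙 (P k 1))
    (Or.inr (QCoh.subsingleton_HH_of_iso ((Scheme.Modules.pullbackId (P k 1)).app (Omega.sheaf f)).symm 0 hΩ0))
  have hvan := hvan (QCoh.subsingleton_HH_of_iso ((Scheme.Modules.pullbackId (P k 1)).app (Omega.sheaf f)).symm 0 hΩ0)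
  obtain ⟨U₀, d, hU₀, -, hη₀, ⟨b₀⟩⟩ := exists_chart_at (k := k) (genericPoint (P k 1)) ⊤ trivial
  haveI : Nonempty U₀ := ⟨⟨_, hη₀⟩⟩
  haveI := functionField_isFractionRing_of_isAffineOpen (P k 1) U₀ hU₀
  have hd : 0 < d := by
    rcases Nat.eq_zero_or_pos d with rfl | hd
    · exfalso
      obtain ⟨W, hηW, e, he⟩ := InvX.exists_frame (CurveBC.isInvertible_omega k (P k 1) hdim h00) (genericPoint (P k 1))
      obtain ⟨_, ⟨V, hV, rfl⟩, hηV, hVle⟩ := (P k 1).isBasis_affineOpens.exists_subset_of_mem_open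
        (show genericPoint (P k 1) ∈ ((W ⊓ U₀ : (P k 1).Opens) : Set (P k 1)) from ⟨hηW, hη₀⟩) (W ⊓ U₀).2
      obtain ⟨bV, -⟩ := exists_res_basis (OmegaUniv.isQCoh_omega f) hU₀ hV (fun y hy => (hVle hy).2) b₀
      haveI : Subsingleton Γ(Omega.sheaf f, V) := bV.repr.toEquiv.subsingleton
      haveI : Nonempty V := ⟨⟨_, hηV⟩⟩
      exact one_ne_zero (he.coord_unique (fun y hy => (hVle hy).1) (Subsingleton.elim
        ((1 : Γ(P k 1, V)) • _) ((0 : Γ(P k 1, V)) • _)))
    · exact hd
  obtain ⟨p, a₀, hpa⟩ : ∃ (p : Fin n) (a : Γ(P k 1, U₀)), (δ p).d U₀ hη₀ a ≠ 0 := by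
    by_contra hcon
    push Not at hcon
    let alg := (kX f U₀).toAlgebra
    obtain ⟨δb, hδb⟩ := H44REq.exists_dual f hU₀ b₀ ⟨0, hd⟩
    let D' : FreeEval.Der f (φU (𝟙 (P k 1)) U₀ hη₀) :=
      ⟨(φU (𝟙 (P k 1)) U₀ hη₀).toAddMonoidHom.comp δb.toLinearMap.toAddMonoidHom, fun x y => by
          show φU (𝟙 (P k 1)) U₀ hη₀ (δb (x * y)) = _ * φU (𝟙 (P k 1)) U₀ hη₀ (δb y) + _ * φU (𝟙 (P k 1)) U₀ hη₀ (δb x)
          rw [δb.leibniz, smul_eq_mul, smul_eq_mul, map_add, map_mul, map_mul],
        fun r => by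
          show φU (𝟙 (P k 1)) U₀ hη₀ (δb (kX f U₀ r)) = 0
          rw [show δb (kX f U₀ r) = 0 from δb.map_algebraMap r, map_zero]⟩
    obtain ⟨c, hc⟩ := hspan U₀ hU₀ hη₀ d b₀ D'
    have hz : ∀ z : Γ(Omega.sheaf f, U₀), φU (𝟙 (P k 1)) U₀ hη₀ (b₀.coord ⟨0, hd⟩ z) = 0 := fun z => by
      induction z using H44REq.omega_induction f hU₀ with
      | h0 => rw [map_zero, map_zero]
      | hadd a a' ha ha' => rw [map_add, map_add, ha, ha', add_zero]
      | hd r z =>
        rw [map_smul, smul_eq_mul, map_mul, ← hδb z,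
          show φU (𝟙 (P k 1)) U₀ hη₀ (δb z) = D'.1 z from rfl, hc, FreeEval.comb_apply]
        simp [GDer.der, hcon]
    simpa using hz (b₀ ⟨0, hd⟩)
  let δp := δ p
  have hφ : ∀ {U : (P k 1).Opens} (h : genericPoint (P k 1) ∈ U) (a : Γ(P k 1, U)),
      φU (𝟙 (P k 1)) U h a = (P k 1).presheaf.germ U (genericPoint (P k 1)) h a := fun h a => rfl
  let ψ : Γ(P k 1, U₀) →+* TrivSqZeroExt (P k 1).functionField (P k 1).functionField :=
    { toFun := fun a => TrivSqZeroExt.inl ((P k 1).presheaf.germ U₀ _ hη₀ a) + TrivSqZeroExt.inr (δp.d U₀ hη₀ a)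
      map_one' := by
        have h1 := δp.leib U₀ hη₀ 1 1
        simp only [mul_one, map_one, one_mul, left_eq_add] at h1
        rw [map_one, h1, TrivSqZeroExt.inr_zero, add_zero, TrivSqZeroExt.inl_one]
      map_mul' := fun a b => by
        ext
        · simp
        · simp only [TrivSqZeroExt.snd_mul, TrivSqZeroExt.snd_add, TrivSqZeroExt.snd_inl, TrivSqZeroExt.snd_inr,
            TrivSqZeroExt.fst_add, TrivSqZeroExt.fst_inl, TrivSqZeroExt.fst_inr, zero_add, add_zero, δp.leib, hφ,
            smul_eq_mul, op_smul_eq_mul]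
          ring
      map_zero' := by simp
      map_add' := fun a b => by
        simp only [map_add, TrivSqZeroExt.inl_add, TrivSqZeroExt.inr_add]
        abel }
  have hψu : ∀ s : nonZeroDivisors Γ(P k 1, U₀), IsUnit (ψ s) := fun s => by
    rw [TrivSqZeroExt.isUnit_iff_isUnit_fst,
      show (ψ s.1).fst = (P k 1).presheaf.germ U₀ (genericPoint (P k 1)) hη₀ s.1 by simp [ψ]]
    exact IsLocalization.map_units (P k 1).functionField s
  let Λ : (P k 1).functionField →+* TrivSqZeroExt (P k 1).functionField (P k 1).functionField :=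
    IsLocalization.lift hψu
  have hΛ : ∀ a : Γ(P k 1, U₀), Λ ((P k 1).presheaf.germ U₀ _ hη₀ a) = ψ a := fun a => IsLocalization.lift_eq hψu a
  have hfst : ∀ g, (Λ g).fst = g := by
    have : (TrivSqZeroExt.fstHom (P k 1).functionField (P k 1).functionField (P k 1).functionField).toRingHom.comp Λ =
        RingHom.id _ := IsLocalization.ringHom_ext (nonZeroDivisors Γ(P k 1, U₀)) (RingHom.ext fun a => by
          show (Λ ((P k 1).presheaf.germ U₀ _ hη₀ a)).fst = _
          rw [hΛ]
          simp [ψ]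
          rfl)
    exact fun g => RingHom.congr_fun this g
  let D : (P k 1).functionField →+ (P k 1).functionField :=
    AddMonoidHom.mk' (fun g => TrivSqZeroExt.snd (Λ g)) fun a b => by
      show TrivSqZeroExt.snd (Λ (a + b)) = _
      rw [map_add, TrivSqZeroExt.snd_add]
  have hD0 : ∀ a, D ((P k 1).presheaf.germ U₀ _ hη₀ a) = δp.d U₀ hη₀ a := fun a => by
    show (Λ _).snd = _
    rw [hΛ]
    simp [ψ]
  have hleib : ∀ a b, D (a * b) = a * D b + b * D a := fun a b => by
    show (Λ (a * b)).snd = a * (Λ b).snd + b * (Λ a).snd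
    rw [map_mul, TrivSqZeroExt.snd_mul, hfst, hfst]
    simp only [smul_eq_mul, op_smul_eq_mul]
    ring
  have hDU : ∀ (U : (P k 1).Opens) (h : genericPoint (P k 1) ∈ U) (a : Γ(P k 1, U)),
      D ((P k 1).presheaf.germ U (genericPoint (P k 1)) h a) = δp.d U h a := by
    intro U h a
    let W := U ⊓ U₀
    have hW : genericPoint (P k 1) ∈ W := ⟨h, hη₀⟩
    rw [← (P k 1).presheaf.germ_res_apply (homOfLE (inf_le_left : W ≤ U)) _ hW a, ← δp.res inf_le_left hW h a]
    change D ((P k 1).presheaf.germ W (genericPoint (P k 1)) hW (resR (inf_le_left : W ≤ U) a)) = δp.d W hW (resR (inf_le_left : W ≤ U) a)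
    generalize resR (inf_le_left : W ≤ U) a = y
    obtain ⟨⟨u, v⟩, huv⟩ := IsLocalization.surj (nonZeroDivisors Γ(P k 1, U₀))
      ((P k 1).presheaf.germ W _ hW y)
    have hg : ∀ t : Γ(P k 1, U₀), (P k 1).presheaf.germ W _ hW (resR (inf_le_right : W ≤ U₀) t) =
        algebraMap Γ(P k 1, U₀) (P k 1).functionField t := fun t => (P k 1).presheaf.germ_res_apply _ _ hW t
    have he : y * resR (inf_le_right : W ≤ U₀) v.1 = resR (inf_le_right : W ≤ U₀) u :=
      AlgebraicGeometry.germ_injective_of_isIntegral (P k 1) _ hW (by rw [map_mul, hg, hg]; exact huv)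
    have h1 := congrArg (δp.d W hW) he
    rw [δp.leib, hφ, hφ, δp.res inf_le_right hW hη₀, δp.res inf_le_right hW hη₀, hg, ← hD0, ← hD0] at h1
    have h2 := congrArg D huv
    rw [hleib] at h2
    have hv : algebraMap Γ(P k 1, U₀) (P k 1).functionField v.1 ≠ 0 :=
      (IsLocalization.map_units (P k 1).functionField v).ne_zero
    exact mul_left_cancel₀ hv (add_left_cancel (h2.trans h1.symm))
  have hconst : ∀ c, D (kK k (P k 1) c) = 0 := fun c => by
    rw [show kK k (P k 1) c = (P k 1).presheaf.germ ⊤ _ trivial (kX f ⊤ c) from rfl, hDU ⊤ trivial, δp.const]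
  have hlift : ∀ (x : P k 1) (v : (P k 1).functionField), v ∈ Reg x → ∃ (U : (P k 1).Opens) (_ : x ∈ U)
      (h : genericPoint (P k 1) ∈ U) (a : Γ(P k 1, U)), v = (P k 1).presheaf.germ U (genericPoint (P k 1)) h a := by
    rintro x v ⟨m, rfl⟩
    obtain ⟨U, hx, a, rfl⟩ := (P k 1).presheaf.exists_germ_eq (x := x) m
    exact ⟨U, hx, ((genericPoint_spec (P k 1)).specializes (Set.mem_univ x)).mem_open U.2 hx, a,
      algebraMap_germ x hx _ a⟩
  refine ⟨D, x₁, hleib, hconst, fun x v hv => ?_, fun v hv => ?_, fun g hg => ?_⟩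
  · obtain ⟨U, hx, h, a, rfl⟩ := hlift x v hv
    rw [hDU]
    exact δp.reg U x hx h a
  · obtain ⟨U, hx, h, a, rfl⟩ := hlift x₁ v hv
    rw [hDU]
    exact hvan p U hx a
  obtain ⟨x, hxinj, hrep⟩ := exists_coordinate (k := k)
  let ev := Polynomial.eval₂RingHom (kK k (P k 1)) x
  have hpoly : ∀ F : k[X], D (ev F) = ev (derivative F) * D x := by
    intro F
    induction F using Polynomial.induction_on with
    | C c => simp [ev, hconst]
    | add a b ha hb => simp [map_add, ha, hb, add_mul]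
    | monomial m c ih =>
      rw [pow_succ, ← mul_assoc, map_mul, hleib, ih]
      simp only [ev, Polynomial.coe_eval₂RingHom, derivative_mul, derivative_X, mul_one, eval₂_add, eval₂_mul, eval₂_X]
      ring
  have hDx : D x ≠ 0 := fun h0 => by
    obtain ⟨a, b, hb, -, hab⟩ := hrep ((P k 1).presheaf.germ U₀ _ hη₀ a₀)
    have := congrArg D hab
    rw [hleib, show D (b.eval₂ (kK k (P k 1)) x) = 0 by rw [← Polynomial.coe_eval₂RingHom, hpoly, h0, mul_zero],
      show D (a.eval₂ (kK k (P k 1)) x) = 0 by rw [← Polynomial.coe_eval₂RingHom, hpoly, h0, mul_zero],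
      mul_zero, zero_add, hD0] at this
    exact hpa ((mul_eq_zero.1 this).resolve_left fun hb0 => hb (hxinj (hb0.trans (map_zero _).symm)))
  obtain ⟨a, b, hb, hcop, hab⟩ := hrep g
  have hb0 : ev b ≠ 0 := fun hb0 => hb (hxinj (hb0.trans (map_zero _).symm))
  have h1 : g * ev (derivative b) = ev (derivative a) := by
    have := congrArg D hab
    rw [hleib, hg, mul_zero, add_zero, ← Polynomial.coe_eval₂RingHom, hpoly, hpoly, ← mul_assoc] at this
    exact mul_right_cancel₀ hDx this
  have hW : derivative a * b - a * derivative b = 0 := hxinj (by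
    rw [map_zero, map_sub, map_mul, map_mul]
    show ev (derivative a) * ev b - ev a * ev (derivative b) = 0
    rw [← h1, show ev a = g * ev b from hab.symm]
    ring)
  refine ⟨fun hq => ?_, fun hq => ?_⟩
  · obtain ⟨c, hc⟩ := (exists_root_of_wronskian q hb hcop hW).1 hq
    exact ⟨c, mul_right_cancel₀ hb0 (hab.trans (by rw [hc]; simp [ev]))⟩
  · obtain ⟨r, hr⟩ := (exists_root_of_wronskian q hb hcop hW).2 hq
    refine ⟨ev r / ev b, ?_⟩
    rw [div_pow, div_eq_iff (pow_ne_zero _ hb0), ← map_pow, ← hr, map_mul, map_pow,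
      show ev a = g * ev b from hab.symm, mul_assoc, ← pow_succ',
      Nat.sub_add_cancel (expChar_pos k q)]

/-- Iterated roots of a non-constant function are bounded. -/
theorem exists_not_power (g : (letI := isIntegral k 1; (P k 1).functionField))
    (hg : letI := isIntegral k 1; ∀ c, g ≠ kK k (P k 1) c) :
    letI := isIntegral k 1
    ∃ N : ℕ, ∀ n, N ≤ n → ∀ r, r ^ n ≠ g := by
  letI := isIntegral k 1
  obtain ⟨x, hxinj, hrep⟩ := exists_coordinate (k := k)
  obtain ⟨a, b, hb, -, hab⟩ := hrep g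
  refine ⟨max a.natDegree b.natDegree + 1, fun n hn r hr => ?_⟩
  obtain ⟨c, d, hd, hcd, hr'⟩ := hrep r
  let ev := Polynomial.eval₂RingHom (kK k (P k 1)) x
  have hkey : a * d ^ n = b * c ^ n := hxinj (by
    rw [map_mul, map_mul, map_pow, map_pow]
    show ev a * ev d ^ n = ev b * ev c ^ n
    rw [show ev a = g * ev b from hab.symm, show ev c = r * ev d from hr'.symm, mul_pow, hr]
    ring)
  have ha0 : a ≠ 0 := fun ha => hg 0 (by
    rw [map_zero]
    refine (mul_eq_zero.1 (hab.trans (by rw [ha]; simp))).resolve_right fun hb0 => hb (hxinj (hb0.trans (map_zero _).symm)))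
  have h1 : c ^ n ∣ a := (hcd.pow (m := n) (n := n)).dvd_of_dvd_mul_right ⟨b, by linear_combination hkey⟩
  have h2 : d ^ n ∣ b := (hcd.pow (m := n) (n := n)).symm.dvd_of_dvd_mul_right ⟨a, by linear_combination -hkey⟩
  have hdeg : ∀ (u v : k[X]), v ≠ 0 → u ^ n ∣ v → v.natDegree < n → u.natDegree = 0 := fun u v hv h hlt => by
    have := Polynomial.natDegree_le_of_dvd h hv
    rw [Polynomial.natDegree_pow] at this
    by_contra hne
    exact absurd (lt_of_lt_of_le hlt (Nat.le_mul_of_pos_right n (Nat.pos_of_ne_zero hne))) (not_lt.2 this)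
  obtain ⟨c₀, rfl⟩ := Polynomial.natDegree_eq_zero.1 (hdeg c a ha0 h1 (by omega))
  obtain ⟨d₀, rfl⟩ := Polynomial.natDegree_eq_zero.1 (hdeg d b hb h2 (by omega))
  refine hg ((c₀ / d₀) ^ n) ?_
  rw [← hr, map_pow, map_div₀]
  congr 1
  rw [eq_div_iff (by simpa using hd)]
  simpa using hr'

variable [IsAlgClosed k] {X : Scheme.{u}} [X.Over (Spec (CommRingCat.of k))]

/-- A non-constant rational curve carries a nonzero derivation along it which vanishes at a point. -/
theorem exists_vanishing_derivation (γ : P k 1 ⟶ X)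
    [hγ : Fact (γ ≫ (X ↘ Spec (CommRingCat.of k)) = P k 1 ↘ Spec (CommRingCat.of k))]
    (hnc : ¬ ∃ x : X, Set.range γ.base ⊆ {x}) :
    letI := isIntegral k 1
    ∃ (D₀ : GDer k γ) (x₁ : P k 1), VanAt D₀ x₁ ∧ ∃ U h a, D₀.d U h a ≠ 0 := by
  letI := isIntegral k 1
  classical
  obtain ⟨q, hq⟩ : ∃ q, ExpChar k q := ⟨_, ringExpChar.expChar k⟩
  haveI := hq
  haveI : ExpChar (P k 1).functionField q := expChar_of_injective_ringHom (kK k (P k 1)).injective q
  obtain ⟨D, x₁, hleib, hDk, hDreg, hDvan, hker⟩ := exists_line_derivation (k := k) q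
  have hnon : ∃ (U : X.Opens) (h : Meets γ U) (a : Γ(X, U)), ∀ c, φU γ U h a ≠ kK k (P k 1) c := by
    by_contra hcon
    push Not at hcon
    refine hnc ⟨γ.base (genericPoint (P k 1)), ?_⟩
    rintro _ ⟨x, rfl⟩
    have hsp : γ.base (genericPoint (P k 1)) ⤳ γ.base x :=
      ((genericPoint_spec (P k 1)).specializes (Set.mem_univ x)).map γ.base.hom.2
    refine (Inseparable.eq ?_).symm
    refine hsp.antisymm ((specializes_iff_forall_open).2 fun O hO hηO => ?_)
    obtain ⟨_, ⟨U, hU, rfl⟩, hxU, -⟩ := X.isBasis_affineOpens.exists_subset_of_mem_open (Set.mem_univ (γ.base x)) isOpen_univ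
    obtain ⟨a, haO, hηa⟩ := hU.exists_basicOpen_le (V := ⟨O, hO⟩) ⟨_, hηO⟩ (meets_of_mem γ hxU)
    refine haO ?_
    obtain ⟨c, hc⟩ := hcon U (meets_of_mem γ hxU) a
    have h1 : X.basicOpen a ≤ U := X.basicOpen_le a
    replace hηa : genericPoint (P k 1) ∈ γ ⁻¹ᵁ X.basicOpen a := hηa
    show x ∈ γ ⁻¹ᵁ X.basicOpen a
    rw [Scheme.preimage_basicOpen] at hηa ⊢
    rw [Scheme.mem_basicOpen _ _ _ (show x ∈ γ ⁻¹ᵁ U from hxU)]
    rw [Scheme.mem_basicOpen _ _ _ (show genericPoint (P k 1) ∈ γ ⁻¹ᵁ U from meets_of_mem γ hxU)] at hηa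
    have hc0 : c ≠ 0 := fun h0 => hηa.ne_zero (show φU γ U (meets_of_mem γ hxU) a = 0 by rw [hc, h0, map_zero])
    have : (P k 1).presheaf.germ (γ ⁻¹ᵁ U) x hxU (γ.app U a) =
        (P k 1).presheaf.germ ⊤ x trivial (kX ((P k 1) ↘ Spec (CommRingCat.of k)) ⊤ c) :=
      IsFractionRing.injective _ (P k 1).functionField
        (((algebraMap_germ x hxU (meets_of_mem γ hxU) _).trans hc).trans (algebraMap_germ x (V := ⊤) trivial trivial _).symm)
    rw [this]
    exact (((Ne.isUnit hc0).map (kX ((P k 1) ↘ Spec (CommRingCat.of k)) ⊤)).map _)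
  let S : ℕ → Prop := fun e => ∀ (U : X.Opens) (h : Meets γ U) (a : Γ(X, U)),
    ∃ r, r ^ (q ^ e) = φU γ U h a
  have hS0 : S 0 := fun U h a => ⟨φU γ U h a, by rw [pow_zero, pow_one]⟩
  obtain ⟨e, hSe, hSn⟩ : ∃ e, S e ∧ (q = 1 ∨ ¬ S (e + 1)) := by
    rcases eq_or_ne q 1 with h1 | h1
    · exact ⟨0, hS0, Or.inl h1⟩
    obtain ⟨U, h, a, ha⟩ := hnon
    obtain ⟨N, hN⟩ := exists_not_power _ ha
    have hb : ∃ e, ¬ S e := by
      refine ⟨N, fun hS => ?_⟩
      obtain ⟨r, hr⟩ := hS U h a
      have hq2 : 1 < q := lt_of_le_of_ne (expChar_pos k q) (Ne.symm h1)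
      exact hN _ (Nat.lt_pow_self hq2).le r hr
    have h0 : Nat.find hb ≠ 0 := fun h => Nat.find_spec hb (h.symm ▸ hS0)
    refine ⟨Nat.find hb - 1, not_not.1 (Nat.find_min hb (by omega)), Or.inr ?_⟩
    rw [show Nat.find hb - 1 + 1 = Nat.find hb by omega]
    exact Nat.find_spec hb
  let Fr := iterateFrobenius (P k 1).functionField q e
  have hFr : ∀ r, Fr r = r ^ (q ^ e) := fun r => iterateFrobenius_def q e r
  have hinj : Function.Injective Fr := Fr.injective
  choose rt hrt using hSe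
  simp only [← hFr] at hrt
  haveI : Smooth ((P k 1) ↘ Spec (CommRingCat.of k)) := CurveEmbed.smooth_toSpec 1 k
  haveI : IsProper ((P k 1) ↘ Spec (CommRingCat.of k)) := isProper k 1
  have hN := KodV43.isNormalScheme_of_smooth (k := k) (X := P k 1)
  have hrtReg : ∀ (U : X.Opens) (x : P k 1) (_ : γ.base x ∈ U) (h : Meets γ U) (a : Γ(X, U)),
      rt U h a ∈ Reg x := fun U x hx h a => by
    haveI := (hN x).2
    obtain ⟨m, hm⟩ := φU_mem_Reg γ hx h a
    have : IsIntegral ((P k 1).presheaf.stalk x) (rt U h a) := by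
      refine IsIntegral.of_pow (pow_pos (expChar_pos k q) e) ?_
      rw [← hFr, hrt, ← hm]
      exact isIntegral_algebraMap
    exact IsIntegrallyClosed.algebraMap_eq_of_integral this
  refine ⟨{
    d := fun U h => AddMonoidHom.mk' (fun a => Fr (D (rt U h a))) fun a b => by
      rw [show rt U h (a + b) = rt U h a + rt U h b from hinj (by simp only [map_add, hrt]), map_add, map_add]
    leib := fun U h a b => by
      show Fr (D (rt U h (a * b))) = φU γ U h a * Fr (D (rt U h b)) + φU γ U h b * Fr (D (rt U h a))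
      rw [show rt U h (a * b) = rt U h a * rt U h b from hinj (by simp only [map_mul, hrt]), hleib, map_add, map_mul,
        map_mul, hrt, hrt]
    const := fun U h c => by
      show Fr (D (rt U h _)) = 0
      obtain ⟨c', hc'⟩ := IsAlgClosed.exists_pow_nat_eq (k := k) c (pow_pos (expChar_pos k q) e)
      rw [show rt U h (kX (X ↘ Spec (CommRingCat.of k)) U c) = kK k (P k 1) c' from hinj (by
        rw [hrt, φU_kX, hFr, ← map_pow, hc']), hDk, map_zero]
    res := fun {U V} i hV hU a => by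
      show Fr (D (rt V hV (resR i a))) = Fr (D (rt U hU a))
      rw [show rt V hV (resR i a) = rt U hU a from hinj (by rw [hrt, hrt, φU_res γ hV i hU])]
    reg := fun U x hx h a => by
      show Fr _ ∈ _
      rw [hFr]
      exact Subring.pow_mem _ (hDreg x _ (hrtReg U x hx h a)) _ }, x₁, fun U hx a => ?_, ?_⟩
  · show Fr _ ∈ _
    rw [hFr]
    obtain ⟨j, hj⟩ := Nat.exists_eq_succ_of_ne_zero (pow_pos (expChar_pos k q) e).ne'
    rw [hj, pow_succ]
    exact mul_mem_Mx (Subring.pow_mem _ (hDreg x₁ _ (hrtReg U x₁ hx _ a)) j) (hDvan _ (hrtReg U x₁ hx _ a))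
  · by_contra hcon
    push Not at hcon
    have hz : ∀ (U : X.Opens) (h : Meets γ U) (a : Γ(X, U)), D (rt U h a) = 0 := fun U h a =>
      hinj ((hcon U h a).trans (map_zero _).symm)
    rcases hSn with h1 | hne
    · obtain ⟨U, h, a, ha⟩ := hnon
      obtain ⟨c, hc⟩ := (hker _ (hz U h a)).1 h1
      refine ha (c ^ (q ^ e)) ?_
      rw [← hrt U h a, hc, hFr, map_pow]
    · rcases eq_or_ne q 1 with h1 | h1
      · exact hne fun U h a => ⟨φU γ U h a, by rw [h1, one_pow, pow_one]⟩
      · exact hne fun U h a => by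
          obtain ⟨r, hr⟩ := (hker _ (hz U h a)).2 h1
          exact ⟨r, by rw [← hrt U h a, ← hr, hFr, ← pow_mul, ← pow_succ']⟩

end Groth.Agent.Curves16.Free
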