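import Groth.Agent.Curves16.FreeData

/-!
# Vanishing of tensor forms on varieties with free rational curves
-/

universe u

open CategoryTheory CategoryTheory.Limits AlgebraicGeometry TopologicalSpace Opposite

set_option linter.style.haveILetI false
set_option linter.unusedSectionVars false
set_option backward.isDefEq.respectTransparency false
set_option backward.isDefEq.respectTransparency.types false

noncomputable section

namespace Groth.Agent.Curves16.Free

open Groth.Agent Groth.Agent.AModX Groth.Agent.Pn90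
open Groth.Agent.H44REq (kX)

variable {k : Type u} [Field k] [IsAlgClosed k] {X : Scheme.{u}} [X.Over (Spec (CommRingCat.of k))]
  [IsIntegral X] [Smooth (X ↘ Spec (CommRingCat.of k))] [QuasiSeparated (X ↘ Spec (CommRingCat.of k))]

omit [IsAlgClosed k] [IsIntegral X] [Smooth (X ↘ Spec (CommRingCat.of k))] in
theorem lin_combo_mem_Mx {C : Scheme.{u}} [C.Over (Spec (CommRingCat.of k))] [IsIntegral C] {γ : C ⟶ X}
    [hγ : Fact (γ ≫ (X ↘ Spec (CommRingCat.of k)) = C ↘ Spec (CommRingCat.of k))]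
    {n : ℕ} (δ : Fin n → GDer k γ) {x : C} (hδ : ∀ p, VanAt (δ p) x) (t : Fin n → k) {U : X.Opens}
    (hU : IsAffineOpen U) (hx : γ.base x ∈ U) (z : Γ(Omega.sheaf (X ↘ Spec (CommRingCat.of k)), U)) :
    (FreeEval.lin _ _ hU (combo δ t U (meets_of_mem γ hx))).1 z ∈ Mx x := by
  rw [combo, FreeEval.lin_comb]
  exact AddSubgroup.sum_mem _ fun p _ => mul_mem_Mx (kK_mem_Reg x _) (lin_mem_Mx (hδ p) hU hx z)

theorem subsingleton_h0_of_forall {M : X.Modules} (h : ∀ s : Γ(M, ⊤), s = 0) : Subsingleton (Coh.HH X M 0) :=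
  (Sheaf.H.equiv₀ (Coh.toAb M) isTerminalTop).toEquiv.subsingleton_congr.2
    ⟨fun a b => (h a).trans (h b).symm⟩

/-- A very free rational curve kills all tensor forms. -/
theorem subsingleton_h0_of_veryFree (γ : P k 1 ⟶ X)
    (hγ : γ ≫ (X ↘ Spec (CommRingCat.of k)) = P k 1 ↘ Spec (CommRingCat.of k))
    (hvfree : Subsingleton (Coh.HH (P k 1) ((Scheme.Modules.pullback γ).obj (Omega.sheaf (X ↘ Spec (CommRingCat.of k)))) 0))
    {i : ℕ} (hi : 0 < i) {L : X.Modules} (hL : ExtPow.IsExtPow i (Omega.sheaf (X ↘ Spec (CommRingCat.of k))) L)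
    {m : ℕ} (hm : 0 < m) : Subsingleton (Coh.HH X (CohB1.tensorPow L m) 0) := by
  letI := isIntegral k 1
  haveI := isProper k 1
  haveI : Fact (γ ≫ (X ↘ Spec (CommRingCat.of k)) = P k 1 ↘ Spec (CommRingCat.of k)) := ⟨hγ⟩
  obtain ⟨n, δ, x₀, hspan, hvan, -, -⟩ := exists_derivations γ (Or.inr hvfree)
  refine subsingleton_h0_of_forall fun s => eq_zero_of_derivations δ hL s hm hspan x₀ fun U hU hx c v => ?_
  exact det_mem_Mx (fun q p => lin_combo_mem_Reg δ _ hU hx _ _) ⟨0, hi⟩
    fun q => lin_combo_mem_Mx δ (hvan hvfree) (c ⟨0, hi⟩) hU hx (v q)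

end Groth.Agent.Curves16.Free
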