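import Groth.Agent.Curves16.RootClosed
import Groth.Agent.QCoh.DevissageP
import Groth.Agent.QCoh.Support
import Groth.Agent.QCoh.HHExact
import Groth.Agent.PnCoh.PushNat
import Groth.Agent.PnCoh.CechNat
import Groth.Agent.CurveCohLib.Proper
import Groth.Agent.Snapper.DimVanish
import Groth.Agent.SuppFamLib.Exact
import Groth.Agent.S0002
import Mathlib.FieldTheory.Perfect

/-!
# Frobenius on the cohomology of a curve and of its normalisation
-/

noncomputable section

set_option autoImplicit false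
set_option linter.style.haveILetI false
set_option linter.unusedSectionVars false
set_option backward.isDefEq.respectTransparency false
set_option backward.isDefEq.respectTransparency.types false

universe u

open CategoryTheory CategoryTheory.Limits AlgebraicGeometry TopologicalSpace Opposite CategoryTheory.Abelian

namespace Groth.Agent.Curves16

open Groth.Agent

/-- An injective `p`-semilinear endomorphism of a finite-dimensional space over a perfect field is bijective. -/
theorem bijective_of_semilinear {k V : Type*} [Field k] (p : ℕ) [ExpChar k p] [PerfectRing k p] [AddCommGroup V]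
    [Module k V] [Module.Finite k V] (f : V →+ V) (hinj : Function.Injective f)
    (hf : ∀ (c : k) (v : V), f (c • v) = c ^ p • f v) : Function.Bijective f := by
  refine ⟨hinj, fun v => ?_⟩
  let b := Module.finBasis k V
  have hli : LinearIndependent k (fun i => f (b i)) := by
    refine Fintype.linearIndependent_iff.2 fun g hg i => ?_
    choose d hd using fun i => (bijective_frobenius k p).2 (g i)
    have h0 : f (∑ i, d i • b i) = 0 := by
      rw [map_sum, ← hg]
      exact Finset.sum_congr rfl fun i _ => by rw [hf, ← hd i]; rfl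
    have h1 : ∑ i, d i • b i = 0 := hinj (h0.trans (map_zero f).symm)
    have h2 := Fintype.linearIndependent_iff.1 b.linearIndependent d h1 i
    rw [← hd i, h2]
    exact map_zero (frobenius k p)
  have hsp := hli.span_eq_top_of_card_eq_finrank' (Module.finrank_eq_card_basis b).symm
  obtain ⟨c, hc⟩ := (Submodule.mem_span_range_iff_exists_fun k).1 (hsp.ge (Submodule.mem_top (x := v)))
  choose d hd using fun i => (bijective_frobenius k p).2 (c i)
  refine ⟨∑ i, d i • b i, ?_⟩
  rw [map_sum, ← hc]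
  exact Finset.sum_congr rfl fun i _ => by rw [hf, ← hd i]; rfl

section Exact

variable {X : TopCat.{u}} {T : ShortComplex (CohTop.Ab X)}

theorem exists_of_map_eq_zero (hT : T.ShortExact) (n : ℕ) {x : CohTop.H T.X₁ (n + 1)}
    (hx : Sheaf.H.map T.f (n + 1) x = 0) : ∃ y, QCoh.Ab.connecting hT n y = x :=
  Ext.covariant_sequence_exact₁ _ hT x hx rfl

theorem map_connecting (hT : T.ShortExact) (n : ℕ) (y : CohTop.H T.X₃ n) :
    Sheaf.H.map T.f (n + 1) (QCoh.Ab.connecting hT n y) = 0 := by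
  show ((y.comp hT.extClass rfl).comp (Ext.mk₀ T.f) (add_zero _)) = 0
  rw [Ext.comp_assoc_of_third_deg_zero]
  exact (congrArg (fun z => Ext.comp y z _) hT.extClass_comp).trans (Ext.comp_zero _ _ _ _ _)

theorem exists_of_map_g_eq_zero (hT : T.ShortExact) (n : ℕ) {x : CohTop.H T.X₂ n}
    (hx : Sheaf.H.map T.g n x = 0) : ∃ y, Sheaf.H.map T.f n y = x :=
  Ext.covariant_sequence_exact₂ _ hT x hx

/-- The five lemma for the part of the long exact sequence from `H⁰` to `H¹`. -/
theorem bijective_iff (hT : T.ShortExact) (α : T ⟶ T) (h3 : Subsingleton (CohTop.H T.X₃ 1))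
    (h2 : Function.Bijective (Sheaf.H.map α.τ₂ 0)) (hc : Function.Bijective (Sheaf.H.map α.τ₃ 0)) :
    Function.Bijective (Sheaf.H.map α.τ₁ 1) ↔ Function.Bijective (Sheaf.H.map α.τ₂ 1) := by
  have sq1 : ∀ x, Sheaf.H.map T.f 1 (Sheaf.H.map α.τ₁ 1 x) = Sheaf.H.map α.τ₂ 1 (Sheaf.H.map T.f 1 x) := fun x => by
    rw [← Sheaf.H.map_comp_apply, ← Sheaf.H.map_comp_apply, α.comm₁₂]
  have sq0 : ∀ x, Sheaf.H.map T.g 0 (Sheaf.H.map α.τ₂ 0 x) = Sheaf.H.map α.τ₃ 0 (Sheaf.H.map T.g 0 x) := fun x => by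
    rw [← Sheaf.H.map_comp_apply, ← Sheaf.H.map_comp_apply, α.comm₂₃]
  have sqd : ∀ y, Sheaf.H.map α.τ₁ 1 (QCoh.Ab.connecting hT 0 y) =
      QCoh.Ab.connecting hT 0 (Sheaf.H.map α.τ₃ 0 y) := fun y => PnCoh.connecting_natural hT α 0 y
  have hf : Function.Surjective (Sheaf.H.map T.f 1) := fun x =>
    exists_of_map_g_eq_zero hT 1 (Subsingleton.elim _ _)
  constructor
  · intro h
    refine ⟨(injective_iff_map_eq_zero _).2 fun x hx => ?_, fun y => ?_⟩
    · obtain ⟨w, rfl⟩ := hf x
      obtain ⟨q, hq⟩ := exists_of_map_eq_zero hT 0 ((sq1 w).trans hx)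
      obtain ⟨q', rfl⟩ := hc.2 q
      rw [← sqd] at hq
      rw [← h.1 hq]
      exact map_connecting hT 0 q'
    · obtain ⟨w, rfl⟩ := hf y
      obtain ⟨w', rfl⟩ := h.2 w
      exact ⟨_, (sq1 w').symm⟩
  · intro h
    refine ⟨(injective_iff_map_eq_zero _).2 fun x hx => ?_, fun y => ?_⟩
    · have h1 : Sheaf.H.map T.f 1 x = 0 := h.1 (by rw [← sq1, hx, map_zero, map_zero])
      obtain ⟨q, rfl⟩ := exists_of_map_eq_zero hT 0 h1
      rw [sqd, QCoh.Ab.connecting_eq_zero_iff] at hx
      obtain ⟨z, hz⟩ := hx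
      obtain ⟨z', rfl⟩ := h2.2 z
      rw [sq0] at hz
      exact (QCoh.Ab.connecting_eq_zero_iff hT 0 q).2 ⟨z', hc.1 hz⟩
    · obtain ⟨v, hv⟩ := h.2 (Sheaf.H.map T.f 1 y)
      obtain ⟨w, rfl⟩ := hf v
      rw [← sq1] at hv
      obtain ⟨q, hq⟩ := exists_of_map_eq_zero hT 0 (x := y - Sheaf.H.map α.τ₁ 1 w) (by rw [map_sub, hv, sub_self])
      obtain ⟨q', rfl⟩ := hc.2 q
      refine ⟨w + QCoh.Ab.connecting hT 0 q', ?_⟩
      rw [map_add, sqd, hq, add_sub_cancel]

end Exact

theorem injective_H0 {X : TopCat.{u}} {A B : CohTop.Ab X} (φ : A ⟶ B) [Mono φ] :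
    Function.Injective (Sheaf.H.map φ 0) := fun a b hab => by
  apply (Sheaf.H.equiv₀ A isTerminalTop).injective
  apply SuppFamLib.app_injective_of_mono φ ⊤
  exact ((Sheaf.H.equiv₀_naturality isTerminalTop φ a).symm.symm).trans
    ((congrArg _ hab).trans (Sheaf.H.equiv₀_naturality isTerminalTop φ b).symm)

theorem bijective_push_H0 {X Y : TopCat.{u}} (f : Y ⟶ X) {F : CohTop.Ab Y} (φ : F ⟶ F)
    (h : Function.Bijective (Sheaf.H.map φ 0)) : Function.Bijective (Sheaf.H.map ((CohTop.push f).map φ) 0) := by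
  let e := PnCoh.pushH0 f F
  have he : (Sheaf.H.map ((CohTop.push f).map φ) 0 : _ → _) ∘ e = e ∘ Sheaf.H.map φ 0 :=
    funext fun x => (PnCoh.pushH0_natural f φ x).symm
  refine (Function.Bijective.of_comp_iff _ e.bijective).1 ?_
  rw [he]
  exact e.bijective.comp h

theorem bijective_push_H1 {X Y : Scheme.{u}} (π : Y ⟶ X) [IsAffineHom π]
    (φ : Coh.toAb (Coh.structureModule Y) ⟶ Coh.toAb (Coh.structureModule Y)) :
    Function.Bijective (Sheaf.H.map ((CohTop.push π.base).map φ) 1) ↔ Function.Bijective (Sheaf.H.map φ 1) := by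
  have hb : QCoh.Ab.PreimageBasis π.base (QCoh.stdCovers Y) := fun V y hy => by
    obtain ⟨_, ⟨W, hW, rfl⟩, hyW, hWV⟩ := X.isBasis_affineOpens.exists_subset_of_mem_open hy V.2
    exact ⟨W, hWV, hyW, hW.preimage π⟩
  obtain ⟨e, he⟩ := PnCoh.H_push_equiv_natural π.base (QCoh.stdCovers Y) hb _
    (QCoh.stdCovers_acyclic (QCoh.isQCoh_structureModule (X := Y))) 1
  have hcomm : (Sheaf.H.map ((CohTop.push π.base).map φ) 1 : _ → _) ∘ e = e ∘ Sheaf.H.map φ 1 :=
    funext fun x => (he φ x).symm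
  rw [← Function.Bijective.of_comp_iff _ e.bijective, hcomm, Function.Bijective.of_comp_iff' e.bijective]

variable {k : Type u} [Field k] (p : ℕ) [Fact p.Prime] [CharP k p] {X : Scheme.{u}}
  [X.Over (Spec (CommRingCat.of k))]

theorem frob_smul (φ : Coh.toAb (Coh.structureModule X) ⟶ Coh.toAb (Coh.structureModule X))
    (hφ : ∀ (V : X.Opens) (s : Γ(X, V)), (φ.hom.app (op V)).hom s = s ^ p) (a : k) :
    Coh.smulAb (Coh.structureModule X) (Coh.toGlobal (X ↘ Spec (CommRingCat.of k)) a) ≫ φ =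
      φ ≫ Coh.smulAb (Coh.structureModule X) (Coh.toGlobal (X ↘ Spec (CommRingCat.of k)) (a ^ p)) := by
  ext U s
  show (φ.hom.app U).hom ((show Γ(X, U.unop) from
      Coh.resTop X U (Coh.toGlobal (X ↘ Spec (CommRingCat.of k)) a)) * (show Γ(X, U.unop) from s)) =
    (show Γ(X, U.unop) from Coh.resTop X U (Coh.toGlobal (X ↘ Spec (CommRingCat.of k)) (a ^ p))) *
      (show Γ(X, U.unop) from (φ.hom.app U).hom s)
  rw [hφ U.unop, hφ U.unop, mul_pow, map_pow, map_pow]

theorem injective_frob [IsReduced X] (φ : Coh.toAb (Coh.structureModule X) ⟶ Coh.toAb (Coh.structureModule X))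
    (hφ : ∀ (V : X.Opens) (s : Γ(X, V)), (φ.hom.app (op V)).hom s = s ^ p) :
    Function.Injective (Sheaf.H.map φ 0) := by
  intro a b hab
  let e := Sheaf.H.equiv₀ (Coh.toAb (Coh.structureModule X)) isTerminalTop
  have h0 : Sheaf.H.map φ 0 (a - b) = 0 := by rw [map_sub, hab, sub_self]
  let y : Γ(X, ⊤) := e (a - b)
  have h1 : (φ.hom.app (op ⊤)).hom (e (a - b)) = 0 := by
    refine (Sheaf.H.equiv₀_naturality isTerminalTop φ (a - b)).trans ?_
    exact (congrArg e h0).trans (map_zero e)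
  have hy : y ^ p = 0 := (hφ ⊤ y).symm.trans h1
  exact sub_eq_zero.1 (e.injective ((eq_zero_of_pow_eq_zero hy : y = 0).trans (map_zero e).symm))

set_option maxHeartbeats 1600000 in
theorem bijective_frob [IsAlgClosed k] [IsProper (X ↘ Spec (CommRingCat.of k))] [IsReduced X]
    (φ : Coh.toAb (Coh.structureModule X) ⟶ Coh.toAb (Coh.structureModule X))
    (hφ : ∀ (V : X.Opens) (s : Γ(X, V)), (φ.hom.app (op V)).hom s = s ^ p) :
    Function.Bijective (Sheaf.H.map φ 0) := by
  haveI : ExpChar k p := ExpChar.prime (Fact.out : p.Prime)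
  haveI := CurveCohLib.isNoetherian_of_proper (k := k) (X := X)
  haveI := CurveCohLib.finite_HH (k := k) (QCoh.isCoh_structureModule' (X := X)) 0
  refine bijective_of_semilinear (k := k) p (Sheaf.H.map φ 0) (injective_frob p φ hφ) fun a x => ?_
  exact (Sheaf.H.map_comp_apply (f := Coh.smulAb (Coh.structureModule X) (Coh.toGlobal (X ↘ Spec (CommRingCat.of k)) a))
    (g := φ) (n := 0) x).symm.trans ((congrArg (fun g => Sheaf.H.map g 0 x) (frob_smul p φ hφ a)).trans
    (Sheaf.H.map_comp_apply (f := φ) (g := Coh.smulAb (Coh.structureModule X) (Coh.toGlobal (X ↘ Spec (CommRingCat.of k)) (a ^ p))) (n := 0) x))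

variable [IsAlgClosed k] [IsProper (X ↘ Spec (CommRingCat.of k))] [IsReduced X] {Y : Scheme.{u}} [IsReduced Y]
  (π : Y ⟶ X) [IsFinite π] (U : X.Opens) (hU : Dense (U : Set X)) (hU' : Dense ((π ⁻¹ᵁ U : Y.Opens) : Set Y))
  [IsIso (π ∣_ U)] (hdim : topologicalKrullDim X ≤ 1)
  (hcl : ∀ x, x ∉ U → IsClosed ({x} : Set X)) (hroot : ∀ x, x ∉ U → RootClosed p (X.presheaf.stalk x))

set_option maxHeartbeats 1600000 in
include k hU hU' hcl hroot in
/-- Frobenius on `H¹` is bijective on a curve iff it is on a birational finite cover. -/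
theorem bijective_frob_iff
    (φ : Coh.toAb (Coh.structureModule X) ⟶ Coh.toAb (Coh.structureModule X))
    (hφ : ∀ (V : X.Opens) (s : Γ(X, V)), (φ.hom.app (op V)).hom s = s ^ p)
    (φ' : Coh.toAb (Coh.structureModule Y) ⟶ Coh.toAb (Coh.structureModule Y))
    (hφ' : ∀ (V : Y.Opens) (s : Γ(Y, V)), (φ'.hom.app (op V)).hom s = s ^ p) :
    Function.Bijective (Sheaf.H.map φ 1) ↔ Function.Bijective (Sheaf.H.map φ' 1) := by
  haveI : ExpChar k p := ExpChar.prime (Fact.out : p.Prime)
  haveI := CurveCohLib.isNoetherian_of_proper (k := k) (X := X)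
  haveI : X.IsSeparated := ⟨by
    rw [← terminal.comp_from (X ↘ Spec (CommRingCat.of k))]
    infer_instance⟩
  letI : Y.Over (Spec (CommRingCat.of k)) := ⟨π ≫ (X ↘ Spec (CommRingCat.of k))⟩
  haveI : IsProper (Y ↘ Spec (CommRingCat.of k)) :=
    (inferInstance : IsProper (π ≫ (X ↘ Spec (CommRingCat.of k))))
  haveI := CurveCohLib.isNoetherian_of_proper (k := k) (X := Y)
  let P : X.Modules := (Coh.push π).obj (Coh.structureModule Y)
  let u : Coh.structureModule X ⟶ P := SheafOfModules.unitToPushforwardObjUnit π.toRingCatSheafHom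
  have hu : ∀ (V : X.Opens) (a : Γ(X, V)), u.app V a = π.app V a := fun V a => rfl
  haveI : Mono u := ⟨fun {Z} g h e => QCoh.hom_ext_app fun V z =>
    app_injective π U hU V (congr(($e).app V z) : _)⟩
  have hOc : Coh.IsCoh (Coh.structureModule X) := QCoh.isCoh_structureModule'
  have hPc : Coh.IsCoh P := QCoh.isCoh_pushforward_finite π QCoh.isCoh_structureModule'
  let Q := cokernel u
  have hQc : Coh.IsCoh Q := QCoh.isCoh_cokernel hOc.1 hPc u
  have hS : (ShortComplex.mk u (cokernel.π u) (cokernel.condition u)).ShortExact :=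
    { exact := ShortComplex.exact_cokernel u, mono_f := inferInstance, epi_g := inferInstance }
  let T := (ShortComplex.mk u (cokernel.π u) (cokernel.condition u)).map (QCoh.toAbFunctor X)
  have hT : T.ShortExact := QCoh.toAb_shortExact hS
  haveI := hT.epi_g
  let ψ : T.X₂ ⟶ T.X₂ := (CohTop.push π.base).map φ'
  have hψ : ∀ (V : X.Opens) (s : Γ(Y, π ⁻¹ᵁ V)), (ψ.hom.app (op V)).hom s = s ^ p := fun V s => hφ' (π ⁻¹ᵁ V) s
  have c12 : T.f ≫ ψ = φ ≫ T.f := by
    ext V s
    show (ψ.hom.app V).hom (π.app V.unop s) = π.app V.unop ((φ.hom.app V).hom s)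
    rw [hψ V.unop, hφ V.unop, map_pow]
  have w : T.f ≫ ψ ≫ T.g = 0 := by rw [← Category.assoc, c12, Category.assoc, T.zero, comp_zero]
  let χ : T.X₃ ⟶ T.X₃ := hT.exact.desc (ψ ≫ T.g) w
  have c23 : T.g ≫ χ = ψ ≫ T.g := hT.exact.g_desc _ _
  let α : T ⟶ T := { τ₁ := φ, τ₂ := ψ, τ₃ := χ, comm₁₂ := c12.symm, comm₂₃ := c23.symm }
  have hQsupp : CohB1.support Q ⊆ (U : Set X)ᶜ := fun x hx hxU => hx (by
    refine subsingleton_of_forall_eq 0 fun z => ?_
    obtain ⟨W₀, hxW₀, z, rfl⟩ := TopCat.Presheaf.exists_germ_eq Q.presheaf z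
    obtain ⟨_, ⟨W, hW, rfl⟩, hxW, hWle⟩ := X.isBasis_affineOpens.exists_subset_of_mem_open
      (show x ∈ W₀ ⊓ U from ⟨hxW₀, hxU⟩) (W₀ ⊓ U).2
    have hWle' : W ≤ W₀ ⊓ U := hWle
    obtain ⟨v, hv⟩ := QCoh.app_surjective_of_epi hPc.1 hQc.1 (cokernel.π u) hW
      (AModX.res Q (hWle'.trans inf_le_left) z)
    obtain ⟨a, rfl⟩ := (bijective_app_of_le π U (hWle'.trans inf_le_right)).2 v
    rw [← InvX.germ_res' (hWle'.trans inf_le_left) hxW, ← hv,
      show (cokernel.π u).app W (π.app W a) = 0 from congr(($(cokernel.condition u)).app W a), map_zero])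
  let Z : Closeds X := ⟨(U : Set X)ᶜ, U.2.isClosed_compl⟩
  have hZ : topologicalKrullDim ↥(Z : Set X) < ((1 : ℕ) : WithBot ℕ∞) := by
    have hfin := CurveCohLib.finite_of_closedPoints Z.2 fun x hx => hcl x hx
    haveI : Finite ↥(Z : Set X) := hfin.to_subtype
    haveI : T1Space ↥(Z : Set X) := ⟨fun z => by
      have := (hcl z.1 z.2).preimage (continuous_subtype_val (p := fun x => x ∈ (Z : Set X)))
      simpa [Set.preimage, ← Subtype.ext_iff] using this⟩
    haveI : DiscreteTopology ↥(Z : Set X) := inferInstance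
    exact lt_of_le_of_lt (by
      exact_mod_cast (topologicalKrullDim_zero_of_discreteTopology ↥(Z : Set X))) (by exact_mod_cast zero_lt_one)
  have h3 : Subsingleton (CohTop.H T.X₃ 1) :=
    Snapper.subsingleton_HH_of_dim_lt 1 Z hZ Q hQc.1 hQsupp 1 le_rfl
  have hχmono : Mono χ := by
    refine Preadditive.mono_of_cancel_zero _ fun {W'} g hg => ?_
    ext V z
    show (g.hom.app V).hom z = 0
    refine AModX.eq_of_locally (M := Q) _ _ fun x hx => ?_
    let q : Γ(Q, V.unop) := (g.hom.app V).hom z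
    obtain ⟨_, ⟨W, hW, rfl⟩, hxW, hWV⟩ := X.isBasis_affineOpens.exists_subset_of_mem_open hx V.unop.2
    refine ⟨W, hWV, hxW, ?_⟩
    rw [map_zero]
    obtain ⟨s, hs⟩ := QCoh.app_surjective_of_epi hPc.1 hQc.1 (cokernel.π u) hW (AModX.res Q hWV q)
    have hq : (χ.hom.app V).hom q = 0 := congr((($hg).hom.app V).hom z)
    have h1 : (T.g.hom.app (op W)).hom ((ψ.hom.app (op W)).hom s) = 0 := by
      have e := congr((($c23).hom.app (op W)).hom s)
      refine e.symm.trans ?_
      show (χ.hom.app (op W)).hom ((cokernel.π u).app W s) = 0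
      rw [hs]
      refine (congr(($(χ.hom.naturality (homOfLE hWV).op)).hom q)).trans ?_
      exact (congrArg (T.X₃.obj.map (homOfLE hWV).op).hom hq).trans (map_zero _)
    obtain ⟨c, hc⟩ := SuppFamLib.exists_section_of_shortExact hT W _ h1
    obtain ⟨d, hd⟩ := exists_app_eq_of_pow π U hU hU' p hroot W s c (hc.trans (hψ W s))
    show AModX.res Q hWV q = 0
    rw [← hs, ← hd]
    exact congr(($(cokernel.condition u)).app W d)
  have hP0 : Function.Bijective (Sheaf.H.map ψ 0) := bijective_push_H0 π.base φ' (bijective_frob (k := k) p φ' hφ')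
  have hQ0 : Function.Bijective (Sheaf.H.map χ 0) := by
    haveI := CurveCohLib.finite_HH (k := k) hQc 0
    haveI := hχmono
    refine bijective_of_semilinear (k := k) (V := Coh.HH X Q 0) p (Sheaf.H.map χ 0) (injective_H0 χ) fun a x => ?_
    refine (Sheaf.H.map_comp_apply (f := Coh.smulAb Q (Coh.toGlobal (X ↘ Spec (CommRingCat.of k)) a))
      (g := χ) (n := 0) x).symm.trans ((congrArg (fun g => Sheaf.H.map g 0 x) ?_).trans
      (Sheaf.H.map_comp_apply (f := χ) (g := Coh.smulAb Q (Coh.toGlobal (X ↘ Spec (CommRingCat.of k)) (a ^ p))) (n := 0) x))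
    rw [← cancel_epi T.g]
    have n1 : ∀ b : k, T.g ≫ Coh.smulAb Q (Coh.toGlobal (X ↘ Spec (CommRingCat.of k)) b) =
        Coh.smulAb P (Coh.toGlobal (X ↘ Spec (CommRingCat.of k)) b) ≫ T.g := fun b => by
      ext V s
      exact (Scheme.Modules.Hom.app_smul (cokernel.π u) _ _).symm
    have n2 : Coh.smulAb P (Coh.toGlobal (X ↘ Spec (CommRingCat.of k)) a) ≫ ψ =
        ψ ≫ Coh.smulAb P (Coh.toGlobal (X ↘ Spec (CommRingCat.of k)) (a ^ p)) := by
      rw [PnCoh.smulAb_push, PnCoh.smulAb_push, ← Functor.map_comp, ← Functor.map_comp]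
      exact congrArg (CohTop.push π.base).map (frob_smul p φ' hφ' a)
    rw [← Category.assoc, ← Category.assoc, n1, Category.assoc, c23, ← Category.assoc, n2, Category.assoc,
      ← n1, Category.assoc]
  exact (bijective_iff hT α h3 hP0 hQ0).trans (bijective_push_H1 π φ')

end Groth.Agent.Curves16
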