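import Groth.Agent.Curves16.GenH1
import Groth.Agent.Lib.CurveTensor
import Groth.Agent.CurveCohLib.Proper
import Groth.Agent.Lib.Euler
import Groth.Agent.Lib.CurveVanish
import Groth.Agent.KFlatLib.Scheme.TensorAssoc

/-! Global generation and vanishing of `H¹` along exact sequences. -/

noncomputable section

set_option linter.style.haveILetI false
set_option backward.isDefEq.respectTransparency false
set_option backward.isDefEq.respectTransparency.types false

universe u

open CategoryTheory CategoryTheory.Limits AlgebraicGeometry TopologicalSpace Opposite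

namespace Groth.Agent.Curves16

open Groth.Agent

variable {X : Scheme.{u}}

theorem gg_of_epi {M N : X.Modules} (p : M ⟶ N) [Epi p] (h : Curv2.IsGloballyGenerated M) :
    Curv2.IsGloballyGenerated N := by
  obtain ⟨ι, q, hq⟩ := h
  exact ⟨ι, q ≫ p, epi_comp _ _⟩

/-- An extension of globally generated modules with `H¹` of the kernel zero is globally generated. -/
theorem gg_of_shortExact {S : ShortComplex X.Modules} (hS : S.ShortExact)
    (h1 : Curv2.IsGloballyGenerated S.X₁) (h3 : Curv2.IsGloballyGenerated S.X₃)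
    (hv : Subsingleton (Coh.HH X S.X₁ 1)) : Curv2.IsGloballyGenerated S.X₂ := by
  refine Euler.GG.isGloballyGenerated fun T g hg => ?_
  haveI := hS.epi_g
  obtain ⟨ι₁, s₁, hs₁⟩ := exists_generatedBy h1
  obtain ⟨ι₃, s₃, hs₃⟩ := exists_generatedBy h3
  have hz : ∀ t : Γ(S.X₂, ⊤), g.app ⊤ t = 0 := fun t => by
    rw [← InvX.one_ofSect t]
    exact congrArg InvX.one (hg (InvX.ofSect t))
  have h0 : S.f ≫ g = 0 := InvX.hom_ext_of_generated hs₁ fun i =>
    (hz (S.f.app ⊤ (s₁ i))).trans rfl
  obtain ⟨g', rfl⟩ : ∃ g', S.g ≫ g' = g := ⟨hS.exact.desc g h0, hS.exact.g_desc g h0⟩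
  have : g' = 0 := InvX.hom_ext_of_generated hs₃ fun i => by
    obtain ⟨t, ht⟩ := QCoh.app_top_surjective_of_HH_one hS hv (s₃ i)
    rw [← ht]
    exact (hz t).trans rfl
  rw [this, comp_zero]

/-- A coherent module supported at finitely many closed points is globally generated. -/
theorem gg_of_closedSupport [IsNoetherian X] {M : X.Modules} (hM : Coh.IsCoh M)
    (h0 : ∀ x ∈ CohB1.support M, IsClosed ({x} : Set X)) : Curv2.IsGloballyGenerated M := by
  refine InvX.isGloballyGenerated_of_generated (s := fun t : Γ(M, ⊤) => t) fun x => eq_top_iff.2 fun m _ => ?_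
  by_cases hx : x ∈ CohB1.support M
  · obtain ⟨s, hs, -⟩ := CurveCohLib.exists_section_single hM h0 hx m
    exact Submodule.subset_span ⟨s, hs⟩
  · rw [(not_not.1 hx : Subsingleton (M.presheaf.stalk x)).elim m 0]
    exact Submodule.zero_mem _

variable [IsNoetherian X] [X.IsSeparated]

/-- `H¹` of the middle term of a right exact sequence. -/
theorem subsingleton_h1_middle (hdim : topologicalKrullDim X ≤ 1) (S : ShortComplex X.Modules) (hS : S.Exact)
    [Epi S.g] (h1q : Coh.IsQCoh S.X₁) (h2q : Coh.IsQCoh S.X₂) (h3q : Coh.IsQCoh S.X₃)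
    (h1 : Subsingleton (Coh.HH X S.X₁ 1)) (h3 : Subsingleton (Coh.HH X S.X₃ 1)) :
    Subsingleton (Coh.HH X S.X₂ 1) := by
  haveI := hS.epi_kernelLift
  have hK : Subsingleton (Coh.HH X (kernel S.g) 1) :=
    subsingleton_h1_quotient hdim h1q (QCoh.isQCoh_kernel h2q h3q S.g) (kernel.lift S.g S.f S.zero) h1
  have hS' : (ShortComplex.mk (kernel.ι S.g) S.g (kernel.condition S.g)).ShortExact :=
    { exact := ShortComplex.exact_kernel _, mono_f := inferInstance, epi_g := inferInstance }
  exact QCoh.subsingleton_HH_X₂ hS' 1 hK h3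

theorem isQCoh_tensor {A B : X.Modules} (hA : Coh.IsQCoh A) (hB : Coh.IsQCoh B) :
    Coh.IsQCoh ((DCoh.tensorBi.obj A).obj B) := by
  haveI := hA
  haveI := hB
  exact (S2297.result A B).1

/-- `H¹` of the middle term of an exact sequence twisted by a fixed module. -/
theorem subsingleton_h1_tensor_middle (hdim : topologicalKrullDim X ≤ 1) {S : ShortComplex X.Modules}
    (hS : S.Exact) [Epi S.g] {W : X.Modules} (hW : Coh.IsQCoh W)
    (h1q : Coh.IsQCoh S.X₁) (h2q : Coh.IsQCoh S.X₂) (h3q : Coh.IsQCoh S.X₃)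
    (h1 : Subsingleton (Coh.HH X ((DCoh.tensorBi.obj W).obj S.X₁) 1))
    (h3 : Subsingleton (Coh.HH X ((DCoh.tensorBi.obj W).obj S.X₃) 1)) :
    Subsingleton (Coh.HH X ((DCoh.tensorBi.obj W).obj S.X₂) 1) := by
  let T := DCoh.tensorBi.obj W
  haveI : PreservesBinaryBiproducts T := preservesBinaryBiproducts_of_preservesBinaryCoproducts T
  haveI : T.Additive := Functor.additive_of_preservesBinaryBiproducts T
  haveI : Epi (S.map T).g := (inferInstance : Epi (T.map S.g))
  exact subsingleton_h1_middle hdim (S.map T)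
    (hS.map_of_epi_of_preservesCokernel T inferInstance inferInstance)
    (isQCoh_tensor hW h1q) (isQCoh_tensor hW h2q) (isQCoh_tensor hW h3q) h1 h3

/-- A module supported at finitely many closed points has no `H¹` after any twist. -/
theorem subsingleton_h1_tensor_closedSupport {W M : X.Modules} (hM : Coh.IsCoh M)
    (h0 : ∀ x ∈ CohB1.support M, IsClosed ({x} : Set X)) :
    Subsingleton (Coh.HH X ((DCoh.tensorBi.obj W).obj M) 1) :=
  CurveVanish.subsingleton_HH_of_finite
    (CurveCohLib.finite_of_closedPoints (QCoh.isClosed_support_of_isFT hM.1 hM.2) h0) h0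
    (fun _ hx => not_not.1 fun h => hx (CurveTensor.support_tensor_subset h)) 0

theorem gg_of_hom_cokernel_torsion (hdim : topologicalKrullDim X ≤ 1)
    (h : Subsingleton (Coh.HH X (Coh.structureModule X) 1)) {A B : X.Modules} (hA : Coh.IsCoh A)
    (hB : Coh.IsCoh B) (φ : A ⟶ B) (hsupp : ∀ x ∈ CohB1.support (cokernel φ), IsClosed ({x} : Set X))
    (hgg : Curv2.IsGloballyGenerated A) : Curv2.IsGloballyGenerated B := by
  let S := ShortComplex.mk (Abelian.image.ι φ) (cokernel.π φ) (kernel.condition _)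
  have hS : S.ShortExact :=
    { exact := ShortComplex.exact_kernel _, mono_f := inferInstance, epi_g := inferInstance }
  have hC : Coh.IsCoh (cokernel φ) := QCoh.isCoh_cokernel hA.1 hB φ
  have hI : Coh.IsCoh (Abelian.image φ) := QCoh.isCoh_kernel hB hC _
  have hgI : Curv2.IsGloballyGenerated (Abelian.image φ) := gg_of_epi (Abelian.factorThruImage φ) hgg
  exact gg_of_shortExact hS hgI (gg_of_closedSupport hC hsupp) (subsingleton_h1_of_gg hdim hI hgI h)

/-- Commutation of the factors. -/
def swapIso (A B : X.Modules) : (DCoh.tensorBi.obj A).obj B ≅ (DCoh.tensorBi.obj B).obj A :=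
  CurveTensor.commIso A B

omit [AlgebraicGeometry.IsNoetherian X] [X.IsSeparated] in
theorem gg_structureModule : Curv2.IsGloballyGenerated (Coh.structureModule X) :=
  ⟨PUnit.{u + 1}, Sigma.desc fun _ => 𝟙 (Coh.structureModule X),
    @epi_of_epi_fac _ _ _ _ _ (Sigma.ι (fun _ : PUnit.{u + 1} => Coh.structureModule X) PUnit.unit) _ (𝟙 _)
      inferInstance (Sigma.ι_desc _ _)⟩

/-- Tensor products of globally generated coherent modules are globally generated. -/
theorem gg_tensor {A B : X.Modules} (hA : Coh.IsCoh A) (hgA : Curv2.IsGloballyGenerated A)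
    (hgB : Curv2.IsGloballyGenerated B) : Curv2.IsGloballyGenerated ((DCoh.tensorBi.obj B).obj A) := by
  obtain ⟨ι, s, hs⟩ := exists_generatedBy hgA
  obtain ⟨m, j, hj⟩ := AmpleVan.exists_fin_generatedBy hA s hs
  obtain ⟨p, hp⟩ := InvX.exists_epi_freeMod hj
  obtain ⟨κ, t, ht⟩ := exists_generatedBy hgB
  let T := DCoh.tensorBi.obj B
  haveI : PreservesBinaryBiproducts T := preservesBinaryBiproducts_of_preservesBinaryCoproducts T
  haveI : T.Additive := Functor.additive_of_preservesBinaryBiproducts T
  haveI : Epi (T.map p) := inferInstance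
  refine gg_of_epi (T.map p) (Euler.GG.isGloballyGenerated fun Y g hg => ?_)
  have hc : ∀ i, T.map (Sigma.ι (fun _ : Fin m => Coh.structureModule X) i) ≫ g = 0 := fun i => by
    rw [← cancel_epi (KFlatLib.tensorUnitIso B).inv, comp_zero]
    refine InvX.hom_ext_of_generated ht fun a => ?_
    have h := congrArg InvX.one (hg (InvX.ofSect (t a) ≫ (KFlatLib.tensorUnitIso B).inv ≫
      T.map (Sigma.ι (fun _ : Fin m => Coh.structureModule X) i)))
    rw [← InvX.one_ofSect (t a)]
    simp only [Category.assoc] at h ⊢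
    exact h
  have hid : ∑ i, (Sigma.desc fun l : Fin m => if l = i then 𝟙 (Coh.structureModule X) else 0) ≫
      Sigma.ι (fun _ : Fin m => Coh.structureModule X) i = 𝟙 _ :=
    Sigma.hom_ext _ _ fun i => by simp [Preadditive.comp_sum, ite_comp]
  rw [← Category.id_comp g, ← T.map_id, ← hid, T.map_sum, Preadditive.sum_comp]
  exact Finset.sum_eq_zero fun i _ => by rw [T.map_comp, Category.assoc, hc i, comp_zero]

omit [X.IsSeparated] in
theorem isCoh_tensor {A B : X.Modules} (hA : FlatMod.IsFinLocFree A) (hB : Coh.IsCoh B) :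
    Coh.IsCoh ((DCoh.tensorBi.obj A).obj B) :=
  CurveTensor.isCoh_tensor hA hB

/-- Associativity. -/
def assocI (A B C : X.Modules) :
    (DCoh.tensorBi.obj ((DCoh.tensorBi.obj A).obj B)).obj C ≅
      (DCoh.tensorBi.obj A).obj ((DCoh.tensorBi.obj B).obj C) :=
  (((KFlatLib.tensorAssocSch X).app A).app B).app C

end Groth.Agent.Curves16
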