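import Groth.Agent.InvX.GenEpi
import Groth.Agent.CurveCohLib.GlobGen
import Groth.Agent.QCoh.LocFree
import Groth.Agent.S2297
import Groth.Agent.KFlatLib.Scheme.QCohTensor
import Groth.Agent.AmpleVan.FinGen
import Groth.Agent.KFlatLib.Scheme.Exact
import Groth.Agent.Snapper.DimVanish
import Groth.Agent.PnCoh.Finite.SerreVanishing

/-! Right exactness of `H¹` on schemes of dimension at most one and vanishing for globally generated modules. -/

noncomputable section

set_option linter.style.haveILetI false
set_option backward.isDefEq.respectTransparency false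
set_option backward.isDefEq.respectTransparency.types false

universe u

open CategoryTheory CategoryTheory.Limits AlgebraicGeometry TopologicalSpace Opposite

namespace Groth.Agent.Curves16

open Groth.Agent

variable {X : Scheme.{u}}

/-- A globally generated module has generating sections. -/
theorem exists_generatedBy {F : X.Modules} (h : Curv2.IsGloballyGenerated F) :
    ∃ (ι : Type u) (s : ι → Γ(F, ⊤)), ProjUP.GeneratedBy F s := by
  obtain ⟨ι, p, hp⟩ := h
  let j : ι → (Coh.structureModule X ⟶ (SheafOfModules.free ι : X.Modules)) := fun i =>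
    Sigma.ι (fun _ : ι => Coh.structureModule X) i
  refine ⟨ι, fun i => InvX.one (j i ≫ p), fun x => ?_⟩
  let S : Submodule (X.presheaf.stalk x) ((DerSch.stalkFunctor X x).obj F) :=
    Submodule.span (X.presheaf.stalk x) (Set.range fun i => (F.presheaf.germ ⊤ x trivial).hom (InvX.one (j i ≫ p)))
  change S = ⊤
  let g : (DerSch.stalkFunctor X x).obj F ⟶ ModuleCat.of _ (((DerSch.stalkFunctor X x).obj F) ⧸ S) :=
    ModuleCat.ofHom S.mkQ
  have hz : (DerSch.stalkFunctor X x).map p ≫ g = 0 := by
    refine (isColimitOfPreserves (DerSch.stalkFunctor X x)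
      (coproductIsCoproduct fun _ : ι => Coh.structureModule X)).hom_ext fun i => ?_
    obtain ⟨i⟩ := i
    rw [comp_zero]
    refine ((Category.assoc _ _ _).symm.trans (congrArg (· ≫ g)
      ((DerSch.stalkFunctor X x).map_comp (j i) p).symm)).trans ?_
    ext m
    change S.mkQ (((DerSch.stalkFunctor X x).map (j i ≫ p)).hom m) = 0
    obtain ⟨a, rfl⟩ := CurveCohLib.GlobGen.exists_smul_one x m
    rw [map_smul, map_smul]
    refine (congrArg (a • ·) ?_).trans (smul_zero a)
    rw [Submodule.mkQ_apply, Submodule.Quotient.mk_eq_zero]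
    exact Submodule.subset_span ⟨i, (DerSch.stalkFunctor_map_germ x (j i ≫ p) ⊤ trivial (1 : Γ(X, ⊤))).symm⟩
  have hg : g = 0 := by
    haveI : Epi ((DerSch.stalkFunctor X x).map p) := inferInstance
    exact (cancel_epi ((DerSch.stalkFunctor X x).map p)).1 (hz.trans comp_zero.symm)
  refine eq_top_iff.2 fun m _ => ?_
  rw [← Submodule.Quotient.mk_eq_zero]
  exact LinearMap.congr_fun (congrArg ModuleCat.Hom.hom hg) m

/-- `H¹` is right exact in dimension one. -/
theorem subsingleton_h1_quotient [IsNoetherian X] [X.IsSeparated] (hdim : topologicalKrullDim X ≤ 1)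
    {M N : X.Modules} (hM : Coh.IsQCoh M) (hN : Coh.IsQCoh N) (p : M ⟶ N) [Epi p]
    (h : Subsingleton (Coh.HH X M 1)) : Subsingleton (Coh.HH X N 1) := by
  have hS : (ShortComplex.mk (kernel.ι p) p (kernel.condition p)).ShortExact :=
    { exact := ShortComplex.exact_kernel _, mono_f := inferInstance, epi_g := inferInstance }
  exact PnCoh.Finite.subsingleton_HH_X₃ hS 1 h
    (Snapper.subsingleton_HH_of_dim_le (d := 1) (by exact_mod_cast hdim) (QCoh.isQCoh_kernel hM hN p) (by omega))

theorem subsingleton_HH_freeMod (m n : ℕ) (h : Subsingleton (Coh.HH X (Coh.structureModule X) n)) :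
    Subsingleton (Coh.HH X (FlatMod.freeMod X m) n) :=
  PnCoh.Finite.subsingleton_HH_of_decomposition (E := FlatMod.freeMod X m) (fun _ : Fin m => Coh.structureModule X)
    (fun j => Sigma.desc fun i => if i = j then 𝟙 _ else 0)
    (fun j => Sigma.ι (fun _ : Fin m => Coh.structureModule X) j)
    (Sigma.hom_ext _ _ fun i => by simp [Preadditive.comp_sum, ite_comp])
    n fun _ => h

/-- Globally generated coherent modules have no `H¹` when the structure sheaf has none. -/
theorem subsingleton_h1_of_gg [IsNoetherian X] [X.IsSeparated] (hdim : topologicalKrullDim X ≤ 1)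
    {F : X.Modules} (hF : Coh.IsCoh F) (hgg : Curv2.IsGloballyGenerated F)
    (h : Subsingleton (Coh.HH X (Coh.structureModule X) 1)) : Subsingleton (Coh.HH X F 1) := by
  obtain ⟨ι, s, hs⟩ := exists_generatedBy hgg
  obtain ⟨m, j, hj⟩ := AmpleVan.exists_fin_generatedBy hF s hs
  obtain ⟨p, hp⟩ := InvX.exists_epi_freeMod hj
  exact subsingleton_h1_quotient hdim (QCoh.isQCoh_of_isFinLocFree (KFlatLib.isFinLocFree_freeMod m)) hF.1 p
    (subsingleton_HH_freeMod m 1 h)

/-- Tensoring a globally generated bundle with a module without `H¹` gives a module without `H¹`. -/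
theorem subsingleton_h1_tensor_of_gg [IsNoetherian X] [X.IsSeparated] (hdim : topologicalKrullDim X ≤ 1)
    {F I : X.Modules} (hF : Coh.IsCoh F) (hgg : Curv2.IsGloballyGenerated F) (hI : Coh.IsQCoh I)
    (hFI : Coh.IsQCoh ((DCoh.tensorBi.obj I).obj F)) (h : Subsingleton (Coh.HH X I 1)) :
    Subsingleton (Coh.HH X ((DCoh.tensorBi.obj I).obj F) 1) := by
  obtain ⟨ι, s, hs⟩ := exists_generatedBy hgg
  obtain ⟨m, j, hj⟩ := AmpleVan.exists_fin_generatedBy hF s hs
  obtain ⟨p, hp⟩ := InvX.exists_epi_freeMod hj
  let T := DCoh.tensorBi.obj I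
  haveI : PreservesBinaryBiproducts T := preservesBinaryBiproducts_of_preservesBinaryCoproducts T
  haveI : T.Additive := Functor.additive_of_preservesBinaryBiproducts T
  haveI : Epi (T.map p) := inferInstance
  let e : T.obj (Coh.structureModule X) ≅ I := KFlatLib.tensorUnitIso I
  have hT : Subsingleton (Coh.HH X (T.obj (FlatMod.freeMod X m)) 1) := by
    refine PnCoh.Finite.subsingleton_HH_of_decomposition (fun _ : Fin m => I)
      (fun j => T.map (Sigma.desc fun i => if i = j then 𝟙 _ else 0) ≫ e.hom)
      (fun j => e.inv ≫ T.map (Sigma.ι (fun _ : Fin m => Coh.structureModule X) j)) ?_ 1 fun _ => h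
    simp only [Category.assoc, Iso.hom_inv_id_assoc, ← Functor.map_comp, ← Functor.map_sum]
    rw [← T.map_id]
    congr 1
    exact Sigma.hom_ext _ _ fun i => by simp [Preadditive.comp_sum, ite_comp]
  refine subsingleton_h1_quotient hdim ?_ hFI (T.map p) hT
  haveI := hI
  haveI := QCoh.isQCoh_of_isFinLocFree (KFlatLib.isFinLocFree_freeMod (X := X) m)
  exact (S2297.result I (FlatMod.freeMod X m)).1

end Groth.Agent.Curves16
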