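import Groth.Agent.Curves16.SubQuot
import Groth.Agent.CurveCohLib.Euler
import Groth.Agent.CurveCohLib.Rank
import Groth.Agent.H23.FinCondSch

/-!
# Global generation on one-dimensional schemes with trivial `H¹` of the structure sheaf
-/

noncomputable section

set_option linter.style.haveILetI false
set_option linter.unusedSectionVars false
set_option backward.isDefEq.respectTransparency false
set_option backward.isDefEq.respectTransparency.types false

universe u

open CategoryTheory CategoryTheory.Limits AlgebraicGeometry TopologicalSpace Opposite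
open Groth.Agent.PnCoh.Finite (mapLin)

namespace Groth.Agent.Curves16

open Groth.Agent

variable {X : Scheme.{u}}

/-- The reduced ideal of the closure of a point. -/
abbrev primeIdealSheaf (ξ : X) : X.IdealSheafData :=
  Scheme.IdealSheafData.vanishingIdeal (Closeds.closure {ξ})

section LongExact

variable (A : Type u) [CommRing A] [X.Over (Spec (CommRingCat.of A))] {S : ShortComplex X.Modules}

theorem mapLin_map_map {M N P : X.Modules} (φ : M ⟶ N) (ψ : N ⟶ P) (n : ℕ) (x : Coh.HH X M n) :
    mapLin A ψ n (mapLin A φ n x) = mapLin A (φ ≫ ψ) n x :=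
  PnCoh.Finite.map_map (Y := X.toPresheafedSpace.carrier) ((QCoh.toAbFunctor X).map_comp φ ψ).symm n x

theorem subsingleton_h1_X₁ (hS : S.ShortExact) (hsurj : Function.Surjective (mapLin A S.g 0))
    (h2 : Subsingleton (Coh.HH X S.X₂ 1)) : Subsingleton (Coh.HH X S.X₁ 1) := by
  refine Function.Injective.subsingleton (f := mapLin A S.f 1) ?_
  rw [← LinearMap.ker_eq_bot, CurveCohLib.ker_mapLin_f_succ A hS 0, LinearMap.range_eq_bot]
  refine LinearMap.ker_eq_top.1 ?_
  rw [CurveCohLib.ker_deltaLin A hS 0]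
  exact LinearMap.range_eq_top.2 hsurj

include A in
theorem surjective_app_top (hS : S.ShortExact) (h1 : Subsingleton (Coh.HH X S.X₁ 1)) :
    Function.Surjective (S.g.app ⊤) := by
  have hs : Function.Surjective (mapLin A S.g 0) := by
    rw [← LinearMap.range_eq_top, ← CurveCohLib.ker_deltaLin A hS 0, LinearMap.ker_eq_top]
    exact LinearMap.ext fun y => Subsingleton.elim _ _
  intro t
  obtain ⟨z, hz⟩ := hs ((Sheaf.H.equiv₀ (Coh.toAb S.X₃) isTerminalTop).symm t)
  refine ⟨Sheaf.H.equiv₀ (Coh.toAb S.X₂) isTerminalTop z, ?_⟩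
  refine (Sheaf.H.equiv₀_naturality isTerminalTop ((QCoh.toAbFunctor X).map S.g) z).trans ?_
  exact (congrArg (Sheaf.H.equiv₀ (Coh.toAb S.X₃) isTerminalTop) hz).trans (AddEquiv.apply_symm_apply _ _)

end LongExact

/-- Elements killed by `L ⊗ (O/J → O/P)` lie in `m_x`, at a point of `P`. -/
theorem ker_stkMap_tensor_le {J P : X.IdealSheafData} (h : J ≤ P) (L : X.Modules) {x : X} (hx : x ∈ P.support)
    (z : (DerSch.stalkFunctor X x).obj ((DCoh.tensorBi.obj L).obj (ClSub.quotMod J)))
    (hz : ParShLib.stkMap ((DCoh.tensorBi.obj L).map (quotMap h)) x z = 0) :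
    z ∈ (IsLocalRing.maximalIdeal (X.presheaf.stalk x) •
      (⊤ : Submodule (X.presheaf.stalk x)
        ((DerSch.stalkFunctor X x).obj ((DCoh.tensorBi.obj L).obj (ClSub.quotMod J))))) := by
  let F := DerSch.stalkFunctor X x
  haveI := CurvePoint.epi_toSubscheme J
  haveI := CurvePoint.epi_toSubscheme P
  haveI := epi_quotMap h
  let ι := (KFlatLib.stalkTensorLeftIso L x).app (ClSub.quotMod J)
  let ι' := (KFlatLib.stalkTensorLeftIso L x).app (ClSub.quotMod P)
  let e := ι.toLinearEquiv
  have hz' : LinearMap.lTensor (F.obj L) (F.map (quotMap h)).hom (e z) = 0 := by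
    have hn := congrArg (fun g => g.hom z) ((KFlatLib.stalkTensorLeftIso L x).hom.naturality (quotMap h))
    simp only [ModuleCat.hom_comp, LinearMap.comp_apply] at hn
    exact hn.symm.trans ((congrArg ι'.hom.hom hz).trans (map_zero _))
  have hg : Function.Surjective (F.map (quotMap h)).hom := (ModuleCat.epi_iff_surjective _).1 inferInstance
  obtain ⟨w, hw⟩ := (lTensor_exact (F.obj L) (LinearMap.exact_subtype_ker_map (F.map (quotMap h)).hom) hg (e z)).1 hz'
  obtain rfl : z = e.symm (LinearMap.lTensor (F.obj L) (LinearMap.ker (F.map (quotMap h)).hom).subtype w) :=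
    (e.symm_apply_apply z).symm.trans (congrArg e.symm hw.symm)
  clear hw hz hz'
  induction w using TensorProduct.induction_on with
  | zero => rw [map_zero, map_zero]; exact Submodule.zero_mem _
  | add a b ha hb => rw [map_add, map_add]; exact Submodule.add_mem _ ha hb
  | tmul l y =>
    obtain ⟨y, hy⟩ := y
    obtain ⟨b, rfl⟩ := (ModuleCat.epi_iff_surjective (F.map (ClSub.toSubscheme J))).1 inferInstance y
    obtain ⟨a, rfl⟩ := CurveCohLib.GlobGen.exists_smul_one x b
    let one' : F.obj (Coh.structureModule X) :=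
      (Coh.structureModule X).presheaf.germ ⊤ x trivial (1 : Γ(X, ⊤))
    have ha : a ∈ IsLocalRing.maximalIdeal (X.presheaf.stalk x) := by
      by_contra hna
      have hu : IsUnit a := IsLocalRing.notMem_maximalIdeal.1 hna
      refine CurveCohLib.GlobGen.nontrivial_stalk_quotMod P hx (subsingleton_of_forall_eq 0 fun q => ?_)
      obtain ⟨b, rfl⟩ := (ModuleCat.epi_iff_surjective (F.map (ClSub.toSubscheme P))).1 inferInstance q
      obtain ⟨c, rfl⟩ := CurveCohLib.GlobGen.exists_smul_one x b
      have h0 : (F.map (ClSub.toSubscheme P)).hom (a • one') = 0 := by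
        rw [← toS_quotMap h, Functor.map_comp, ModuleCat.hom_comp, LinearMap.comp_apply]
        exact LinearMap.mem_ker.1 hy
      rw [map_smul, hu.smul_eq_zero] at h0
      exact (map_smul _ c one').trans ((congrArg (c • ·) h0).trans (smul_zero _))
    have heq : e.symm (LinearMap.lTensor (F.obj L) (LinearMap.ker (F.map (quotMap h)).hom).subtype
        (l ⊗ₜ ⟨(F.map (ClSub.toSubscheme J)).hom (a • one'), hy⟩)) =
        a • e.symm (l ⊗ₜ (F.map (ClSub.toSubscheme J)).hom one') := by
      rw [← map_smul e.symm, LinearMap.lTensor_tmul]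
      refine congrArg e.symm ?_
      show l ⊗ₜ (F.map (ClSub.toSubscheme J)).hom (a • one') = _
      rw [map_smul, TensorProduct.tmul_smul]
    exact heq ▸ Submodule.smul_mem_smul ha Submodule.mem_top

variable [IsNoetherian X] [X.IsSeparated] (k : Type u) [Field k] [X.Over (Spec (CommRingCat.of k))]

/-- Generation on the integral subschemes plus surjectivity on sections gives generation. -/
theorem gg_tensor_quot (hdim : topologicalKrullDim X ≤ 1) (h1 : Subsingleton (Coh.HH X (Coh.structureModule X) 1))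
    {L : X.Modules} (hL : FlatMod.IsFinLocFree L)
    (hgg : ∀ ξ : X, Curv2.IsGloballyGenerated ((DCoh.tensorBi.obj L).obj (ClSub.quotMod (primeIdealSheaf ξ))))
    (hsurj : ∀ ξ : X, Function.Surjective (mapLin k (ClSub.toSubscheme (primeIdealSheaf ξ)) 0))
    (J : X.IdealSheafData) :
    Curv2.IsGloballyGenerated ((DCoh.tensorBi.obj L).obj (ClSub.quotMod J)) := by
  haveI : WellFoundedGT X.IdealSheafData := H23.FinCondSch.wellFoundedGT
  induction J using WellFoundedGT.induction with
  | _ J IH => ?_
  have hJ : Coh.IsCoh (ClSub.quotMod J) := ParShLib.isCoh_quotMod J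
  let T := DCoh.tensorBi.obj L
  have hTJ : Coh.IsCoh (T.obj (ClSub.quotMod J)) := isCoh_tensor hL hJ
  refine InvX.isGloballyGenerated_of_generated (s := fun t : Γ(T.obj (ClSub.quotMod J), ⊤) => t) fun x => ?_
  by_cases hx : x ∈ J.support
  swap
  · haveI : Subsingleton ((T.obj (ClSub.quotMod J)).presheaf.stalk x) :=
      not_not.1 fun hns => (CurveTensor.support_tensor_subset (show x ∈ CohB1.support _ from hns))
        (ParShLib.subsingleton_stalk_quotMod J hx)
    exact eq_top_iff.2 fun m _ => by rw [Subsingleton.elim m 0]; exact Submodule.zero_mem _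
  obtain ⟨ξ, hξ, hξx, hmax⟩ := exists_maximal_point J hx
  let P := primeIdealSheaf ξ
  have hle : J ≤ P := Scheme.IdealSheafData.le_support_iff_le_vanishingIdeal.1
    (closure_minimal (Set.singleton_subset_iff.2 hξ) J.support.isClosed)
  have hxP : x ∈ P.support := by
    show x ∈ ((primeIdealSheaf ξ).support : Set X)
    rw [Scheme.IdealSheafData.coe_support_vanishingIdeal]
    exact hξx.mem_closure
  have hP : ∀ (U : X.affineOpens) (hξU : ξ ∈ U.1), P.ideal U ≤ (U.2.primeIdealOf ⟨ξ, hξU⟩).asIdeal :=
    fun U hξU a ha => by_contra fun hna => (QCoh.mem_vanishing_closure_iff ξ a).1 ha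
      ((QCoh.mem_basicOpen_iff_notMem U.2 hξU a).2 hna)
  haveI := epi_quotMap hle
  let π := quotMap hle
  have hPc : Coh.IsCoh (ClSub.quotMod P) := ParShLib.isCoh_quotMod P
  have hI : Coh.IsCoh (kernel π) := QCoh.isCoh_kernel hJ hPc π
  have hS : (ShortComplex.mk (kernel.ι π) π (kernel.condition π)).ShortExact :=
    { exact := ShortComplex.exact_kernel _, mono_f := inferInstance, epi_g := inferInstance }
  haveI := CurvePoint.epi_toSubscheme J
  have hI1 : Subsingleton (Coh.HH X (kernel π) 1) := by
    refine subsingleton_h1_X₁ k hS (fun y => ?_)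
      (subsingleton_h1_quotient hdim (QCoh.isQCoh_structureModule) hJ.1 (ClSub.toSubscheme J) h1)
    obtain ⟨z, hz⟩ := hsurj ξ y
    refine ⟨mapLin k (ClSub.toSubscheme J) 0 z, (mapLin_map_map k _ _ 0 z).trans ?_⟩
    rw [toS_quotMap]
    exact hz
  let A := QCoh.annIdeal hI.1 hI.2
  have hA : Coh.IsCoh (ClSub.quotMod A) := ParShLib.isCoh_quotMod A
  have hgA := IH A (lt_annIdeal hle hξ hmax hP hI.1 hI.2)
  haveI := isIso_tensor_toSubscheme (kernel π) A fun U r hr m => Module.mem_annihilator.1 hr m
  have hTI : Subsingleton (Coh.HH X (T.obj (kernel π)) 1) := by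
    have h0 := subsingleton_h1_tensor_of_gg hdim (isCoh_tensor hL hA) hgA hI.1
      (isQCoh_tensor hI.1 (isCoh_tensor hL hA).1) hI1
    let e : (DCoh.tensorBi.obj (kernel π)).obj (T.obj (ClSub.quotMod A)) ≅ T.obj (kernel π) :=
      (DCoh.tensorBi.obj (kernel π)).mapIso (swapIso L (ClSub.quotMod A)) ≪≫
        (assocI (kernel π) (ClSub.quotMod A) L).symm ≪≫ swapIso _ L ≪≫
        T.mapIso ((asIso ((DCoh.tensorBi.obj (kernel π)).map (ClSub.toSubscheme A))).symm ≪≫
          KFlatLib.tensorUnitIso (kernel π))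
    exact (CurveCohLib.hhEquiv (k := k) e 1).toEquiv.symm.subsingleton
  have hTS := CurveTensor.shortExact_tensor hL _ _ _ hS
  have hlift := surjective_app_top k hTS hTI
  -- Nakayama at `x`
  obtain ⟨ι, s, hs⟩ := exists_generatedBy (hgg ξ)
  let F := DerSch.stalkFunctor X x
  let N := ((T.obj (ClSub.quotMod J)).presheaf.stalk x : Type u)
  let φ := ParShLib.stkMap (T.map π) x
  let Sp : Submodule (X.presheaf.stalk x) N := Submodule.span (X.presheaf.stalk x)
    (Set.range fun t : Γ(T.obj (ClSub.quotMod J), ⊤) => (T.obj (ClSub.quotMod J)).presheaf.germ ⊤ x trivial t)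
  haveI : Module.Finite (X.presheaf.stalk x) ((T.obj (ClSub.quotMod J)).presheaf.stalk x) :=
    QCoh.finite_stalk_of_isFT hTJ.1 hTJ.2 x
  have hmap : ∀ y, ∃ z ∈ Sp, φ z = y := fun y => by
    have hy : y ∈ Submodule.map φ Sp := by
      refine (hs x).ge.trans ?_ Submodule.mem_top
      rw [Submodule.span_le]
      rintro _ ⟨i, rfl⟩
      obtain ⟨t, ht⟩ := hlift (s i)
      refine ⟨_, Submodule.subset_span ⟨t, rfl⟩, (ParShLib.stkMap_germ _ _ t).trans ?_⟩
      exact congrArg _ ht
    exact hy
  refine eq_top_iff.2 (Submodule.le_of_le_smul_of_le_jacobson_bot (I := IsLocalRing.maximalIdeal _)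
    Module.Finite.fg_top (IsLocalRing.maximalIdeal_le_jacobson _) fun z _ => ?_)
  let w : ParShLib.stk (T.obj (ClSub.quotMod J)) x := z
  obtain ⟨z', hz', hzz⟩ := hmap (φ w)
  let w' : ParShLib.stk (T.obj (ClSub.quotMod J)) x := z'
  have hd : φ (w - w') = 0 := (map_sub φ w w').trans (sub_eq_zero.2 hzz.symm)
  show w ∈ _
  rw [show w = w' + (w - w') from (add_sub_cancel w' w).symm]
  exact Submodule.add_mem_sup hz' (ker_stkMap_tensor_le hle L hxP _ hd)

end Groth.Agent.Curves16
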