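import Groth.Agent.Curves16.NefPrime
import Groth.Agent.CurveBC.Coh
import Groth.Agent.CurveBC.Generated
import Groth.Agent.CurveBC.Geometry
import Groth.Agent.Pic13Lib.Closed

/-!
# Nef invertible modules on one-dimensional schemes with trivial `H¹` of the structure sheaf
-/

noncomputable section

set_option linter.style.haveILetI false
set_option linter.unusedSectionVars false
set_option backward.isDefEq.respectTransparency false
set_option backward.isDefEq.respectTransparency.types false

universe u

open CategoryTheory CategoryTheory.Limits AlgebraicGeometry TopologicalSpace Opposite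
open Groth.Agent.PnCoh.Finite (mapLin)

namespace Groth.Agent.Curves16

open Groth.Agent

variable {X : Scheme.{u}}

theorem vanishing_le_ker_of_range_subset {Z : Scheme.{u}} [IsReduced Z] (f : Z ⟶ X) [QuasiCompact f] (S : Closeds X)
    (h : Set.range f ⊆ (S : Set X)) : Scheme.IdealSheafData.vanishingIdeal S ≤ f.ker := by
  intro U a ha
  rw [Scheme.Hom.ker_apply, RingHom.mem_ker]
  refine eq_zero_of_basicOpen_eq_bot _ ?_
  rw [← Scheme.preimage_basicOpen]
  refine Opens.ext (Set.eq_empty_iff_forall_notMem.2 fun z hz => ?_)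
  have hz' : f z ∈ X.basicOpen a := hz
  have hzU : f z ∈ U.1 := X.basicOpen_le a hz'
  rw [Scheme.IdealSheafData.vanishingIdeal_ideal, PrimeSpectrum.mem_vanishingIdeal] at ha
  refine (QCoh.mem_basicOpen_iff_notMem U.2 hzU a).1 hz' (ha _ ?_)
  show U.2.fromSpec (U.2.primeIdealOf ⟨f z, hzU⟩) ∈ (S : Set X)
  rw [U.2.fromSpec_primeIdealOf]
  exact h ⟨z, rfl⟩

theorem isIso_toSubscheme_bot : IsIso (ClSub.toSubscheme (⊥ : X.IdealSheafData)) := by
  haveI : IsIso (⊥ : X.IdealSheafData).subschemeι := (Scheme.isIso_subschemeι_iff_eq_bot _).2 rfl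
  haveI : ∀ U, IsIso ((ClSub.toSubscheme (⊥ : X.IdealSheafData)).app U) := fun U =>
    (ConcreteCategory.isIso_iff_bijective _).2
      (ConcreteCategory.bijective_of_isIso ((⊥ : X.IdealSheafData).subschemeι.app U))
  exact Scheme.Modules.Hom.isIso_iff_isIso_app.2 inferInstance

variable (k : Type u) [Field k] [X.Over (Spec (CommRingCat.of k))] [IsProper (X ↘ Spec (CommRingCat.of k))]

include k in
/-- The direct image of the restriction to a closed subscheme is the twist of its structure sheaf. -/
theorem nonempty_push_restrict_iso (J : X.IdealSheafData) (L : X.Modules) :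
    Nonempty ((DCoh.tensorBi.obj L).obj (ClSub.quotMod J) ≅
      (Scheme.Modules.pushforward J.subschemeι).obj ((Scheme.Modules.pullback J.subschemeι).obj L)) := by
  haveI := KFlatLib.isIso_projMod_of_isClosedImmersion J.subschemeι (Coh.structureModule J.subscheme) L
  exact ⟨swapIso L (ClSub.quotMod J) ≪≫ asIso (KFlatLib.projMod J.subschemeι (Coh.structureModule J.subscheme) L) ≪≫
    (Scheme.Modules.pushforward J.subschemeι).mapIso (CurveTensor.structureTensorIso _)⟩

include k in
/-- Nef invertible modules are globally generated. -/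
theorem gg_of_nef (hdim : topologicalKrullDim X ≤ 1) (h1 : Subsingleton (Coh.HH X (Coh.structureModule X) 1))
    {L : X.Modules} (hL : PicF.IsInvertible L)
    (hnef : ∀ J : X.IdealSheafData, IsIntegral J.subscheme → topologicalKrullDim J.subscheme = 1 →
      0 ≤ @Curv2.deg k _ J.subscheme ⟨J.subschemeι ≫ (X ↘ (Spec (CommRingCat.of k)))⟩
        ((Scheme.Modules.pullback J.subschemeι).obj L) 1) :
    Curv2.IsGloballyGenerated L := by
  haveI := CurveCohLib.isNoetherian_of_proper (k := k) (X := X)
  have hLc := CurveDeg.isCoh_of_isInvertible hL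
  let K := AlgebraicClosure k
  let X' := Curv2.bc k X K
  let g : X' ⟶ X := Curv2.bcFst k X K
  letI : X'.Over (Spec (CommRingCat.of K)) := ⟨Curv2.bcSnd k X K⟩
  have hpb : IsPullback g (X' ↘ Spec (CommRingCat.of K)) (X ↘ Spec (CommRingCat.of k))
      (Spec.map (CommRingCat.ofHom (algebraMap k K))) := IsPullback.of_hasPullback _ _
  haveI := CurveBC.isProper k K g hpb
  obtain ⟨hgf, hgs⟩ := CurveBC.flat_surjective k K g hpb
  haveI := CurveCohLib.isNoetherian_of_proper (k := K) (X := X')
  haveI : X'.IsSeparated := ⟨by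
    rw [← terminal.comp_from (X' ↘ Spec (CommRingCat.of K))]
    infer_instance⟩
  have hdim' : topologicalKrullDim X' ≤ 1 := by
    haveI : Subsingleton (Spec (CommRingCat.of k)) := inferInstanceAs (Subsingleton (PrimeSpectrum k))
    haveI : Subsingleton (Spec (CommRingCat.of K)) := inferInstanceAs (Subsingleton (PrimeSpectrum K))
    haveI : Nonempty (Spec (CommRingCat.of K)) := inferInstanceAs (Nonempty (PrimeSpectrum K))
    exact (FibDim.topologicalKrullDim_baseChange hpb).le.trans hdim
  have h1' : Subsingleton (Coh.HH X' (Coh.structureModule X') 1) := by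
    haveI := CurveCohLib.finite_HH (k := K) (QCoh.isCoh_structureModule' (X := X')) 1
    refine (Module.finrank_zero_iff (R := K)).1 ?_
    rw [CurveBC.finrank_hh_unit k K g hpb 1]
    haveI := h1
    exact Module.finrank_zero_of_subsingleton
  let L' := (Scheme.Modules.pullback g).obj L
  have hL' : PicF.IsInvertible L' := PicClLib.isInvertible_pullback g hL
  have hL1 := InvEnd.isFinLocFreeOfRank_one hL'
  have hLf : FlatMod.IsFinLocFree L' := fun y => let ⟨W, hy, he⟩ := hL1 y; ⟨W, 1, hy, he⟩
  have hgg' : Curv2.IsGloballyGenerated ((DCoh.tensorBi.obj L').obj (ClSub.quotMod (⊥ : X'.IdealSheafData))) := by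
    refine gg_tensor_quot K hdim' h1' hLf (fun ξ' => ?_) (fun ξ' => surjective_h0_toPrime K ξ') ⊥
    let P' := primeIdealSheaf ξ'
    let ξ := g ξ'
    let P := primeIdealSheaf ξ
    haveI : IsIntegral P'.subscheme := QCoh.isIntegral_closure_point ξ'
    haveI : IsIntegral P.subscheme := QCoh.isIntegral_closure_point ξ
    haveI : IsLocallyNoetherian P.subscheme := LocallyOfFiniteType.isLocallyNoetherian P.subschemeι
    haveI : IsLocallyNoetherian P'.subscheme := LocallyOfFiniteType.isLocallyNoetherian P'.subschemeι
    have hgP := gg_tensor_prime k hdim h1 hL ξ fun hd => hnef P (QCoh.isIntegral_closure_point ξ) hd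
    obtain ⟨eP⟩ := nonempty_push_restrict_iso k P L
    have hM : Curv2.IsGloballyGenerated ((Scheme.Modules.pullback P.subschemeι).obj L) := by
      haveI := AmpleVan.isIso_counit P.subschemeι
        (CurveDeg.isCoh_of_isInvertible (PicClLib.isInvertible_pullback P.subschemeι hL)).1
      exact gg_of_iso (asIso ((Scheme.Modules.pullbackPushforwardAdjunction P.subschemeι).counit.app _))
        (Pic13Lib.isGloballyGenerated_of_pullback P.subschemeι (gg_of_iso eP hgP))
    let f := P'.subschemeι ≫ g
    haveI : CompactSpace P'.subscheme := P'.subschemeι.isClosedEmbedding.compactSpace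
    haveI : QuasiCompact f := inferInstance
    have hker : P.subschemeι.ker ≤ f.ker := by
      rw [Scheme.IdealSheafData.ker_subschemeι]
      refine vanishing_le_ker_of_range_subset f _ ?_
      rintro _ ⟨z, rfl⟩
      have hz : P'.subschemeι z ∈ closure {ξ'} :=
        (H23.RedSub.range_vanishingIdeal (Closeds.closure {ξ'})).le ⟨z, rfl⟩
      have := image_closure_subset_closure_image g.continuous ⟨_, hz, rfl⟩
      rwa [Set.image_singleton] at this
    let h := IsClosedImmersion.lift P.subschemeι f hker
    have hh : h ≫ P.subschemeι = f := IsClosedImmersion.lift_fac _ _ _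
    have hM' : Curv2.IsGloballyGenerated ((Scheme.Modules.pullback P'.subschemeι).obj L') := by
      refine gg_of_iso ?_ (Pic13Lib.isGloballyGenerated_of_pullback h hM)
      exact (Scheme.Modules.pullbackComp h P.subschemeι).app L ≪≫
        eqToIso (congrArg (fun q => (Scheme.Modules.pullback q).obj L) hh) ≪≫
        ((Scheme.Modules.pullbackComp P'.subschemeι g).app L).symm
    haveI := CurvePoint.epi_toSubscheme P'
    haveI := SurfInt.overComp K P'.subschemeι
    obtain ⟨eP'⟩ := nonempty_push_restrict_iso K P' L'
    exact gg_of_iso eP'.symm (gg_push P'.subschemeι (ClSub.toSubscheme P')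
      (CurveDeg.isCoh_of_isInvertible (PicClLib.isInvertible_pullback P'.subschemeι hL')) hM')
  haveI := isIso_toSubscheme_bot (X := X')
  have hggL' : Curv2.IsGloballyGenerated L' :=
    gg_of_iso ((asIso ((DCoh.tensorBi.obj L').map (ClSub.toSubscheme (⊥ : X'.IdealSheafData)))).symm ≪≫
      KFlatLib.tensorUnitIso L') hgg'
  haveI := hgf
  haveI := hgs
  exact CurveBC.isGloballyGenerated_of_pullback k K g hpb hLc.1 (CurveCohLib.finite_HH (k := k) hLc 0)
    (CurveCohLib.finite_HH (k := K) (CurveDeg.isCoh_of_isInvertible hL') 0) hggL'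

include k in
/-- Nef invertible modules have no `H¹`. -/
theorem subsingleton_h1_of_nef (hdim : topologicalKrullDim X ≤ 1)
    (h1 : Subsingleton (Coh.HH X (Coh.structureModule X) 1))
    {L : X.Modules} (hL : PicF.IsInvertible L)
    (hnef : ∀ J : X.IdealSheafData, IsIntegral J.subscheme → topologicalKrullDim J.subscheme = 1 →
      0 ≤ @Curv2.deg k _ J.subscheme ⟨J.subschemeι ≫ (X ↘ (Spec (CommRingCat.of k)))⟩
        ((Scheme.Modules.pullback J.subschemeι).obj L) 1) :
    Subsingleton (Coh.HH X L 1) := by
  haveI := CurveCohLib.isNoetherian_of_proper (k := k) (X := X)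
  haveI : X.IsSeparated := ⟨by
    rw [← terminal.comp_from (X ↘ Spec (CommRingCat.of k))]
    infer_instance⟩
  exact subsingleton_h1_of_gg hdim (CurveDeg.isCoh_of_isInvertible hL) (gg_of_nef k hdim h1 hL hnef) h1

end Groth.Agent.Curves16
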