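import Groth.Agent.Curves16.NefGen
import Groth.Agent.SurfInt.Push
import Groth.Agent.AmpleVan.AdicBase
import Groth.Agent.CurveCohLib.Clifford
import Groth.Agent.CurveCohLib.Skyscraper
import Groth.Agent.Lib.CurveRR
import Groth.Agent.Lib.CurveDeg

/-!
# Nonnegative degree gives generation on integral subschemes
-/

noncomputable section

set_option linter.style.haveILetI false
set_option linter.unusedSectionVars false
set_option backward.isDefEq.respectTransparency false
set_option backward.isDefEq.respectTransparency.types false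

universe u

open CategoryTheory CategoryTheory.Limits AlgebraicGeometry TopologicalSpace Opposite
open Groth.Agent.PnCoh.Finite (mapLin)

namespace Groth.Agent.Curves16

open Groth.Agent

variable {X : Scheme.{u}}

theorem gg_of_iso {M N : X.Modules} (e : M ≅ N) (h : Curv2.IsGloballyGenerated M) :
    Curv2.IsGloballyGenerated N :=
  gg_of_epi e.hom h

/-- Direct images of globally generated coherent modules along closed immersions. -/
theorem gg_push {Z : Scheme.{u}} (i : Z ⟶ X) [IsClosedImmersion i] [CompactSpace Z]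
    (v : Coh.structureModule X ⟶ (Scheme.Modules.pushforward i).obj (Coh.structureModule Z)) [Epi v]
    {M : Z.Modules} (hM : Coh.IsCoh M) (h : Curv2.IsGloballyGenerated M) :
    Curv2.IsGloballyGenerated ((Scheme.Modules.pushforward i).obj M) := by
  obtain ⟨ι, s, hs⟩ := exists_generatedBy h
  obtain ⟨m, j, hj⟩ := AmpleVan.exists_fin_generatedBy hM s hs
  obtain ⟨p, hp⟩ := InvX.exists_epi_freeMod hj
  let F := Scheme.Modules.pushforward i
  haveI : F.Additive := Adjunction.right_adjoint_additive (Scheme.Modules.pullbackPushforwardAdjunction i)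
  haveI : Epi (F.map p) :=
    AmpleVan.epi_push i (QCoh.isQCoh_of_isFinLocFree (KFlatLib.isFinLocFree_freeMod m)) hM.1 p
  refine gg_of_epi (F.map p) (Euler.GG.isGloballyGenerated fun Y g hg => ?_)
  have hc : ∀ a, F.map (Sigma.ι (fun _ : Fin m => Coh.structureModule Z) a) ≫ g = 0 := fun a => by
    rw [← cancel_epi v, comp_zero, ← Category.assoc]
    exact hg _
  have hid : ∑ a, (Sigma.desc fun l : Fin m => if l = a then 𝟙 (Coh.structureModule Z) else 0) ≫
      Sigma.ι (fun _ : Fin m => Coh.structureModule Z) a = 𝟙 _ :=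
    Sigma.hom_ext _ _ fun a => by simp [Preadditive.comp_sum, ite_comp]
  rw [← Category.id_comp g, ← F.map_id, ← hid, F.map_sum, Preadditive.sum_comp]
  exact Finset.sum_eq_zero fun a _ => by rw [F.map_comp, Category.assoc, hc a, comp_zero]

/-- On an integral curve, a nonzero section leaves a quotient supported at closed points. -/
theorem support_cokernel_section {Z : Scheme.{u}} [IsNoetherian Z] [IsIntegral Z]
    (hdim : topologicalKrullDim Z = 1) {M : Z.Modules} (hM : PicF.IsInvertible M)
    (φ : Coh.structureModule Z ⟶ M) (hφ : φ ≠ 0) :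
    ∀ x ∈ CohB1.support (cokernel φ), IsClosed ({x} : Set Z) := by
  obtain ⟨W, ⟨⟨w, hw⟩⟩, hsurj⟩ :=
    CurveDeg.exists_open_surjective CurveDeg.isInvertible_structureModule hM φ hφ
  intro x hx
  by_contra hxc
  obtain rfl := CurveCohLib.eq_genericPoint_of_not_isClosed hdim hxc
  have hηW : genericPoint Z ∈ W := ((genericPoint_spec Z).specializes trivial).mem_open W.2 hw
  refine hx (subsingleton_of_forall_eq 0 fun z => ?_)
  let F := DerSch.stalkFunctor Z (genericPoint Z)
  obtain ⟨y, rfl⟩ := (ModuleCat.epi_iff_surjective (F.map (cokernel.π φ))).1 inferInstance z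
  obtain ⟨U, hxU, n, rfl⟩ := TopCat.Presheaf.exists_germ_eq M.presheaf y
  obtain ⟨m, hm⟩ := hsurj (U ⊓ W) inf_le_right (M.presheaf.map (homOfLE (inf_le_left : U ⊓ W ≤ U)).op n)
  rw [← M.presheaf.germ_res_apply (homOfLE (inf_le_left : U ⊓ W ≤ U)) _ ⟨hxU, hηW⟩ n, ← hm]
  refine (congrArg (F.map (cokernel.π φ))
    (DerSch.stalkFunctor_map_germ _ φ (U ⊓ W) ⟨hxU, hηW⟩ m).symm).trans ?_
  have hz : F.map φ ≫ F.map (cokernel.π φ) = 0 := by
    rw [← F.map_comp, cokernel.condition, F.map_zero]
  exact LinearMap.congr_fun (congrArg ModuleCat.Hom.hom hz) _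

theorem coe_support_primeIdealSheaf (ξ : X) : ((primeIdealSheaf ξ).support : Set X) = closure {ξ} := by
  rw [Scheme.IdealSheafData.coe_support_vanishingIdeal]
  rfl

variable (k : Type u) [Field k] [X.Over (Spec (CommRingCat.of k))] [IsProper (X ↘ Spec (CommRingCat.of k))]

include k in
theorem subsingleton_h1_subscheme (hdim : topologicalKrullDim X ≤ 1)
    (h1 : Subsingleton (Coh.HH X (Coh.structureModule X) 1)) (J : X.IdealSheafData) :
    Subsingleton (Coh.HH J.subscheme (Coh.structureModule J.subscheme) 1) := by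
  haveI := CurveCohLib.isNoetherian_of_proper (k := k) (X := X)
  haveI : X.IsSeparated := ⟨by
    rw [← terminal.comp_from (X ↘ Spec (CommRingCat.of k))]
    infer_instance⟩
  haveI := CurvePoint.epi_toSubscheme J
  letI : J.subscheme.Over (Spec (CommRingCat.of k)) := SurfInt.overComp k J.subschemeι
  obtain ⟨e⟩ := PnCoh.exists_linearEquiv_push k J.subschemeι rfl (StMod.isQCoh_structureModule J.subscheme) 1
  exact e.toEquiv.subsingleton_congr.2 (subsingleton_h1_quotient hdim QCoh.isQCoh_structureModule
    (ParShLib.isCoh_quotMod J).1 (ClSub.toSubscheme J) h1)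

include k in
/-- A module of nonnegative degree is generated on an integral closed subscheme. -/
theorem gg_tensor_prime (hdim : topologicalKrullDim X ≤ 1)
    (h1 : Subsingleton (Coh.HH X (Coh.structureModule X) 1)) {L : X.Modules} (hL : PicF.IsInvertible L) (ξ : X)
    (hnef : topologicalKrullDim (primeIdealSheaf ξ).subscheme = 1 →
      0 ≤ @Curv2.deg k _ (primeIdealSheaf ξ).subscheme
        ⟨(primeIdealSheaf ξ).subschemeι ≫ (X ↘ (Spec (CommRingCat.of k)))⟩
        ((Scheme.Modules.pullback (primeIdealSheaf ξ).subschemeι).obj L) 1) :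
    Curv2.IsGloballyGenerated ((DCoh.tensorBi.obj L).obj (ClSub.quotMod (primeIdealSheaf ξ))) := by
  haveI := CurveCohLib.isNoetherian_of_proper (k := k) (X := X)
  have hL1 := InvEnd.isFinLocFreeOfRank_one hL
  have hLf : FlatMod.IsFinLocFree L := fun y => let ⟨W, hy, he⟩ := hL1 y; ⟨W, 1, hy, he⟩
  set P := primeIdealSheaf ξ with hPdef
  by_cases hξ : IsClosed ({ξ} : Set X)
  · refine gg_of_closedSupport (isCoh_tensor hLf (ParShLib.isCoh_quotMod P)) fun x hx => ?_
    have hxP : x ∈ (P.support : Set X) := not_not.1 fun h => (CurveTensor.support_tensor_subset hx)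
      (ParShLib.subsingleton_stalk_quotMod P h)
    rw [hPdef, coe_support_primeIdealSheaf, hξ.closure_eq] at hxP
    rwa [Set.mem_singleton_iff.1 hxP]
  let i := P.subschemeι
  letI : P.subscheme.Over (Spec (CommRingCat.of k)) := SurfInt.overComp k i
  have hi : i ≫ (X ↘ Spec (CommRingCat.of k)) = P.subscheme ↘ Spec (CommRingCat.of k) := rfl
  haveI : IsIntegral P.subscheme := QCoh.isIntegral_closure_point ξ
  haveI := SurfInt.isProper_comp k i hi
  haveI := CurveCohLib.isNoetherian_of_proper (k := k) (X := P.subscheme)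
  haveI : P.subscheme.IsSeparated := ⟨by
    rw [← terminal.comp_from (P.subscheme ↘ Spec (CommRingCat.of k))]
    infer_instance⟩
  have hr : Set.range i = closure {ξ} := H23.RedSub.range_vanishingIdeal _
  have hZdim : topologicalKrullDim P.subscheme = 1 := by
    refine le_antisymm (i.isClosedEmbedding.isInducing.topologicalKrullDim_le.trans hdim)
      (Order.one_le_krullDim_iff.2 ?_)
    obtain ⟨z, -, hz⟩ := IsClosed.exists_closed_singleton (isClosed_univ (X := P.subscheme)) Set.univ_nonempty
    refine ⟨⟨{z}, isIrreducible_singleton, hz⟩, ⟨Set.univ, IrreducibleSpace.isIrreducible_univ _, isClosed_univ⟩,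
      lt_of_le_of_ne (Set.subset_univ _) fun h => hξ ?_⟩
    have hs : Set.range i = {i z} := by
      have h' : ({z} : Set P.subscheme) = Set.univ := congrArg IrreducibleCloseds.carrier h
      rw [← Set.image_univ, ← h']
      exact Set.image_singleton
    have hξz : ξ = i z := Set.mem_singleton_iff.1 (hs ▸ hr ▸ subset_closure rfl)
    rw [show ({ξ} : Set X) = closure {ξ} by rw [← hr, hs, hξz]]
    exact isClosed_closure
  have hdeg := hnef hZdim
  let M := (Scheme.Modules.pullback i).obj L
  have hM : PicF.IsInvertible M := PicClLib.isInvertible_pullback i hL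
  have hMc : Coh.IsCoh M := CurveDeg.isCoh_of_isInvertible hM
  have hZ1 := subsingleton_h1_subscheme k hdim h1 P
  haveI := CurveCohLib.finite_HH (k := k) hMc 0
  haveI := CurveCohLib.finite_HH (k := k) (QCoh.isCoh_structureModule' (X := P.subscheme)) 0
  have h0 : 0 < Module.finrank k (Coh.HH P.subscheme (Coh.structureModule P.subscheme) 0) := by
    haveI : Nontrivial (Coh.HH P.subscheme (Coh.structureModule P.subscheme) 0) := by
      haveI : Nonempty P.subscheme := inferInstance
      exact (Sheaf.H.equiv₀ (Coh.toAb (Coh.structureModule P.subscheme)) isTerminalTop).toEquiv.nontrivial_congr.2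
        (inferInstanceAs (Nontrivial Γ(P.subscheme, ⊤)))
    exact Module.finrank_pos
  have hh0 : 0 < Module.finrank k (Coh.HH P.subscheme M 0) := by
    have e1 := CurveRR.euler_eq_h0_sub_h1 k hZdim.le hMc.1 (X := P.subscheme)
    have e2 := CurveRR.euler_eq_h0_sub_h1 k hZdim.le (QCoh.isQCoh_structureModule (X := P.subscheme))
    rw [Module.finrank_zero_of_subsingleton (R := k) (M := Coh.HH P.subscheme (Coh.structureModule P.subscheme) 1)] at e2
    have hd : 0 ≤ Curv2.euler k P.subscheme M - (1 : ℕ) * Curv2.euler k P.subscheme (Coh.structureModule P.subscheme) :=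
      hdeg
    rw [e1, e2] at hd
    omega
  haveI := Module.nontrivial_of_finrank_pos hh0
  obtain ⟨t, ht⟩ := exists_ne (0 : Coh.HH P.subscheme M 0)
  let e₀ := Sheaf.H.equiv₀ (Coh.toAb M) isTerminalTop
  let φ : Coh.structureModule P.subscheme ⟶ M := QCoh.homOfTop (e₀ t)
  have hφ : φ ≠ 0 := fun h => ht (e₀.injective (by
    refine Eq.trans ?_ (map_zero e₀).symm
    have h1' := congrArg (fun ψ : Coh.structureModule P.subscheme ⟶ M => ψ.app ⊤ (1 : Γ(P.subscheme, ⊤))) h
    refine Eq.trans ?_ h1'
    show _ = (QCoh.homOfTop (e₀ t)).app ⊤ (1 : Γ(P.subscheme, ⊤))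
    rw [QCoh.homOfTop_app]
    simp))
  have hMgg : Curv2.IsGloballyGenerated M :=
    gg_of_hom_cokernel_torsion hZdim.le hZ1 QCoh.isCoh_structureModule' hMc φ
      (support_cokernel_section hZdim hM φ hφ) gg_structureModule
  haveI := CurvePoint.epi_toSubscheme P
  haveI := KFlatLib.isIso_projMod_of_isClosedImmersion i (Coh.structureModule P.subscheme) L
  refine gg_of_iso (Iso.symm ?_) (gg_push i (ClSub.toSubscheme P) hMc hMgg)
  exact swapIso L (ClSub.quotMod P) ≪≫ asIso (KFlatLib.projMod i (Coh.structureModule P.subscheme) L) ≪≫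
    (Scheme.Modules.pushforward i).mapIso (CurveTensor.structureTensorIso _)

/-- Over an algebraically closed field constants surject onto the functions of an integral subscheme. -/
theorem surjective_h0_toPrime [IsAlgClosed k] (ξ : X) :
    Function.Surjective (mapLin k (ClSub.toSubscheme (primeIdealSheaf ξ)) 0) := by
  set P := primeIdealSheaf ξ
  let i := P.subschemeι
  letI : P.subscheme.Over (Spec (CommRingCat.of k)) := SurfInt.overComp k i
  have hi : i ≫ (X ↘ Spec (CommRingCat.of k)) = P.subscheme ↘ Spec (CommRingCat.of k) := rfl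
  haveI : IsIntegral P.subscheme := QCoh.isIntegral_closure_point ξ
  haveI := SurfInt.isProper_comp k i hi
  obtain ⟨e⟩ := PnCoh.exists_linearEquiv_push k i hi (StMod.isQCoh_structureModule P.subscheme) 0
  have h0 : Module.finrank k (Coh.HH X (ClSub.quotMod P) 0) = 1 :=
    e.finrank_eq.symm.trans (CurveCohLib.Clifford.finrank_h0_structure k (X := P.subscheme))
  let one' : Coh.HH X (Coh.structureModule X) 0 :=
    (Sheaf.H.equiv₀ (Coh.toAb (Coh.structureModule X)) isTerminalTop).symm (1 : Γ(X, ⊤))
  have hne : mapLin k (ClSub.toSubscheme P) 0 one' ≠ 0 := fun h => by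
    have h' := congrArg (Sheaf.H.equiv₀ (Coh.toAb (ClSub.quotMod P)) isTerminalTop) h
    rw [map_zero] at h'
    have h'' : i.app ⊤ (1 : Γ(X, ⊤)) = 0 := by
      refine Eq.trans ?_ h'
      refine Eq.trans ?_ (Sheaf.H.equiv₀_naturality isTerminalTop
        ((QCoh.toAbFunctor X).map (ClSub.toSubscheme P)) one')
      exact congrArg ((ClSub.toSubscheme P).app ⊤) (AddEquiv.apply_symm_apply _ _).symm
    rw [map_one] at h''
    exact one_ne_zero (α := Γ(P.subscheme, ⊤)) h''
  intro y
  obtain ⟨c, hc⟩ := (finrank_eq_one_iff_of_nonzero' _ hne).1 h0 y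
  exact ⟨c • one', (map_smul _ c one').trans hc⟩

end Groth.Agent.Curves16
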