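import Groth.Agent.ArLefLib.Node
import Mathlib.RingTheory.Flat.FaithfullyFlat.Algebra
import Mathlib.RingTheory.RingHom.FaithfullyFlat
import Mathlib.RingTheory.IntegralClosure.IntegrallyClosed
import Mathlib.RingTheory.PowerSeries.Inverse
import Mathlib.RingTheory.UniqueFactorizationDomain.GCDMonoid
import Mathlib.RingTheory.PrincipalIdealDomain
import Mathlib.RingTheory.Polynomial.RationalRoot
import Mathlib.RingTheory.PowerSeries.Ideal
import Mathlib.Algebra.CharP.Algebra
import Mathlib.Algebra.CharP.Reduced

/-!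
# The ordinary double point is closed under `p`-th roots in its total ring of fractions
-/

set_option autoImplicit false

noncomputable section

universe u

open IsLocalRing

namespace Groth.Agent.Curves16.NodeFrob

open ArLefLib.Node

variable (K : Type u) [Field K]

/-- The power series of the node. -/
abbrev Node : Type u :=
  MvPowerSeries (Fin 2) K ⧸ Ideal.span {(MvPowerSeries.X 0 * MvPowerSeries.X 1 : MvPowerSeries (Fin 2) K)}

/-- The two branches. -/
def axis (j : Fin 2) : Node K →+* PowerSeries (ResidueField K) :=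
  Ideal.Quotient.lift _ (axisHom j) fun x hx => by
    obtain ⟨c, rfl⟩ := Ideal.mem_span_singleton'.1 hx
    fin_cases j <;> simp [axisHom_X_other]

theorem axis_mk (j : Fin 2) (f : MvPowerSeries (Fin 2) K) :
    axis K j (Ideal.Quotient.mk _ f) = axisHom j f := rfl

variable {K}

theorem eq_zero_of_axis {x : Node K} (h : ∀ j, axis K j x = 0) : x = 0 := by
  obtain ⟨f, rfl⟩ := Ideal.Quotient.mk_surjective x
  have hax : ∀ j : Fin 2, axisHom j f = 0 := fun j => h j
  have hπ : maximalIdeal K = Ideal.span {(0 : K)} := by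
    rw [Ideal.span_singleton_zero, isField_iff_maximalIdeal_eq.1 (Field.toIsField K)]
  obtain ⟨a, g, hg⟩ := Ideal.mem_span_pair.1
    (axis_decomp hπ (show (1 : Fin 2) ≠ 0 by decide) f (hax 0))
  rw [map_zero, mul_zero, zero_add] at hg
  have hg1 : axisHom 1 g = 0 := by
    have e := hax 1
    rw [← hg, map_mul, axisHom_X_self, mul_eq_zero] at e
    exact e.resolve_right PowerSeries.X_ne_zero
  obtain ⟨b, c, hc⟩ := Ideal.mem_span_pair.1
    (axis_decomp hπ (show (0 : Fin 2) ≠ 1 by decide) g hg1)
  rw [map_zero, mul_zero, zero_add] at hc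
  rw [Ideal.Quotient.eq_zero_iff_mem, Ideal.mem_span_singleton, ← hg, ← hc]
  exact ⟨c, by ring⟩

/-- Pairs of branches with equal constant terms come from the node. -/
theorem exists_axis (d : Fin 2 → PowerSeries (ResidueField K))
    (h : PowerSeries.constantCoeff (d 0) = PowerSeries.constantCoeff (d 1)) :
    ∃ x : Node K, ∀ j, axis K j x = d j := by
  classical
  choose l hl using fun (j : Fin 2) (n : ℕ) => residue_surjective (R := K) (PowerSeries.coeff n (d j))
  let f : MvPowerSeries (Fin 2) K := fun m =>
    if m = Finsupp.single 0 (m 0) then l 0 (m 0) else if m = Finsupp.single 1 (m 1) then l 1 (m 1) else 0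
  refine ⟨Ideal.Quotient.mk _ f, fun j => ?_⟩
  rw [axis_mk]
  ext n
  rw [coeff_axisHom, MvPowerSeries.coeff_apply]
  fin_cases j
  · show residue K (f (Finsupp.single 0 n)) = _
    simp [f, Finsupp.single_eq_same, hl]
  · show residue K (f (Finsupp.single 1 n)) = _
    rcases eq_or_ne n 0 with rfl | hn
    · simp only [Finsupp.single_zero, f]
      simp [hl, PowerSeries.coeff_zero_eq_constantCoeff_apply, h]
    · have hne : (Finsupp.single 1 n : Fin 2 →₀ ℕ) ≠ Finsupp.single 0 ((Finsupp.single 1 n : Fin 2 →₀ ℕ) 0) := by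
        intro e
        have := DFunLike.congr_fun e 1
        simp at this
        exact hn this
      simp only [f, if_neg hne]
      simp [Finsupp.single_eq_same, hl]

theorem axis_ne_zero {b : Node K} (hb : b ∈ nonZeroDivisors (Node K)) (j : Fin 2) : axis K j b ≠ 0 := by
  intro h0
  let t : Node K := Ideal.Quotient.mk _ (MvPowerSeries.X j)
  have hbt : t * b = 0 := eq_zero_of_axis fun i => by
    rw [map_mul]
    rcases eq_or_ne i j with rfl | hij
    · rw [h0, mul_zero]
    · rw [show axis K i t = 0 from axisHom_X_other hij.symm, zero_mul]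
  have ht : t = 0 := hb.2 t hbt
  have : axis K j t = PowerSeries.X := axisHom_X_self j
  rw [ht, map_zero] at this
  exact PowerSeries.X_ne_zero this.symm

/-- A fraction whose `p`-th power is integral is integral. -/
theorem dvd_of_pow_dvd_pow (p : ℕ) [Fact p.Prime] [CharP K p] {a b : Node K}
    (hb : b ∈ nonZeroDivisors (Node K)) (h : b ^ p ∣ a ^ p) : b ∣ a := by
  have hp : p ≠ 0 := (Fact.out : p.Prime).ne_zero
  haveI : CharP (ResidueField K) p := charP_of_injective_ringHom (residue K).injective p
  obtain ⟨c, hc⟩ := h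
  have hd : ∀ j, ∃ d, axis K j a = axis K j b * d := fun j => by
    have : axis K j b ^ p ∣ axis K j a ^ p := ⟨axis K j c, by rw [← map_pow, ← map_pow, ← map_mul, hc]⟩
    exact (IsIntegrallyClosed.pow_dvd_pow_iff hp).1 this
  choose d hd using hd
  have hdc : ∀ j, d j ^ p = axis K j c := fun j => by
    have := congrArg (axis K j) hc
    rw [map_pow, map_mul, map_pow, hd, mul_pow] at this
    exact mul_left_cancel₀ (pow_ne_zero p (axis_ne_zero hb j)) this
  obtain ⟨f, hf⟩ := Ideal.Quotient.mk_surjective c
  have hcc : PowerSeries.constantCoeff (axis K 0 c) = PowerSeries.constantCoeff (axis K 1 c) := by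
    rw [← hf, axis_mk, axis_mk, ← PowerSeries.coeff_zero_eq_constantCoeff_apply,
      ← PowerSeries.coeff_zero_eq_constantCoeff_apply, coeff_axisHom, coeff_axisHom, Finsupp.single_zero,
      Finsupp.single_zero]
  rw [← hdc, ← hdc, map_pow, map_pow] at hcc
  obtain ⟨x, hx⟩ := exists_axis d (frobenius_inj (ResidueField K) p hcc)
  refine ⟨x, ?_⟩
  rw [← sub_eq_zero]
  exact eq_zero_of_axis fun j => by rw [map_sub, map_mul, hx, hd, sub_self]

/-- Descent along a faithfully flat map to the node. -/
theorem dvd_of_faithfullyFlat (p : ℕ) [Fact p.Prime] [CharP K p] {R : Type u} [CommRing R] (h : R →+* Node K)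
    (hh : h.FaithfullyFlat) {a b : R} (hb : b ∈ nonZeroDivisors R) (hab : b ^ p ∣ a ^ p) : b ∣ a := by
  letI := h.toAlgebra
  haveI : Module.FaithfullyFlat R (Node K) := hh
  have hb' : h b ∈ nonZeroDivisors (Node K) := by
    have hr : IsSMulRegular R b := fun x y hxy => (mul_cancel_left_mem_nonZeroDivisors hb).1 hxy
    have h2 : IsSMulRegular (Node K) b := hr.of_flat
    have hz0 : ∀ z : Node K, h b * z = 0 → z = 0 := fun z hz => h2 (by
      show b • z = b • (0 : Node K)
      rw [Algebra.smul_def, Algebra.smul_def, mul_zero]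
      exact hz)
    exact ⟨hz0, fun z hz => hz0 z ((mul_comm _ _).trans hz)⟩
  obtain ⟨d, hd⟩ := dvd_of_pow_dvd_pow p (a := h a) hb' (by rw [← map_pow, ← map_pow]; exact map_dvd h hab)
  have : a ∈ ((Ideal.span {b}).map (algebraMap R (Node K))).comap (algebraMap R (Node K)) := by
    rw [Ideal.mem_comap, Ideal.map_span, Set.image_singleton, Ideal.mem_span_singleton]
    exact ⟨d, hd⟩
  rw [Ideal.comap_map_eq_self_of_faithfullyFlat] at this
  exact Ideal.mem_span_singleton.1 this

end Groth.Agent.Curves16.NodeFrob
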