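import Mathlib.AlgebraicGeometry.AffineScheme
import Mathlib.AlgebraicGeometry.Properties
import Mathlib.RingTheory.Ideal.MinimalPrime.Noetherian
import Mathlib.RingTheory.Flat.Stability
import Groth.Agent.AModX.Res

/-!
# Functions on a birational affine cover whose `p`-th power descends
-/

noncomputable section

set_option autoImplicit false
set_option backward.isDefEq.respectTransparency false
set_option backward.isDefEq.respectTransparency.types false

universe u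

open CategoryTheory AlgebraicGeometry TopologicalSpace Opposite

namespace Groth.Agent.Curves16

open Groth.Agent.AModX

/-- Fractions with integral `p`-th power are integral. -/
def RootClosed (p : ℕ) (R : Type u) [CommRing R] : Prop :=
  ∀ a b : R, b ∈ nonZeroDivisors R → b ^ p ∣ a ^ p → b ∣ a

variable {C C' : Scheme.{u}}

/-- Functions on a reduced scheme agreeing on an open meeting every nonempty open are equal. -/
theorem eq_zero_of_meets [IsReduced C] {W D : C.Opens} (f : Γ(C, W))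
    (hD : ∀ O : C.Opens, O ≤ W → Nonempty O → ∃ z, z ∈ O ∧ z ∈ D)
    (h : ∀ z ∈ D, z ∉ C.basicOpen f) : f = 0 := by
  refine eq_zero_of_basicOpen_eq_bot f ?_
  refine Opens.ext (Set.eq_empty_iff_forall_notMem.2 fun z hz => ?_)
  obtain ⟨z', hz', hzD⟩ := hD _ (C.basicOpen_le f) ⟨⟨z, hz⟩⟩
  exact h z' hzD hz'

theorem notMem_basicOpen_of_res_eq_zero {W D : C.Opens} (hDW : D ≤ W) {f : Γ(C, W)}
    (h : resR hDW f = 0) {z : C} (hz : z ∈ D) : z ∉ C.basicOpen f := fun hzf => by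
  have : z ∈ C.basicOpen (resR hDW f) := by
    rw [show resR hDW f = C.presheaf.map (homOfLE hDW).op f from rfl, Scheme.basicOpen_res]
    exact ⟨hz, hzf⟩
  rw [h, Scheme.basicOpen_zero] at this
  exact this

variable (π : C' ⟶ C) (U : C.Opens) [IsIso (π ∣_ U)]

include U in
theorem bijective_app_of_le {W : C.Opens} (hW : W ≤ U) : Function.Bijective (π.app W) := by
  haveI : IsIso (π.app W) := by
    have e : U.ι ''ᵁ (U.ι ⁻¹ᵁ W) = W := by
      rw [Scheme.Hom.image_preimage_eq_opensRange_inf, Scheme.Opens.opensRange_ι]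
      exact inf_eq_right.2 hW
    have h : IsIso ((π ∣_ U).app (U.ι ⁻¹ᵁ W)) := inferInstance
    rw [morphismRestrict_app'] at h
    rw [← e]
    exact @IsIso.of_isIso_comp_right _ _ _ _ _ (π.app (U.ι ''ᵁ (U.ι ⁻¹ᵁ W)))
      (C'.presheaf.map (eqToHom (image_morphismRestrict_preimage π U (U.ι ⁻¹ᵁ W))).op) inferInstance h
  exact ConcreteCategory.bijective_of_isIso _

include U in
theorem meets_preimage (hU' : Dense ((π ⁻¹ᵁ U : C'.Opens) : Set C')) {W D : C.Opens}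
    (hD : ∀ O : C.Opens, O ≤ W → Nonempty O → ∃ z, z ∈ O ∧ z ∈ D) (O' : C'.Opens) (hO : O' ≤ π ⁻¹ᵁ W)
    (hne : Nonempty O') : ∃ z, z ∈ O' ∧ z ∈ π ⁻¹ᵁ D := by
  obtain ⟨⟨z₀, hz₀⟩⟩ := hne
  obtain ⟨z₁, hz₁, hzU⟩ := hU'.inter_open_nonempty _ O'.2 ⟨z₀, hz₀⟩
  let g := π ∣_ U
  let O : C.Opens := U.ι ''ᵁ (g ''ᵁ ((π ⁻¹ᵁ U).ι ⁻¹ᵁ O'))
  have hg : ∀ w : (π ⁻¹ᵁ U).toScheme, π ((π ⁻¹ᵁ U).ι w) = U.ι (g w) := fun w => by
    rw [← Scheme.Hom.comp_apply, ← Scheme.Hom.comp_apply, morphismRestrict_ι]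
  have hmem : ∀ z : C, z ∈ O ↔ ∃ w ∈ O', w ∈ π ⁻¹ᵁ U ∧ π w = z := fun z => by
    constructor
    · rintro ⟨v, ⟨⟨w, hwU⟩, hw, rfl⟩, rfl⟩
      exact ⟨w, hw, hwU, hg ⟨w, hwU⟩⟩
    · rintro ⟨w, hw, hwU, rfl⟩
      exact ⟨g ⟨w, hwU⟩, ⟨⟨w, hwU⟩, hw, rfl⟩, (hg ⟨w, hwU⟩).symm⟩
  obtain ⟨z, hzO, hzD⟩ := hD O (fun z hz => by
    obtain ⟨w, hw, -, rfl⟩ := (hmem z).1 hz
    exact hO hw) ⟨⟨_, (hmem (π z₁)).2 ⟨z₁, hz₁, hzU, rfl⟩⟩⟩
  obtain ⟨w, hw, -, rfl⟩ := (hmem z).1 hzO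
  exact ⟨w, hw, hzD⟩

theorem meets_dense (hU : Dense (U : Set C)) (W : C.Opens) (O : C.Opens) (_ : O ≤ W) (hne : Nonempty O) :
    ∃ z, z ∈ O ∧ z ∈ U := by
  obtain ⟨⟨z, hz⟩⟩ := hne
  exact hU.inter_open_nonempty _ O.2 ⟨z, hz⟩

/-- A regular function on an affine open whose nonvanishing locus is dense and inside a dense open. -/
theorem exists_basicOpen_le [IsLocallyNoetherian C] (hU : Dense (U : Set C)) {W : C.Opens} (hW : IsAffineOpen W) :
    ∃ b : Γ(C, W), C.basicOpen b ≤ U ∧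
      ∀ O : C.Opens, O ≤ W → Nonempty O → ∃ z, z ∈ O ∧ z ∈ C.basicOpen b := by
  classical
  haveI : IsNoetherianRing Γ(C, W) := IsLocallyNoetherian.component_noetherian ⟨W, hW⟩
  let T : Set (PrimeSpectrum Γ(C, W)) := ((hW.fromSpec ⁻¹ᵁ U : (Spec Γ(C, W)).Opens) : Set (Spec Γ(C, W)))ᶜ
  have hT : IsClosed T := (hW.fromSpec ⁻¹ᵁ U).2.isClosed_compl
  obtain ⟨I, hI⟩ := (PrimeSpectrum.isClosed_iff_zeroLocus_ideal T).1 hT
  have hmin : ∀ P ∈ minimalPrimes Γ(C, W), ¬ I ≤ P := fun P hP hle => by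
    haveI := Ideal.minimalPrimes_isPrime hP
    let q : PrimeSpectrum Γ(C, W) := ⟨P, inferInstance⟩
    have hq : q ∈ T := hI ▸ hle
    have hdense : Dense (((hW.fromSpec ⁻¹ᵁ U : (Spec Γ(C, W)).Opens) : Set (Spec Γ(C, W))) : Set (PrimeSpectrum Γ(C, W))) :=
      hU.preimage hW.fromSpec.isOpenEmbedding.isOpenMap
    obtain ⟨t, ht, htmin⟩ : ∃ t : Γ(C, W), t ∉ P ∧ ∀ r : PrimeSpectrum Γ(C, W), t ∉ r.asIdeal → P ≤ r.asIdeal := by
      obtain ⟨t, ht⟩ : ∃ t : Γ(C, W), t ∉ P ∧ ∀ Q ∈ minimalPrimes Γ(C, W), Q ≠ P → t ∈ Q := by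
        let others := ((minimalPrimes.finite_of_isNoetherianRing Γ(C, W)).toFinset.erase P)
        have : ¬ others.inf id ≤ P := fun hle => by
          obtain ⟨Q, hQ, hQP⟩ := (Ideal.IsPrime.inf_le' inferInstance).1 hle
          simp only [others, Finset.mem_erase, Set.Finite.mem_toFinset] at hQ
          exact hQ.1 (le_antisymm hQP (hP.2 ⟨Ideal.minimalPrimes_isPrime hQ.2, bot_le⟩ hQP))
        obtain ⟨t, ht, htP⟩ := SetLike.not_le_iff_exists.1 this
        refine ⟨t, htP, fun Q hQ hne => ?_⟩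
        exact (Finset.inf_le (f := id) (show Q ∈ others by simp [others, hQ, hne])) ht
      refine ⟨t, ht.1, fun r hr => ?_⟩
      obtain ⟨Q, hQ, hQr⟩ := Ideal.exists_minimalPrimes_le (show ⊥ ≤ r.asIdeal from bot_le)
      rcases eq_or_ne Q P with rfl | hne
      · exact hQr
      · exact absurd (hQr (ht.2 Q hQ hne)) hr
    obtain ⟨r, hr, hrU⟩ := hdense.inter_open_nonempty _ (PrimeSpectrum.basicOpen t).2 ⟨q, ht⟩
    have hqr : q ⤳ r := (PrimeSpectrum.le_iff_specializes q r).1 (htmin r hr)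
    exact hq (hqr.mem_open (hW.fromSpec ⁻¹ᵁ U).2 hrU)
  obtain ⟨b, hbI, hb⟩ : ∃ b ∈ I, ∀ P ∈ minimalPrimes Γ(C, W), b ∉ P := by
    by_contra! hcon
    let fin := minimalPrimes.finite_of_isNoetherianRing Γ(C, W)
    obtain ⟨P, hP, hle⟩ := (Ideal.subset_union_prime (s := fin.toFinset) (f := id) ⊥ ⊥
      (fun P hP _ _ => Ideal.minimalPrimes_isPrime (fin.mem_toFinset.1 hP))).1
      (fun x hx => by
        obtain ⟨P, hP, hxP⟩ := hcon x hx
        exact Set.mem_biUnion (fin.mem_toFinset.2 hP) hxP)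
    exact hmin P (fin.mem_toFinset.1 hP) hle
  refine ⟨b, fun z hz => ?_, fun O hO hne => ?_⟩
  · have hzW : z ∈ W := C.basicOpen_le b hz
    obtain ⟨q, rfl⟩ : ∃ q, hW.fromSpec q = z := hW.range_fromSpec.ge hzW
    by_contra hzU
    have hqb : q ∈ hW.fromSpec ⁻¹ᵁ C.basicOpen b := hz
    rw [hW.fromSpec_preimage_basicOpen b] at hqb
    exact hqb ((hI.le (show q ∈ T from hzU)) hbI)
  · obtain ⟨⟨z, hz⟩⟩ := hne
    obtain ⟨q, rfl⟩ : ∃ q, hW.fromSpec q = z := hW.range_fromSpec.ge (hO hz)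
    obtain ⟨P, hP, hPq⟩ := Ideal.exists_minimalPrimes_le (show ⊥ ≤ (q : PrimeSpectrum Γ(C, W)).asIdeal from bot_le)
    let r : PrimeSpectrum Γ(C, W) := ⟨P, Ideal.minimalPrimes_isPrime hP⟩
    have hrq : r ⤳ q := (PrimeSpectrum.le_iff_specializes r q).1 hPq
    refine ⟨hW.fromSpec r, (hrq.map hW.fromSpec.continuous).mem_open O.2 hz, ?_⟩
    have : r ∈ PrimeSpectrum.basicOpen b := hb P hP
    rw [← hW.fromSpec_preimage_basicOpen b] at this
    exact this

variable [IsReduced C] [IsReduced C'] (hU : Dense (U : Set C)) (hU' : Dense ((π ⁻¹ᵁ U : C'.Opens) : Set C'))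

include U hU in
theorem app_injective (V : C.Opens) : Function.Injective (π.app V) := by
  refine (injective_iff_map_eq_zero _).2 fun f hf => ?_
  refine eq_zero_of_meets (D := V ⊓ U) f (fun O hO hne => ?_) fun z hz => ?_
  · obtain ⟨z, hzO, hzU⟩ := meets_dense U hU V O hO hne
    exact ⟨z, hzO, hO hzO, hzU⟩
  · refine notMem_basicOpen_of_res_eq_zero (inf_le_left : V ⊓ U ≤ V) ?_ hz
    refine (bijective_app_of_le π U (inf_le_right : V ⊓ U ≤ U)).1 ?_
    rw [map_zero]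
    refine (congr($(π.naturality (homOfLE (inf_le_left : V ⊓ U ≤ V)).op) f)).trans ?_
    exact (congrArg (C'.presheaf.map _) hf).trans (map_zero _)

theorem app_resR {W W' : C.Opens} (h : W' ≤ W) (f : Γ(C, W)) :
    π.app W' (resR h f) = resR (π.preimage_mono h) (π.app W f) :=
  congr($(π.naturality (homOfLE h).op) f)

include U hU hU' in
/-- A function whose `p`-th power descends, descends. -/
theorem exists_app_eq_of_pow [IsLocallyNoetherian C] (p : ℕ)
    (hroot : ∀ x, x ∉ U → RootClosed p (C.presheaf.stalk x))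
    (V : C.Opens) (s : Γ(C', π ⁻¹ᵁ V)) (c : Γ(C, V)) (hc : π.app V c = s ^ p) :
    ∃ d, π.app V d = s := by
  classical
  have hloc : ∀ x : V, ∃ (W : C.Opens) (hW : W ≤ V) (_ : x.1 ∈ W) (d : Γ(C, W)),
      π.app W d = resR (π.preimage_mono hW) s := fun x => by
    by_cases hxU : x.1 ∈ U
    · obtain ⟨d, hd⟩ := (bijective_app_of_le π U (inf_le_right : V ⊓ U ≤ U)).2
        (resR (π.preimage_mono inf_le_left) s)
      exact ⟨V ⊓ U, inf_le_left, ⟨x.2, hxU⟩, d, hd⟩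
    obtain ⟨_, ⟨W, hW, rfl⟩, hxW, hWV⟩ := C.isBasis_affineOpens.exists_subset_of_mem_open x.2 V.2
    obtain ⟨b, hbU, hmeet⟩ := exists_basicOpen_le U hU hW
    let D := C.basicOpen b
    have hDW : D ≤ W := C.basicOpen_le b
    haveI := hW.isLocalization_basicOpen b
    obtain ⟨t, ht⟩ := (bijective_app_of_le π U hbU).2 (resR (π.preimage_mono (hDW.trans hWV)) s)
    obtain ⟨⟨a, ⟨_, N, rfl⟩⟩, ha⟩ := IsLocalization.surj (Submonoid.powers b) t
    simp only at ha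
    change t * resR hDW (b ^ N) = resR hDW a at ha
    let sW := resR (π.preimage_mono hWV) s
    have hmeet' := meets_preimage π U hU' hmeet
    have hab : π.app W a = π.app W (b ^ N) * sW := by
      rw [← sub_eq_zero]
      refine eq_zero_of_meets (D := π ⁻¹ᵁ D) _ hmeet' fun z hz =>
        notMem_basicOpen_of_res_eq_zero (π.preimage_mono hDW) ?_ hz
      rw [map_sub, map_mul, ← app_resR π hDW, ← app_resR π hDW, ← ha, map_mul, resR_resR, ht, sub_eq_zero, mul_comm]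
    have hcb : (b ^ N) ^ p * resR hWV c = a ^ p := app_injective π U hU W (by
      simp only [map_mul, map_pow] at hab ⊢
      rw [app_resR, hc, hab, mul_pow, map_pow])
    letI := TopCat.Presheaf.algebra_section_stalk C.presheaf (⟨x.1, hxW⟩ : W)
    haveI := hW.isLocalization_stalk ⟨x.1, hxW⟩
    have hbn : b ^ N ∈ nonZeroDivisors Γ(C, W) := by
      have key : ∀ f : Γ(C, W), f * b ^ N = 0 → f = 0 := fun f hf => by
        refine eq_zero_of_meets (D := D) f hmeet fun z hz => notMem_basicOpen_of_res_eq_zero hDW ?_ hz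
        have hu : IsUnit (resR hDW (b ^ N)) := by
          rw [map_pow]; exact (isUnit_resR hDW b le_rfl).pow N
        refine hu.mul_left_eq_zero.1 ?_
        rw [← map_mul, hf, map_zero]
      exact ⟨fun f hf => key f ((mul_comm _ _).trans hf), key⟩
    let g := C.presheaf.germ W x.1 hxW
    have hgn : g (b ^ N) ∈ nonZeroDivisors (C.presheaf.stalk x.1) :=
      IsLocalization.map_nonZeroDivisors_le
        (hW.primeIdealOf ⟨x.1, hxW⟩).asIdeal.primeCompl (C.presheaf.stalk x.1) ⟨_, hbn, rfl⟩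
    obtain ⟨d₀, hd₀⟩ := hroot x.1 hxU (g a) (g (b ^ N)) hgn ⟨g (resR hWV c), by rw [← map_pow, ← map_pow, ← map_mul, hcb]⟩
    obtain ⟨W₁, hxW₁, d₁, rfl⟩ := C.presheaf.exists_germ_eq (x := x.1) d₀
    let W₂ := W₁ ⊓ W
    have h2 : C.presheaf.germ W₂ x.1 ⟨hxW₁, hxW⟩ (resR inf_le_right a) =
        C.presheaf.germ W₂ x.1 ⟨hxW₁, hxW⟩ (resR inf_le_right (b ^ N) * resR inf_le_left d₁) := by
      rw [map_mul]
      exact (C.presheaf.germ_res_apply _ _ _ _).trans (hd₀.trans (congrArg₂ (· * ·)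
        (C.presheaf.germ_res_apply _ _ _ _).symm (C.presheaf.germ_res_apply _ _ _ _).symm))
    obtain ⟨W₃, hxW₃, i₁, i₂, h3⟩ := C.presheaf.germ_eq x.1 _ _ _ _ h2
    change resR i₁.le _ = resR i₂.le _ at h3
    rw [map_mul, resR_resR, resR_resR, resR_resR] at h3
    have hW₃W : W₃ ≤ W := i₁.le.trans inf_le_right
    refine ⟨W₃, hW₃W.trans hWV, hxW₃, resR (i₂.le.trans inf_le_left) d₁, ?_⟩
    rw [← sub_eq_zero]
    refine eq_zero_of_meets (D := π ⁻¹ᵁ (W₃ ⊓ D)) _ (meets_preimage π U hU' fun O hO hne => ?_) fun z hz =>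
      notMem_basicOpen_of_res_eq_zero (π.preimage_mono inf_le_left) ?_ hz
    · obtain ⟨z, hzO, hzD⟩ := hmeet O (hO.trans hW₃W) hne
      exact ⟨z, hzO, hO hzO, hzD⟩
    have hu : IsUnit (resR (π.preimage_mono (inf_le_left : W₃ ⊓ D ≤ W₃)) (π.app W₃ (resR hW₃W (b ^ N)))) := by
      rw [← app_resR π (inf_le_left : W₃ ⊓ D ≤ W₃), resR_resR, map_pow]
      exact ((isUnit_resR _ b inf_le_right).pow N).map _
    refine hu.mul_right_eq_zero.1 ?_
    rw [← map_mul, mul_sub, ← map_mul, ← h3, app_resR, hab, map_mul, ← app_resR π hW₃W, resR_resR, sub_self, map_zero]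
  choose W hW hxW d hd using hloc
  obtain ⟨e, he, -⟩ := TopCat.Sheaf.existsUnique_gluing' C.sheaf W V (fun q => homOfLE (hW q))
    (fun q hq => Opens.mem_iSup.2 ⟨⟨q, hq⟩, hxW ⟨q, hq⟩⟩) d fun q r => app_injective π U hU _ (by
      show π.app _ (resR inf_le_left (d q)) = π.app _ (resR inf_le_right (d r))
      rw [app_resR, app_resR, hd, hd, resR_resR, resR_resR])
  refine ⟨e, ?_⟩
  refine TopCat.Sheaf.eq_of_locally_eq' C'.sheaf (fun q => π ⁻¹ᵁ W q) (π ⁻¹ᵁ V)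
    (fun q => homOfLE (π.preimage_mono (hW q)))
    (fun z hz => Opens.mem_iSup.2 ⟨⟨π z, hz⟩, hxW ⟨π z, hz⟩⟩) _ _ fun q => ?_
  show resR (π.preimage_mono (hW q)) (π.app V e) = resR (π.preimage_mono (hW q)) s
  rw [← app_resR π (hW q), ← hd]
  exact congrArg _ (he q)

end Groth.Agent.Curves16
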