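import Groth.Agent.Curves16.NodeFrob
import Groth.Agent.Curves16.RootClosed
import Groth.Agent.DescLib.Reduced
import Groth.Agent.LC.CanonComplete
import Groth.Agent.GrpSchLib.SmoothRegular
import Groth.Agent.RegLoc6.Normal
import Groth.Prelude.Def_CurvBase

/-!
# Local rings of at-worst-nodal curves are closed under `p`-th roots
-/

noncomputable section

set_option autoImplicit false
set_option backward.isDefEq.respectTransparency false
set_option backward.isDefEq.respectTransparency.types false

universe u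

open CategoryTheory CategoryTheory.Limits AlgebraicGeometry

namespace Groth.Agent.Curves16

variable {k : Type u} [Field k] {X : Scheme.{u}} [X.Over (Spec (CommRingCat.of k))]
  [LocallyOfFiniteType (X ↘ Spec (CommRingCat.of k))]

theorem rootClosed_of_smooth (p : ℕ) (hp : p ≠ 0) {x : X} {U : X.Opens} (hx : x ∈ U)
    [Smooth (U.ι ≫ (X ↘ Spec (CommRingCat.of k)))] : RootClosed p (X.presheaf.stalk x) := by
  let e := (asIso (U.ι.stalkMap ⟨x, hx⟩)).commRingCatIsoToRingEquiv
  haveI := GrpSchLib.isRegularLocalRing_stalk_of_smooth (U.ι ≫ (X ↘ Spec (CommRingCat.of k))) ⟨x, hx⟩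
  haveI := RegLoc6.isDomain_of_isRegularLocalRing (U.toScheme.presheaf.stalk ⟨x, hx⟩)
  haveI := RegLoc6.isIntegrallyClosed_of_isRegularLocalRing (U.toScheme.presheaf.stalk ⟨x, hx⟩)
  intro a b _ hab
  have : e b ^ p ∣ e a ^ p := by rw [← map_pow, ← map_pow]; exact map_dvd e hab
  obtain ⟨d, hd⟩ := (IsIntegrallyClosed.pow_dvd_pow_iff hp).1 this
  exact ⟨e.symm d, e.injective (by rw [map_mul, RingEquiv.apply_symm_apply]; exact hd)⟩

theorem rootClosed_of_isNode (p : ℕ) [Fact p.Prime] [CharP k p] {x : X} (hx : Curv2.IsNode k X x) :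
    RootClosed p (X.presheaf.stalk x) := by
  obtain ⟨-, xb, rfl, hodp⟩ := hx
  let π := Curv2.bcFst k X (AlgebraicClosure k)
  haveI : CharP (AlgebraicClosure k) p := charP_of_injective_ringHom (algebraMap k _).injective p
  haveI : LocallyOfFiniteType (Curv2.bcSnd k X (AlgebraicClosure k)) := MorphismProperty.pullback_snd _ _ ‹_›
  haveI : IsLocallyNoetherian (Curv2.bc k X (AlgebraicClosure k)) :=
    LocallyOfFiniteType.isLocallyNoetherian (Curv2.bcSnd k X (AlgebraicClosure k))
  obtain ⟨e, -⟩ := hodp
  haveI : Flat (Spec.map (CommRingCat.ofHom (algebraMap k (AlgebraicClosure k)))) :=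
    (HasRingHomProperty.Spec_iff (P := @Flat)).2 (RingHom.flat_algebraMap_iff.2 inferInstance)
  haveI : Flat π := MorphismProperty.pullback_fst _ _ ‹_›
  haveI := LC.Canon.faithfullyFlat_completion (R := (Curv2.bc k X (AlgebraicClosure k)).presheaf.stalk xb)
  have h1 : (e.toRingHom.comp (algebraMap ((Curv2.bc k X (AlgebraicClosure k)).presheaf.stalk xb) _)).FaithfullyFlat :=
    RingHom.FaithfullyFlat.stableUnderComposition _ _ (RingHom.faithfullyFlat_algebraMap_iff.2 inferInstance)
      (RingHom.FaithfullyFlat.of_bijective e.bijective)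
  have h2 := RingHom.FaithfullyFlat.stableUnderComposition _ _ (DescLib.faithfullyFlat_stalkMap π xb) h1
  intro a b hb hab
  exact NodeFrob.dvd_of_faithfullyFlat (K := AlgebraicClosure k) p _ h2 hb hab

theorem rootClosed_of_atWorstNodal (p : ℕ) [Fact p.Prime] [CharP k p] (hX : Curv2.AtWorstNodal k X) {x : X}
    (hx : IsClosed ({x} : Set X)) : RootClosed p (X.presheaf.stalk x) := by
  rcases hX x hx with ⟨U, hU, hsm⟩ | hn
  · exact rootClosed_of_smooth (k := k) p (Fact.out : p.Prime).ne_zero hU
  · exact rootClosed_of_isNode p hn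

end Groth.Agent.Curves16
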