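import Groth.Agent.Curves16.EmbedOver

/-!
# Normally generated ample modules are very ample
-/

noncomputable section

set_option linter.style.haveILetI false
set_option linter.unusedSectionVars false
set_option backward.isDefEq.respectTransparency false
set_option backward.isDefEq.respectTransparency.types false

universe u

open CategoryTheory CategoryTheory.Limits AlgebraicGeometry TopologicalSpace Opposite

namespace Groth.Agent.Curves16

open Groth.Agent Groth.Agent.InvX

variable {X : Scheme.{u}}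

theorem exists_sum_of_mem_closure {M N : X.Modules} {z : Γ(CohB1.tensorMod M N, ⊤)}
    (hz : z ∈ AddSubgroup.closure {t | ∃ (m : M.val.obj (op ⊤)) (s : N.val.obj (op ⊤)),
      t = SecTwist.tmul M N ⊤ m s}) :
    ∃ (r : Type u) (_ : Fintype r) (a : r → Γ(M, ⊤)) (b : r → Γ(N, ⊤)), z = ∑ j, InvX.tmul (a j) (b j) := by
  induction hz using AddSubgroup.closure_induction with
  | mem t ht =>
    obtain ⟨m, s, rfl⟩ := ht
    refine ⟨PUnit, inferInstance, fun _ => m, fun _ => s, ?_⟩
    rw [Finset.univ_unique, Finset.sum_singleton]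
    rfl
  | zero => exact ⟨PEmpty, inferInstance, fun j => j.elim, fun j => j.elim, by simp⟩
  | add t t' _ _ h h' =>
    obtain ⟨r, hr, a, b, rfl⟩ := h
    obtain ⟨r', hr', a', b', rfl⟩ := h'
    refine ⟨r ⊕ r', inferInstance, Sum.elim a a', Sum.elim b b', ?_⟩
    rw [Fintype.sum_sum_type]
    rfl
  | neg t _ h =>
    obtain ⟨r, hr, a, b, rfl⟩ := h
    refine ⟨r, hr, fun j => (-1 : Γ(X, ⊤)) • a j, b, ?_⟩
    rw [← Finset.sum_neg_distrib]
    refine Finset.sum_congr rfl fun j _ => ?_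
    rw [InvX.tmul_smul_left, neg_one_smul]

/-- An ample module whose sections generate all powers is globally generated. -/
theorem gg_of_products [X.IsSeparated] {L : X.Modules} (hA : CohB1.IsAmple L)
    (hmul : ∀ (N : ℕ) (z : Γ(CohB1.tensorPow L (N + 2), ⊤)), ∃ (r : Type u) (_ : Fintype r)
      (a : r → Γ(CohB1.tensorPow L (N + 1), ⊤)) (b : r → Γ(L, ⊤)), z = ∑ j, InvX.tmul (a j) (b j)) :
    Curv2.IsGloballyGenerated L := by
  have hL := hA.1
  haveI := hA.2.1
  refine InvX.isGloballyGenerated_of_generated (s := fun t : Γ(L, ⊤) => t) fun x => eq_top_iff.2 fun m _ => ?_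
  obtain ⟨U, hxU, e, he⟩ := InvX.exists_frame hL x
  by_cases hne : ∃ (t : Γ(L, ⊤)) (c : Γ(X, U)),
      AModX.res L (le_top : U ≤ ⊤) t = c • e ∧ IsUnit (X.presheaf.germ U x hxU c)
  · obtain ⟨t, c, ht, hc⟩ := hne
    obtain ⟨d, hd⟩ := (he.germ_bijective hxU).2 m
    obtain ⟨v, hv⟩ := hc
    rw [← hd]
    refine Submodule.smul_mem _ d ?_
    have h := congrArg (L.presheaf.germ U x hxU) ht
    rw [QCoh.germ_smul', InvX.germ_res' (le_top : U ≤ ⊤) hxU, ← hv] at h
    rw [show L.presheaf.germ U x hxU e = (↑v⁻¹ : X.presheaf.stalk x) • L.presheaf.germ ⊤ x trivial t by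
      rw [h, ← mul_smul, Units.inv_mul, one_smul]]
    exact Submodule.smul_mem _ _ (Submodule.subset_span ⟨t, rfl⟩)
  exfalso
  push Not at hne
  let m₀ := IsLocalRing.maximalIdeal (X.presheaf.stalk x)
  have hone : ∀ z : Γ(L, ⊤), ∃ c, AModX.res L (le_top : U ≤ ⊤) z = c • e ∧ X.presheaf.germ U x hxU c ∈ m₀ := fun z => by
    obtain ⟨c, hc⟩ := he.exists_coord le_rfl (AModX.res L (le_top : U ≤ ⊤) z)
    rw [AModX.res_self] at hc
    exact ⟨c, hc, (IsLocalRing.mem_maximalIdeal _).2 (hne z c hc)⟩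
  have key : ∀ (N : ℕ) (z : Γ(CohB1.tensorPow L (N + 1), ⊤)), ∃ c,
      AModX.res _ (le_top : U ≤ ⊤) z = c • AmpleX.powElt e (N + 1) ∧ X.presheaf.germ U x hxU c ∈ m₀ := by
    intro N
    induction N with
    | zero =>
      intro z
      obtain ⟨B, rfl⟩ := exists_one_tmul hL z
      obtain ⟨c, hB, hc⟩ := hone B
      refine ⟨c, ?_, hc⟩
      refine (InvX.res_tmul _ _ _).trans ?_
      rw [hB, InvX.tmul_smul_right]
      exact congrArg (c • ·) (congrArg (fun q => InvX.tmul q e) (map_one (AModX.resR (le_top : U ≤ ⊤))))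
    | succ N ih =>
      intro z
      obtain ⟨r, hr, a, b, hz⟩ := hmul N z
      choose c hc hcm using fun j => ih (a j)
      choose d hd hdm using fun j => hone (b j)
      refine ⟨∑ j, c j * d j, ?_, ?_⟩
      · rw [hz]
        refine (res_finset_sum _ _).trans ?_
        rw [Finset.sum_smul]
        refine Finset.sum_congr rfl fun j _ => ?_
        refine (InvX.res_tmul _ _ _).trans ?_
        rw [hc, hd, InvX.tmul_smul_left, InvX.tmul_smul_right, ← mul_smul]
        rfl
      · rw [map_sum]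
        exact Ideal.sum_mem _ fun j _ => by rw [map_mul]; exact Ideal.mul_mem_left _ _ (hdm j)
  obtain ⟨a, ha, κ, _, σ, -, -, hcov⟩ := AmpleX.exists_cover_genLocus hA
  obtain ⟨N, rfl⟩ : ∃ N, a = N + 1 := ⟨a - 1, by omega⟩
  obtain ⟨i, hi⟩ := hcov x
  obtain ⟨c, hc, hcm⟩ := key N (InvX.one (σ i))
  have hmem : x ∈ CohB1.genLocus _ (σ i) ⊓ U := ⟨hi, hxU⟩
  rw [InvX.genLocus_inf (σ i) (AmpleX.isFrame_powElt he (N + 1)) hc] at hmem
  exact (IsLocalRing.mem_maximalIdeal _).1 hcm ((X.mem_basicOpen c x hxU).1 hmem)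

variable {R : Type u} [CommRing R] [IsNoetherianRing R] [X.Over (Spec (CommRingCat.of R))]
  [IsProper (X ↘ Spec (CommRingCat.of R))]

/-- Normally generated ample modules are relatively very ample. -/
theorem exists_embedding_of_products {L : X.Modules} (hA : CohB1.IsAmple L)
    (hmul : ∀ (N : ℕ) (z : Γ(CohB1.tensorPow L (N + 2), ⊤)), ∃ (r : Type u) (_ : Fintype r)
      (a : r → Γ(CohB1.tensorPow L (N + 1), ⊤)) (b : r → Γ(L, ⊤)), z = ∑ j, InvX.tmul (a j) (b j)) :
    ∃ (n : ℕ) (i : X ⟶ CohB1.ProjSpaceOver n (Spec (CommRingCat.of R))), IsClosedImmersion i ∧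
      i ≫ pullback.snd (CohB1.ProjSpace.toSpec n (ULift.{u} ℤ)) (specULiftZIsTerminal.from (Spec (CommRingCat.of R))) =
        X ↘ Spec (CommRingCat.of R) ∧
      Nonempty (L ≅ (Scheme.Modules.pullback i).obj (Twist.twistOver n (Spec (CommRingCat.of R)) 1)) := by
  haveI : X.IsSeparated := ⟨by
    rw [← Limits.terminal.comp_from (X ↘ Spec (CommRingCat.of R))]
    infer_instance⟩
  haveI : IsLocallyNoetherian X := LocallyOfFiniteType.isLocallyNoetherian (X ↘ Spec (CommRingCat.of R))
  obtain ⟨n, s, hspan⟩ := exists_spanning R (CurveDeg.isCoh_of_isInvertible hA.1)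
  exact ⟨n, exists_embedding_over (X ↘ Spec (CommRingCat.of R)) hA s
    (generatedBy_of_spanning R (gg_of_products hA hmul) s hspan) hspan hmul⟩

end Groth.Agent.Curves16
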