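import Groth.Agent.Synt29.OmegaAffine
import Groth.Agent.SmoothDim.Basic
import Groth.Agent.VarDim.Top
import Groth.Agent.S5018
import Groth.Agent.S1488
import Groth.Agent.Lib.CurveBundle
import Groth.Agent.Lib.CurveDualPrep
import Mathlib.AlgebraicGeometry.Morphisms.Smooth

/-! Differentials of smooth integral curves are invertible. -/

noncomputable section

set_option linter.style.haveILetI false
set_option backward.isDefEq.respectTransparency false
set_option backward.isDefEq.respectTransparency.types false

universe u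

open CategoryTheory CategoryTheory.Limits AlgebraicGeometry TopologicalSpace Opposite

namespace Groth.Agent.Curves16

open Groth.Agent

variable {k : Type u} [Field k] {X : Scheme.{u}} (f : X ⟶ Spec (CommRingCat.of k))

/-- The coordinate ring of an affine open of an integral scheme of finite type has the dimension of the scheme. -/
theorem ringKrullDim_affineOpen [IsIntegral X] [LocallyOfFiniteType f] {V : X.Opens} (hV : IsAffineOpen V)
    [Nonempty V] : ringKrullDim Γ(X, V) = topologicalKrullDim X := by
  have h1 : topologicalKrullDim (V : Set X) = ringKrullDim Γ(X, V) :=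
    (show topologicalKrullDim V.toScheme = topologicalKrullDim (Spec Γ(X, V)) from
      IsHomeomorph.topologicalKrullDim_eq _ hV.isoSpec.hom.homeomorph.isHomeomorph).trans
      (PrimeSpectrum.topologicalKrullDim_eq_ringKrullDim Γ(X, V))
  obtain ⟨x, hx⟩ := (inferInstance : Nonempty V)
  have hη : genericPoint X ∈ V := ((genericPoint_spec X).specializes (Set.mem_univ x)).mem_open V.2 hx
  rw [← h1, VarDim.topologicalKrullDim_eq_deg_genericPoint f, VarDim.topologicalKrullDim_opens_eq_iSup_deg f]
  refine le_antisymm (iSup_le fun z => ?_) (le_iSup_of_le (⟨genericPoint X, hη⟩ : V) le_rfl)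
  exact_mod_cast VarDim.deg_le_of_specializes f (genericPoint_specializes z.1)

/-- The rank of the differentials of a smooth integral scheme is its dimension. -/
theorem rk_universal [IsIntegral X] [Smooth f] {n : ℕ} (hdim : topologicalKrullDim X = n) {Ω : X.Modules}
    {d : OmegaSh.Der f Ω} (hd : OmegaSh.IsUniversal d) : CurveBundle.rk Ω = n := by
  obtain ⟨W, hW, V, hV, hη, e, hstd⟩ := Smooth.exists_isStandardSmooth f (genericPoint X)
  haveI : Subsingleton (Spec (CommRingCat.of k)) := inferInstanceAs (Subsingleton (PrimeSpectrum k))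
  obtain rfl : W = ⊤ := top_le_iff.1 fun x _ => Subsingleton.elim (f (genericPoint X)) x ▸ e hη
  haveI : Nonempty V := ⟨⟨_, hη⟩⟩
  let ψ : Γ(Spec (CommRingCat.of k), ⊤) →+* Γ(X, V) := (f.appLE ⊤ V e).hom
  let ε : k ≃+* Γ(Spec (CommRingCat.of k), ⊤) := (Scheme.ΓSpecIso (CommRingCat.of k)).symm.commRingCatIsoToRingEquiv
  letI : Algebra Γ(Spec (CommRingCat.of k), ⊤) Γ(X, V) := ψ.toAlgebra
  haveI : Algebra.IsStandardSmooth Γ(Spec (CommRingCat.of k), ⊤) Γ(X, V) := hstd
  obtain ⟨I, J, _, _, ⟨P⟩⟩ := ‹Algebra.IsStandardSmooth Γ(Spec (CommRingCat.of k), ⊤) Γ(X, V)›.out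
  haveI hP : Algebra.IsStandardSmoothOfRelativeDimension P.dimension Γ(Spec (CommRingCat.of k), ⊤) Γ(X, V) :=
    ⟨I, J, inferInstance, inferInstance, P, rfl⟩
  obtain ⟨l⟩ := Synt29.OmegaStalk.exists_linearEquiv_sections hd hV hW e
  have hm : P.dimension = n := by
    letI : Algebra k Γ(X, V) := (ψ.comp ε.toRingHom).toAlgebra
    haveI : Algebra.IsStandardSmoothOfRelativeDimension P.dimension k Γ(X, V) :=
      RingHom.isStandardSmoothOfRelativeDimension_respectsIso.2 ψ ε
        (show RingHom.IsStandardSmoothOfRelativeDimension P.dimension ψ from hP)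
    have h1 := SmoothDim.ringKrullDim_eq k Γ(X, V) P.dimension
    rw [ringKrullDim_affineOpen f hV, hdim] at h1
    exact_mod_cast h1.symm
  haveI : Module.Finite Γ(X, V) Ω[Γ(X, V)⁄Γ(Spec (CommRingCat.of k), ⊤)] := inferInstance
  let b := Module.Free.chooseBasis Γ(X, V) Ω[Γ(X, V)⁄Γ(Spec (CommRingCat.of k), ⊤)]
  have hc : Fintype.card (Module.Free.ChooseBasisIndex Γ(X, V) Ω[Γ(X, V)⁄Γ(Spec (CommRingCat.of k), ⊤)]) = P.dimension := by
    rw [← Module.finrank_eq_card_chooseBasisIndex]
    exact Module.finrank_eq_of_rank_eq (Algebra.IsStandardSmoothOfRelativeDimension.rank_kaehlerDifferential _)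
  exact (QCoh.finrank_stalk_of_freeChart hV (Synt29.OmegaStalk.isQCoh_of_isUniversal hd)
    ((l.trans (b.reindex ((Fintype.equivFinOfCardEq (hc.trans hm)).trans Equiv.ulift.symm)).repr)) hη :)

/-- The differentials of a smooth integral curve form an invertible module. -/
theorem isInvertible_universal [IsIntegral X] [Smooth f] (hdim : topologicalKrullDim X = 1) {Ω : X.Modules}
    {d : OmegaSh.Der f Ω} (hd : OmegaSh.IsUniversal d) : PicF.IsInvertible Ω := by
  have h := S5018.result f ((S1488.result f).1 inferInstance).2 Ω d hd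
  exact CurveDuality.isInvertible_of_rank_one
    ((rk_universal f (n := 1) (by exact_mod_cast hdim) hd) ▸ CurveBundle.isFinLocFreeOfRank_rk h)

end Groth.Agent.Curves16
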