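import Groth.Agent.Curves16.GGExt
import Groth.Agent.QCoh.AnnIdeal
import Groth.Agent.QCoh.Devissage
import Groth.Agent.ParShLib.ResStalk
import Groth.Agent.CurveCohLib.GlobGen
import Groth.Agent.Lib.CurvePoint
import Groth.Agent.ZClosLib.Basic
import Mathlib.RingTheory.Ideal.AssociatedPrime.Localization

/-!
# Quotients of the structure sheaf: annihilators and the component through a point
-/

noncomputable section

set_option linter.style.haveILetI false
set_option linter.unusedSectionVars false
set_option backward.isDefEq.respectTransparency false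
set_option backward.isDefEq.respectTransparency.types false

universe u

open CategoryTheory CategoryTheory.Limits AlgebraicGeometry TopologicalSpace Opposite

namespace Groth.Agent.Curves16

open Groth.Agent

variable {X : Scheme.{u}}

local notation "toS" => ClSub.toSubscheme

theorem app_map {M N : X.Modules} (φ : M ⟶ N) {U V : X.Opens} (i : V ⟶ U) (s : Γ(M, U)) :
    φ.app V (M.presheaf.map i.op s) = N.presheaf.map i.op (φ.app U s) :=
  NatTrans.naturality_apply φ.mapPresheaf i.op s

/-- A germ killed by `O ⟶ O/A` comes from a section of `A`. -/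
theorem exists_ideal_germ (A : X.IdealSheafData) (x : X) (b : (DerSch.stalkFunctor X x).obj (Coh.structureModule X))
    (hb : ParShLib.stkMap (toS A) x b = 0) (W : X.Opens) (hxW : x ∈ W) :
    ∃ (U : X.affineOpens) (hx : x ∈ U.1) (r : Γ(X, U.1)), U.1 ≤ W ∧ r ∈ A.ideal U ∧
      b = (Coh.structureModule X).presheaf.germ U.1 x hx r := by
  obtain ⟨V, hxV, s, rfl⟩ := TopCat.Presheaf.exists_germ_eq (Coh.structureModule X).presheaf b
  rw [ParShLib.stkMap_germ] at hb
  obtain ⟨V', hxV', i, j, hij⟩ := (ClSub.quotMod A).presheaf.germ_eq (U := V) (V := V) x hxV hxV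
    ((toS A).app V s) 0 (hb.trans (map_zero _).symm)
  obtain ⟨_, ⟨U, hU, rfl⟩, hxU, hUle⟩ := X.isBasis_affineOpens.exists_subset_of_mem_open
    (show x ∈ V' ⊓ W from ⟨hxV', hxW⟩) (V' ⊓ W).2
  have hle : U ≤ V' ⊓ W := hUle
  have hUV : U ≤ V := (hle.trans inf_le_left).trans i.le
  refine ⟨⟨U, hU⟩, hxU, (Coh.structureModule X).presheaf.map (homOfLE hUV).op s, hle.trans inf_le_right, ?_, ?_⟩
  · rw [← A.ker_subschemeι_app ⟨U, hU⟩, RingHom.mem_ker]
    show (toS A).app U ((Coh.structureModule X).presheaf.map (homOfLE hUV).op s) = 0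
    rw [app_map, show homOfLE hUV = homOfLE (hle.trans inf_le_left) ≫ i from Subsingleton.elim _ _, op_comp,
      Functor.map_comp]
    refine (congrArg ((ClSub.quotMod A).presheaf.map (homOfLE (hle.trans inf_le_left)).op) (hij.trans (map_zero _))).trans ?_
    exact map_zero _
  · exact ((Coh.structureModule X).presheaf.germ_res_apply (homOfLE hUV) x hxU s).symm

/-- A module killed by the ideal of `A` is unchanged by tensoring with `O/A`. -/
theorem isIso_tensor_toSubscheme (I : X.Modules) (A : X.IdealSheafData)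
    (h : ∀ (U : X.affineOpens), ∀ r ∈ A.ideal U, ∀ m : Γ(I, U.1), r • m = 0) :
    IsIso ((DCoh.tensorBi.obj I).map (toS A)) := by
  haveI : Epi (toS A) := CurvePoint.epi_toSubscheme A
  haveI : Mono ((DCoh.tensorBi.obj I).map (toS A)) := by
    refine Preadditive.mono_of_isZero_kernel _ (KFlatLib.isZero_of_stalk _ fun x => ?_)
    let F := DerSch.stalkFunctor X x
    haveI : Mono (F.map ((DCoh.tensorBi.obj I).map (toS A))) := by
      have hg : Function.Surjective (F.map (toS A)).hom := (ModuleCat.epi_iff_surjective _).1 inferInstance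
      have hz : ∀ (m : F.obj I) (b : F.obj (Coh.structureModule X)), (F.map (toS A)).hom b = 0 →
          (m ⊗ₜ[X.presheaf.stalk x] b : TensorProduct (X.presheaf.stalk x) (F.obj I)
            (F.obj (Coh.structureModule X))) = 0 := by
        intro m b hb
        obtain ⟨V, hxV, m, rfl⟩ := TopCat.Presheaf.exists_germ_eq I.presheaf m
        obtain ⟨U, hxU, r, hUV, hr, rfl⟩ := exists_ideal_germ A x b hb V hxV
        let e : F.obj (Coh.structureModule X) :=
          (Coh.structureModule X).presheaf.germ ⊤ x trivial (1 : Γ(X, ⊤))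
        have hre : ((Coh.structureModule X).presheaf.germ U.1 x hxU r : F.obj (Coh.structureModule X)) =
            X.presheaf.germ U.1 x hxU r • e := by
          have hs : (show Γ(Coh.structureModule X, U.1) from r) = r • (show Γ(Coh.structureModule X, U.1) from
              (Coh.structureModule X).presheaf.map (homOfLE le_top).op (1 : Γ(X, ⊤))) := by
            change r = r * X.presheaf.map (homOfLE le_top).op (1 : Γ(X, ⊤))
            rw [map_one, mul_one]
          refine (congrArg ((Coh.structureModule X).presheaf.germ U.1 x hxU) hs).trans ?_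
          refine (QCoh.germ_smul' (Coh.structureModule X) hxU r _).trans ?_
          exact congrArg (X.presheaf.germ U.1 x hxU r • ·)
            ((Coh.structureModule X).presheaf.germ_res_apply (homOfLE le_top) x hxU _)
        have hm : X.presheaf.germ U.1 x hxU r • (I.presheaf.germ V x hxV m : F.obj I) = 0 := by
          rw [← I.presheaf.germ_res_apply (homOfLE hUV) x hxU m]
          refine (QCoh.germ_smul' I hxU r _).symm.trans ?_
          rw [h U r hr, map_zero]
        rw [hre, ← TensorProduct.smul_tmul, hm, TensorProduct.zero_tmul]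
      have hm : Mono ((MonoidalCategory.tensorLeft (F.obj I)).map (F.map (toS A))) := by
        refine (ModuleCat.mono_iff_injective _).2 ?_
        show Function.Injective (LinearMap.lTensor (F.obj I) (F.map (toS A)).hom)
        rw [← LinearMap.ker_eq_bot]
        have hex := lTensor_exact (F.obj I) (LinearMap.exact_subtype_ker_map (F.map (toS A)).hom) hg
        rw [LinearMap.exact_iff.1 hex, LinearMap.range_eq_bot]
        exact TensorProduct.ext' fun m b => hz m b.1 b.2
      exact ((MorphismProperty.monomorphisms (ModuleCat.{u} (X.presheaf.stalk x))).arrow_mk_iso_iff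
        (((Functor.mapArrowFunctor _ _).mapIso (KFlatLib.stalkTensorLeftIso I x)).app (Arrow.mk (toS A)))).2 hm
    exact (isZero_kernel_of_mono (F.map ((DCoh.tensorBi.obj I).map (toS A)))).of_iso
      (PreservesKernel.iso F ((DCoh.tensorBi.obj I).map (toS A)))
  exact isIso_of_mono_of_epi _

theorem toS_app_eq_zero_of_le {J P : X.IdealSheafData} (h : J ≤ P) (U : X.Opens) (s : Γ(X, U))
    (hs : J.subschemeι.app U s = 0) : P.subschemeι.app U s = 0 := by
  have h1 := Scheme.Hom.congr_app (Scheme.IdealSheafData.inclusion_subschemeι h) U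
  rw [Scheme.Hom.comp_app] at h1
  have h2 := congrArg (fun g => g.hom s) h1
  simp only [CommRingCat.hom_comp, RingHom.comp_apply, hs, map_zero] at h2
  refine (ConcreteCategory.bijective_of_isIso (P.subscheme.presheaf.map _)).1 (h2.symm.trans (map_zero _).symm)

theorem ideal_comp_toS {J P : X.IdealSheafData} (h : J ≤ P) :
    ClSub.idealModι J ≫ toS P = 0 := by
  refine Scheme.Modules.hom_ext _ _ fun U => ?_
  ext s
  refine toS_app_eq_zero_of_le h U ((ClSub.idealModι J).app U s) ?_
  exact congrArg (fun φ : ClSub.idealMod J ⟶ ClSub.quotMod J => φ.app U s) (kernel.condition (toS J))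

/-- The quotient map `O/J ⟶ O/P`. -/
def quotMap {J P : X.IdealSheafData} (h : J ≤ P) : ClSub.quotMod J ⟶ ClSub.quotMod P :=
  haveI := CurvePoint.epi_toSubscheme J
  Abelian.epiDesc (toS J) (toS P) (ideal_comp_toS h)

@[reassoc]
theorem toS_quotMap {J P : X.IdealSheafData} (h : J ≤ P) : toS J ≫ quotMap h = toS P :=
  haveI := CurvePoint.epi_toSubscheme J
  Abelian.comp_epiDesc _ _ _

theorem epi_quotMap {J P : X.IdealSheafData} (h : J ≤ P) : Epi (quotMap h) :=
  haveI := CurvePoint.epi_toSubscheme P
  epi_of_epi_fac (toS_quotMap h)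

/-- A maximal point of a closed subscheme above a given one. -/
theorem exists_maximal_point (J : X.IdealSheafData) {x : X} (hx : x ∈ J.support) :
    ∃ ξ ∈ J.support, ξ ⤳ x ∧ ∀ z ∈ J.support, z ⤳ ξ → z = ξ := by
  obtain ⟨y, rfl⟩ : x ∈ Set.range J.subschemeι := by rw [J.range_subschemeι]; exact hx
  obtain ⟨η, hη⟩ := QuasiSober.sober (isIrreducible_irreducibleComponent (x := y))
    (isClosed_irreducibleComponent (x := y))
  have hr := J.range_subschemeι
  refine ⟨J.subschemeι η, hr.le ⟨η, rfl⟩, (hη.specializes mem_irreducibleComponent).map J.subschemeι.continuous,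
    fun z hz hzη => ?_⟩
  obtain ⟨w, rfl⟩ := hr.ge hz
  have hwη : w ⤳ η := J.subschemeι.isClosedEmbedding.isInducing.specializes_iff.1 hzη
  have hsub : irreducibleComponent y ⊆ closure {w} := by
    rw [← hη.def]
    exact closure_minimal (Set.singleton_subset_iff.2 hwη.mem_closure) isClosed_closure
  have heq : irreducibleComponent y = closure {w} :=
    ((irreducibleComponent_property y).2.2 _ isIrreducible_singleton.closure.2 hsub).symm
  exact congrArg J.subschemeι ((isGenericPoint_closure.eq (show IsGenericPoint η (closure {w}) from heq ▸ hη)))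

set_option maxHeartbeats 1000000 in
/-- The annihilator of the kernel of `O/J ⟶ O/P` strictly contains `J` when `P` is the prime of a maximal point. -/
theorem lt_annIdeal [IsNoetherian X] {J P : X.IdealSheafData} (h : J ≤ P) {ξ : X} (hξ : ξ ∈ J.support)
    (hmax : ∀ z ∈ J.support, z ⤳ ξ → z = ξ)
    (hP : ∀ (U : X.affineOpens) (hξU : ξ ∈ U.1), P.ideal U ≤ (U.2.primeIdealOf ⟨ξ, hξU⟩).asIdeal)
    (hq : Coh.IsQCoh (kernel (quotMap h))) (hft : CohB1.IsFT (kernel (quotMap h))) :
    J < QCoh.annIdeal hq hft := by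
  have hinj : ∀ U : X.Opens, Function.Injective ((kernel.ι (quotMap h)).app U) := fun U =>
    ZClosLib.app_injective_of_mono _ U
  have hsm : ∀ (U : X.Opens) (a : Γ(X, U)) (s : Γ(Coh.structureModule X, U)),
      (toS J).app U (show Γ(Coh.structureModule X, U) from a * (show Γ(X, U) from s)) = a • (toS J).app U s :=
    fun U a s => Scheme.Modules.Hom.app_smul (toS J) a s
  have hle : J ≤ QCoh.annIdeal hq hft := by
    intro U r hr
    show r ∈ Module.annihilator Γ(X, U.1) Γ(kernel (quotMap h), U.1)
    rw [Module.mem_annihilator]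
    intro m
    refine hinj U.1 ?_
    rw [Scheme.Modules.Hom.app_smul, map_zero]
    obtain ⟨s, hs⟩ := J.subschemeι_app_surjective U
      (show Γ(J.subscheme, J.subschemeι ⁻¹ᵁ U.1) from (kernel.ι (quotMap h)).app U.1 m)
    rw [show (kernel.ι (quotMap h)).app U.1 m = (toS J).app U.1 s from hs.symm, ← hsm]
    rw [← J.ker_subschemeι_app U, RingHom.mem_ker] at hr
    show J.subschemeι.app U.1 (r * s) = 0
    rw [map_mul, hr, zero_mul]
  refine lt_of_le_of_ne hle fun heq => ?_
  obtain ⟨_, ⟨U, hU, rfl⟩, hξU, -⟩ :=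
    X.isBasis_affineOpens.exists_subset_of_mem_open (Set.mem_univ ξ) isOpen_univ
  let R := Γ(X, U)
  haveI : IsNoetherianRing R := IsLocallyNoetherian.component_noetherian ⟨U, hU⟩
  let K := J.ideal ⟨U, hU⟩
  let p := (hU.primeIdealOf ⟨ξ, hξU⟩).asIdeal
  have hzero : ∀ q : PrimeSpectrum R, hU.fromSpec q ∈ J.support ↔ K ≤ q.asIdeal := fun q => by
    rw [Scheme.IdealSheafData.mem_support_iff_of_mem (U := ⟨U, hU⟩) (hU.range_fromSpec.le ⟨q, rfl⟩)]
    show q ∈ hU.fromSpec ⁻¹' X.zeroLocus (U := U) (K : Set R) ↔ _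
    rw [hU.fromSpec_preimage_zeroLocus]
    rfl
  have hpξ : hU.fromSpec (hU.primeIdealOf ⟨ξ, hξU⟩) = ξ := hU.fromSpec_primeIdealOf ⟨ξ, hξU⟩
  have hKp : K ≤ p := (hzero _).1 (hpξ.symm ▸ hξ)
  have hmin : p ∈ K.minimalPrimes := by
    refine ⟨⟨inferInstance, hKp⟩, fun q hq hqp => ?_⟩
    let q' : PrimeSpectrum R := ⟨q, hq.1⟩
    have hsp : hU.fromSpec q' ⤳ ξ := hpξ ▸
      ((PrimeSpectrum.le_iff_specializes q' (hU.primeIdealOf ⟨ξ, hξU⟩)).1 hqp).map hU.fromSpec.continuous
    have hqeq := hU.fromSpec.isOpenEmbedding.injective ((hmax _ ((hzero q').2 hq.2) hsp).trans hpξ.symm)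
    exact (congrArg PrimeSpectrum.asIdeal hqeq).ge
  have hass : p ∈ associatedPrimes R (R ⧸ K) := by
    refine Module.associatedPrimes.minimalPrimes_annihilator_subset_associatedPrimes R (R ⧸ K) ?_
    rwa [Ideal.annihilator_quotient]
  obtain ⟨hp, y, hy⟩ := isAssociatedPrime_iff.1 hass
  obtain ⟨r, rfl⟩ := Ideal.Quotient.mk_surjective y
  have hr : r ∉ K := fun hr => hp.ne_top (hy.trans (by
    rw [Ideal.Quotient.eq_zero_iff_mem.2 hr, Submodule.eq_top_iff']
    intro a
    rw [Submodule.mem_colon_singleton, smul_zero]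
    exact Submodule.zero_mem _))
  refine hr ?_
  have hK : r ∈ (QCoh.annIdeal hq hft).ideal ⟨U, hU⟩ := by
    show r ∈ Module.annihilator R Γ(kernel (quotMap h), U)
    rw [Module.mem_annihilator]
    intro m
    refine hinj U ?_
    rw [Scheme.Modules.Hom.app_smul, map_zero]
    obtain ⟨s, hs⟩ := J.subschemeι_app_surjective ⟨U, hU⟩
      (show Γ(J.subscheme, J.subschemeι ⁻¹ᵁ U) from (kernel.ι (quotMap h)).app U m)
    have hs' : (kernel.ι (quotMap h)).app U m = (toS J).app U s := hs.symm
    have hsP : s ∈ P.ideal ⟨U, hU⟩ := by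
      rw [← P.ker_subschemeι_app ⟨U, hU⟩, RingHom.mem_ker]
      show (toS P).app U s = 0
      rw [← toS_quotMap h]
      show (quotMap h).app U ((toS J).app U s) = 0
      rw [← hs']
      exact congrArg (fun φ : kernel (quotMap h) ⟶ ClSub.quotMod P => φ.app U m) (kernel.condition (quotMap h))
    have hsp : s ∈ p := hP ⟨U, hU⟩ hξU hsP
    have h0 : Ideal.Quotient.mk K (s * r) = 0 :=
      (Submodule.mem_bot R).1 (Submodule.mem_colon_singleton.1 (hy.le hsp))
    have h1 : r * s ∈ J.ideal ⟨U, hU⟩ := mul_comm s r ▸ Ideal.Quotient.eq_zero_iff_mem.1 h0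
    rw [hs', ← hsm]
    show J.subschemeι.app U (r * s) = 0
    exact RingHom.mem_ker.1 ((J.ker_subschemeι_app ⟨U, hU⟩).ge h1)
  rwa [← heq] at hK

end Groth.Agent.Curves16
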