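import Groth.Agent.SmoothReg.Scheme
import Groth.Agent.SmoothDim.Basic
import Mathlib

/-! Residue fields at ramified points of maps of smooth curves. -/

noncomputable section

set_option linter.style.haveILetI false
set_option backward.isDefEq.respectTransparency false
set_option backward.isDefEq.respectTransparency.types false

universe u

open CategoryTheory AlgebraicGeometry IsLocalRing

namespace Groth.Agent.Curves16

open Groth.Agent

attribute [local instance] Curv2.stalkAlgebra

/-- Ramified with separable residue extension forces a separable residue field, when differentials are cyclic. -/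
theorem isSeparable_residueField_of_ramified {k A B : Type u} [Field k] [CommRing A] [CommRing B]
    [IsLocalRing A] [IsLocalRing B] [Algebra k A] [Algebra k B] [Algebra A B] [IsScalarTower k A B]
    [IsLocalHom (algebraMap A B)] [Algebra.EssFiniteType k B] [IsNoetherianRing B]
    (ω : Ω[B⁄k]) (hω : Submodule.span B {ω} = ⊤) (hnf : ¬ IsField B) (e : ℕ) (h2 : 2 ≤ e)
    (he : (maximalIdeal A).map (algebraMap A B) = maximalIdeal B ^ e)
    [Algebra.IsSeparable (ResidueField A) (ResidueField B)] :
    Algebra.IsSeparable k (ResidueField B) := by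
  haveI : Algebra.EssFiniteType B (ResidueField B) := by
    haveI : Algebra.FiniteType B (ResidueField B) :=
      Algebra.FiniteType.of_surjective (Algebra.ofId B (ResidueField B)) residue_surjective
    infer_instance
  haveI : Algebra.EssFiniteType k (ResidueField B) := Algebra.EssFiniteType.comp k B _
  rw [← Algebra.FormallyUnramified.iff_isSeparable]
  by_contra hun
  -- some element of `A` has a nonzero differential in the residue field of `B`
  have hex : ∃ a : A, KaehlerDifferential.D k (ResidueField B) (residue B (algebraMap A B a)) ≠ 0 := by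
    by_contra hall
    push Not at hall
    haveI : Algebra.FormallyUnramified (ResidueField A) (ResidueField B) :=
      Algebra.FormallyUnramified.of_isSeparable _ _
    have hz : ∀ η : Ω[ResidueField A⁄k],
        KaehlerDifferential.map k k (ResidueField A) (ResidueField B) η = 0 := by
      intro η
      have hη : η ∈ Submodule.span (ResidueField A) (Set.range (KaehlerDifferential.D k (ResidueField A))) := by
        rw [KaehlerDifferential.span_range_derivation]; trivial
      induction hη using Submodule.span_induction with
      | mem z hz =>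
        obtain ⟨b, rfl⟩ := hz
        obtain ⟨a, rfl⟩ := residue_surjective b
        rw [KaehlerDifferential.map_D]
        exact hall a
      | zero => exact map_zero _
      | add z w _ _ hz hw => rw [map_add, hz, hw, add_zero]
      | smul r z _ hz => rw [map_smul, hz, smul_zero]
    refine hun ⟨subsingleton_of_forall_eq 0 fun y => ?_⟩
    obtain ⟨t, rfl⟩ := ((KaehlerDifferential.exact_mapBaseChange_map k (ResidueField A) (ResidueField B)) y).1
      (Subsingleton.elim _ _)
    induction t using TensorProduct.induction_on with
    | zero => exact map_zero _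
    | tmul b η => rw [KaehlerDifferential.mapBaseChange_tmul, hz, smul_zero]
    | add z w hz hw => rw [map_add, hz, hw, add_zero]
  obtain ⟨a, ha⟩ := hex
  obtain ⟨c, hc⟩ := Submodule.mem_span_singleton.1
    (hω.ge (Submodule.mem_top : KaehlerDifferential.D k B (algebraMap A B a) ∈ ⊤))
  have hcu : IsUnit c := by
    by_contra hcn
    refine ha ?_
    have h1 := congrArg (KaehlerDifferential.map k k B (ResidueField B)) hc
    rw [KaehlerDifferential.map_D, map_smul, ← algebraMap_smul (ResidueField B) c,
      show algebraMap B (ResidueField B) c = 0 from (residue_eq_zero_iff c).2 hcn, zero_smul] at h1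
    exact h1.symm
  -- hence `B` is unramified over `A`
  haveI : Algebra.FormallyUnramified A B := by
    refine ⟨subsingleton_of_forall_eq 0 fun y => ?_⟩
    obtain ⟨η, rfl⟩ := KaehlerDifferential.map_surjective k A B y
    obtain ⟨d, rfl⟩ := Submodule.mem_span_singleton.1 (hω.ge (Submodule.mem_top : η ∈ ⊤))
    have h0 : KaehlerDifferential.map k A B B ω = 0 := by
      rw [← hcu.smul_eq_zero, ← map_smul, hc, KaehlerDifferential.map_D]
      exact Derivation.map_algebraMap _ a
    rw [map_smul, h0, smul_zero]
  haveI : Algebra.EssFiniteType A B := Algebra.EssFiniteType.of_comp k A B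
  have hm : maximalIdeal B = maximalIdeal B ^ e :=
    (Algebra.FormallyUnramified.map_maximalIdeal (R := A) (S := B)).symm.trans he
  refine hnf ((isField_iff_maximalIdeal_eq).2 ?_)
  refine Submodule.eq_bot_of_le_smul_of_le_jacobson_bot (maximalIdeal B) (maximalIdeal B)
    (IsNoetherian.noetherian _) ?_ (maximalIdeal_le_jacobson _)
  rw [smul_eq_mul, ← pow_two]
  exact hm.le.trans (Ideal.pow_le_pow_right h2)

theorem height_maximal_ge (k B : Type u) [Field k] [CommRing B] [Algebra k B]
    (n : ℕ) [Algebra.IsStandardSmoothOfRelativeDimension n k B] (m : Ideal B) [hm : m.IsMaximal] :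
    (n : ℕ∞) ≤ m.height := by
  haveI : Nontrivial B := Ideal.Quotient.mk_surjective.nontrivial (f := Ideal.Quotient.mk m)
  obtain ⟨g, hg⟩ := Algebra.IsStandardSmoothOfRelativeDimension.exists_etale_mvPolynomial (n := n) k B
  let R := MvPolynomial (Fin n) k
  let : Algebra R B := g.toRingHom.toAlgebra
  have : IsScalarTower k R B := IsScalarTower.of_algebraMap_eq fun x => (g.commutes x).symm
  have : Algebra.Etale R B := hg
  have : Algebra.FiniteType k B := Algebra.FiniteType.trans (S := R) inferInstance inferInstance
  have : IsNoetherianRing B := Algebra.FiniteType.isNoetherianRing k B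
  have : IsJacobsonRing R := inferInstance
  let M : PrimeSpectrum R := ⟨m.under R, inferInstance⟩
  have hM : M.asIdeal.IsMaximal := by
    let _ := Ideal.Quotient.field m
    have : Module.Finite k (B ⧸ m) := finite_of_finite_type_of_isJacobsonRing k (B ⧸ m)
    have : Algebra.IsIntegral R (B ⧸ m) := Algebra.IsIntegral.tower_top k
    have h : ((⊥ : Ideal (B ⧸ m)).comap (algebraMap R (B ⧸ m))).IsMaximal :=
      Ideal.isMaximal_comap_of_isIntegral_of_isMaximal _
    convert! h using 1
    show m.comap (algebraMap R B) = _
    rw [IsScalarTower.algebraMap_eq R B (B ⧸ m), ← Ideal.comap_comap, Ideal.Quotient.algebraMap_eq,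
      ← RingHom.ker_eq_comap_bot, Ideal.mk_ker]
  have h1 : (M.asIdeal).height ≤ m.height := by
    rw [Ideal.height_eq_height_add_of_liesOver_of_hasGoingDown M.asIdeal m]
    exact le_self_add
  rwa [M.height_eq_orderHeight, SmoothDim.height_maximal_mvPolynomial k n M hM] at h1

/-- The local ring at a closed point of a smooth curve: cyclic differentials, not a field. -/
theorem stalk_facts (k : Type u) [Field k] (X : Scheme.{u}) [X.Over (Spec (CommRingCat.of k))]
    [SmoothOfRelativeDimension 1 (X ↘ Spec (CommRingCat.of k))] (x : X) :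
    Algebra.EssFiniteType k (X.presheaf.stalk x) ∧ IsNoetherianRing (X.presheaf.stalk x) ∧
      (∃ ω : Ω[X.presheaf.stalk x⁄k], Submodule.span (X.presheaf.stalk x) {ω} = ⊤) ∧
      (IsClosed ({x} : Set X) → ¬ IsField (X.presheaf.stalk x)) := by
  obtain ⟨W, hW, V, hV, hxV, e, hstd⟩ :=
    SmoothOfRelativeDimension.exists_isStandardSmoothOfRelativeDimension (n := 1)
      (f := X ↘ Spec (CommRingCat.of k)) x
  haveI : Subsingleton (Spec (CommRingCat.of k)) := inferInstanceAs (Subsingleton (PrimeSpectrum k))
  obtain rfl : W = ⊤ := top_le_iff.1 fun y _ =>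
    Subsingleton.elim ((X ↘ Spec (CommRingCat.of k)) x) y ▸ e hxV
  let R := Γ(X, V)
  letI : Algebra k R := (SmoothReg.affMap (X ↘ Spec (CommRingCat.of k)) V).toAlgebra
  haveI : Algebra.IsStandardSmoothOfRelativeDimension 1 k R :=
    RingHom.isStandardSmoothOfRelativeDimension_respectsIso.2
      ((X ↘ Spec (CommRingCat.of k)).appLE ⊤ V e).hom
      (Scheme.ΓSpecIso (CommRingCat.of k)).symm.commRingCatIsoToRingEquiv hstd
  haveI : Algebra.IsStandardSmooth k R := Algebra.IsStandardSmoothOfRelativeDimension.isStandardSmooth 1
  haveI : IsNoetherianRing R := Algebra.FiniteType.isNoetherianRing k R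
  letI := X.presheaf.algebra_section_stalk ⟨x, hxV⟩
  let p := (hV.primeIdealOf ⟨x, hxV⟩).asIdeal
  haveI : IsLocalization.AtPrime (X.presheaf.stalk x) p := hV.isLocalization_stalk ⟨x, hxV⟩
  haveI : IsScalarTower k R (X.presheaf.stalk x) := IsScalarTower.of_algebraMap_eq fun c => by
    change X.presheaf.germ ⊤ x trivial (Coh.toGlobal (X ↘ Spec (CommRingCat.of k)) c) =
      X.presheaf.germ V x hxV (X.presheaf.map (homOfLE le_top).op _)
    exact (X.presheaf.germ_res_apply (homOfLE le_top) x hxV _).symm
  haveI : Algebra.EssFiniteType R (X.presheaf.stalk x) :=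
    Algebra.EssFiniteType.of_isLocalization _ p.primeCompl
  refine ⟨Algebra.EssFiniteType.comp k R _, IsLocalization.isNoetherianRing p.primeCompl _ inferInstance,
    ?_, fun hx hF => ?_⟩
  · haveI : Nontrivial R := (algebraMap R (X.presheaf.stalk x)).domain_nontrivial
    obtain ⟨b⟩ : Nonempty (Module.Basis (Fin 1) R Ω[R⁄k]) :=
      ⟨Module.finBasisOfFinrankEq R _ (Module.finrank_eq_of_rank_eq
        (Algebra.IsStandardSmoothOfRelativeDimension.rank_kaehlerDifferential 1))⟩
    refine ⟨KaehlerDifferential.map k k R (X.presheaf.stalk x) (b 0), top_le_iff.1 fun η _ => ?_⟩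
    haveI := KaehlerDifferential.isLocalizedModule_map k R (X.presheaf.stalk x) p.primeCompl
    obtain ⟨⟨z, s⟩, hzs⟩ := IsLocalizedModule.surj p.primeCompl
      (KaehlerDifferential.map k k R (X.presheaf.stalk x)) η
    have hz : (s : R) • η ∈ Submodule.span (X.presheaf.stalk x)
        {KaehlerDifferential.map k k R (X.presheaf.stalk x) (b 0)} := by
      rw [show (s : R) • η = KaehlerDifferential.map k k R (X.presheaf.stalk x) z from hzs,
        ← b.sum_repr z, Fin.sum_univ_one, map_smul, ← algebraMap_smul (X.presheaf.stalk x) (b.repr z 0)]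
      exact Submodule.smul_mem _ _ (Submodule.mem_span_singleton_self _)
    rw [← algebraMap_smul (X.presheaf.stalk x) (s : R)] at hz
    exact ((Submodule.smul_mem_iff_of_isUnit _ (IsLocalization.map_units (X.presheaf.stalk x) s)).1 hz)
  · haveI : p.IsMaximal := hV.primeIdealOf_isMaximal_of_isClosed ⟨x, hxV⟩ hx
    have h1 := height_maximal_ge k R 1 p
    have h2 := IsLocalization.AtPrime.ringKrullDim_eq_height p (X.presheaf.stalk x)
    rw [ringKrullDim_eq_zero_of_isField hF] at h2
    have h3 : p.height = 0 := by exact_mod_cast h2.symm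
    rw [h3] at h1
    simp at h1

end Groth.Agent.Curves16
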